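import Cfsg.Agent.H42.McK
import Cfsg.Agent.H49.DCov
import Cfsg.Agent.H90.SL25
import Cfsg.Agent.H2.PrimeCore

/-! The identification with `McL` in the blueprint `LOCAL3C.md`. -/

set_option autoImplicit false

namespace H81.MC

open Cfsg Subgroup H14 H98 H56.L3 H42.L3 H47.MC H42.MC Equiv Equiv.Perm
open scoped Matrix

universe u

variable {G : Type u} [Group G] [Finite G] {v : V → G} {J Qa L₁ : Subgroup G} {t r τ σ f : G}
  (h : H47.MC.Loc v J Qa L₁ t r τ σ f)
include h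

omit [Finite G] in
theorem ne_of_acts {g k : G} {M N : Mat} (hg : Acts v g M) (hk : Acts v k N) (x : V)
    (e : M *ᵥ x ≠ N *ᵥ x) : g ≠ k := by
  rintro rfl
  exact e (h.inj ((hg x).symm.trans (hk x)))

omit [Finite G] in
theorem t_ne : t ≠ 1 := ne_of_acts h h.aT acts_one ![0, 0, 1, 0] (by decide)

omit [Finite G] in
theorem f_mem : f ∈ Ce t := (h.Lle h.fL).1

omit [Finite G] in
/-- a normal subgroup of odd order meets `J` trivially -/
theorem J_inf {O : Subgroup G} [hO : O.Normal] (ho : Odd (Nat.card O)) : J ⊓ O = ⊥ := by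
  have key : v vz' ∉ O := fun hz => by
    obtain ⟨e⟩ := h.Liso
    rcases H90.normal_SL5 ((O.subgroupOf L₁).comap e.symm.toMonoidHom) with h1 | h1
    · have : e ⟨_, h.zL⟩ ∈ (O.subgroupOf L₁).comap e.symm.toMonoidHom := by
        simpa [mem_subgroupOf] using hz
      rw [h1, mem_bot, map_eq_one_iff _ e.injective, Subtype.ext_iff] at this
      exact absurd ((v_eq_one h.toCoord).1 this) (by decide)
    · have h2 : orderOf ((e.symm (-1) : L₁) : G) = 2 := by
        rw [orderOf_coe, e.symm.orderOf_eq]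
        exact orderOf_eq_prime (by decide) (by decide)
      exact absurd (ho.of_dvd_nat (h2 ▸ orderOf_dvd_natCard O h1)) (by decide)
  refine eq_bot_iff.2 fun g ⟨hg, hg'⟩ => ?_
  obtain ⟨x, rfl⟩ := (h.mem g).1 hg
  by_contra e
  have h0 : x ≠ 0 := by
    rintro rfl
    exact e (v_zero h.toCoord)
  have tr : ∀ {a b c : V} {g k : G}, g * v a * g⁻¹ = v b → k * v a * k⁻¹ = v c → v b ∈ O →
      v c ∈ O := fun {a b c g k} e1 e2 hb => by
    have := hO.conj_mem _ hb (k * g⁻¹)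
    rwa [← e1, show k * g⁻¹ * (g * v a * g⁻¹) * (k * g⁻¹)⁻¹ = k * v a * k⁻¹ by group, e2] at this
  by_cases hq : q x = 0
  · obtain ⟨g, -, e1⟩ := h.orb0 x h0 hq
    obtain ⟨k, -, e2⟩ := h.orb0 vz' (by decide) (by decide)
    exact key (tr e1 e2 hg')
  · obtain ⟨g, -, e1⟩ := h.orb1 x hq
    obtain ⟨k, -, e2⟩ := h.orb1 vy (by decide)
    obtain ⟨l, -, e3⟩ := h.orb1 ![0, -1, 0, 0] (by decide)
    exact key ((by decide : vy + ![0, -1, 0, 0] = vz') ▸ h.add _ _ ▸
      O.mul_mem (tr e1 e2 hg') (tr e1 e3 hg'))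

omit [Finite G] in
theorem dvd_card {O C : Subgroup G} [O.Normal] (ho : Odd (Nat.card O)) (hJ : J ≤ C ⊔ O) :
    81 ∣ Nat.card C := by
  let p := QuotientGroup.mk' O
  have h1 : J.map p ≤ C.map p := (map_mono hJ).trans (by
    rw [Subgroup.map_sup, (map_eq_bot_iff O).2 (QuotientGroup.ker_mk' O).ge, sup_bot_eq])
  have h2 : Function.Injective (p.comp J.subtype) := (injective_iff_map_eq_one _).2 fun a ha =>
    Subtype.ext (mem_bot.1 ((J_inf h ho).le ⟨a.2, (QuotientGroup.eq_one_iff _).1 ha⟩))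
  have h3 : Nat.card (J.map p) = 81 := by
    rw [← card_J h.toCoord, ← J.range_subtype, MonoidHom.map_range, J.range_subtype]
    exact (Nat.card_congr (MonoidHom.ofInjective h2).toEquiv).symm
  exact h3 ▸ (card_dvd_of_le h1).trans (card_map_dvd _ _)

omit [Finite G] in
theorem mkDC {K : Type*} [Group K] {j : K →* G} (hj : Function.Injective j)
    {π : K →* Perm (Fin 8)} {z f' : K} (hz : j z = t) (hf : j f' = f) (hc : ∀ k, j k ∈ Ce t)
    (hk : ∀ k, π k = 1 ↔ j k ∈ zpowers t) (hr : π.range = alternatingGroup _) : H49.DC z π := by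
  have cen : ∀ k, Commute z k := fun k => hj (by rw [map_mul, map_mul, hz, mem_Ce.1 (hc k)])
  have ker : ∀ k, π k = 1 ↔ k = 1 ∨ k = z := fun k => by
    rw [hk, mem_zp h.tt, ← hz, hj.eq_iff, map_eq_one_iff j hj]
  have zz : z * z = 1 := hj (by rw [map_mul, hz, h.tt, map_one])
  have ff : f' * f' = z := hj (by rw [map_mul, hz, hf, h.ff])
  refine ⟨fun e => t_ne h (by rw [← hz, e, map_one]), cen, ker, hr, fun L hL => ?_⟩
  obtain ⟨k, h1, h2⟩ := hL (π f') (mem_alternatingGroup.1 (hr ▸ ⟨f', rfl⟩))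
  have : k * k = z := by
    rcases (ker (k * f'⁻¹)).1 (by rw [map_mul, map_inv, h2, mul_inv_cancel]) with e | e
    · rw [mul_inv_eq_one.1 e, ff]
    · rw [mul_inv_eq_iff_eq_mul.1 e, (cen f').symm.mul_mul_mul_comm, zz, one_mul, ff]
  exact this ▸ L.mul_mem h1 h1

omit [Finite G] in
theorem card_Ce {π : Ce t →* Perm (Fin 8)} (hk : ∀ g, π g = 1 ↔ (g : G) ∈ zpowers t) :
    Nat.card (Ce t) = 2 * Nat.card π.range := by
  have h1 : π.ker = (zpowers t).subgroupOf (Ce t) := Subgroup.ext hk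
  rw [← H49.card_ker_mul π, h1, Nat.card_congr (subgroupOfEquivOfLe
    (zpowers_le.2 (mem_Ce.2 rfl))).toEquiv, Nat.card_zpowers,
    orderOf_eq_prime (by rw [pow_two, h.tt]) (t_ne h)]

theorem mcl (h34 : R3334.{u}) {π : Ce t →* Perm (Fin 8)} (hk : ∀ g, π g = 1 ↔ (g : G) ∈ zpowers t)
    (hs : ∀ s, sign s = 1 → ∃ g, π g = s) (N : Subgroup G) [N.Normal]
    (hN : ∀ x : Ce t, (x : G) ∈ N ↔ sign (π x) = 1) (hf : f ∈ N) (hJ : J ≤ N) :
    Nonempty (N ≃* Spor.McL) := by
  have ht : t ∈ N := h.ff ▸ N.mul_mem hf hf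
  let K := centralizer ({(⟨t, ht⟩ : N)} : Set N)
  have hc : ∀ k : N, k ∈ K ↔ (k : G) ∈ Ce t := fun k => by
    rw [mem_Ce, mem_centralizer_singleton_iff, Subtype.ext_iff]
    rfl
  let j : K →* G := N.subtype.comp K.subtype
  let j' : K →* Ce t := j.codRestrict _ fun k => (hc k).1 k.2
  have D : H49.DC (⟨⟨t, ht⟩, (hc _).2 (mem_Ce.2 rfl)⟩ : K) (π.comp j') :=
    mkDC h (j := j) (N.subtype_injective.comp K.subtype_injective)
      (f' := ⟨⟨f, hf⟩, (hc _).2 (f_mem h)⟩) rfl rfl (fun k => (hc k).1 k.2) (fun k => hk _) (by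
        ext s
        refine ⟨?_, fun e => ?_⟩
        · rintro ⟨k, rfl⟩
          exact (hN (j' k)).1 k.1.2
        · obtain ⟨g, rfl⟩ := hs s e
          exact ⟨⟨⟨g, (hN g).2 e⟩, (hc _).2 g.2⟩, rfl⟩)
  refine (h34 N ⟨t, ht⟩ ?_ D.nonsplit).resolve_left fun e => ?_
  · rw [← orderOf_coe]
    exact orderOf_eq_prime (by rw [pow_two, h.tt]) (t_ne h)
  have : ((oddCore N).map N.subtype).Normal := normal_of_top_le_normalizer
    (le_normalizer_of_normal.trans (normalizer_le_normalizer_map_subtype _))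
  have h1 := dvd_card h (O := (oddCore N).map N.subtype) (C := Ce t)
    (card_map_of_injective N.subtype_injective ▸ H2.odd_card_oddCore N) (by
      refine hJ.trans ?_
      have := congrArg (Subgroup.map N.subtype) e
      rw [Subgroup.map_sup, ← MonoidHom.range_eq_map, range_subtype] at this
      refine this.ge.trans (sup_le_sup_right ?_ _)
      rintro _ ⟨k, hk, rfl⟩
      exact (hc k).1 hk)
  rw [card_Ce h hk] at h1
  have h2 := h1.trans (Nat.mul_dvd_mul_left 2 (card_subgroup_dvd_card π.range))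
  rw [Nat.card_perm, Nat.card_fin] at h2
  exact absurd h2 (by decide)

omit h [Finite G] in
theorem jobXB1 : JobXB1.{u} := by
  rintro h34 G _ _ v J Qa L₁ t r τ σ f h ⟨π, hs, hk⟩
  obtain ⟨e⟩ := mcl h h34 (π := (alternatingGroup _).subtype.comp π)
    (fun g => by rw [← hk, Subtype.ext_iff]; rfl)
    (fun s e => let ⟨g, hg⟩ := hs ⟨s, e⟩; ⟨g, congrArg Subtype.val hg⟩) ⊤
    (fun x => iff_of_true trivial (π x).2) trivial le_top
  exact ⟨topEquiv.symm.trans e⟩

end H81.MC
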