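import Cfsg.Agent.H81.McXB1
import Cfsg.Agent.H8.TransferEval
import Cfsg.Agent.S2073

/-! The identification with `Aut(McL)` in the blueprint `LOCAL3C.md`. -/

set_option autoImplicit false

namespace H81.MC

open Cfsg Subgroup H14 H98 H56.L3 H42.L3 H47.MC H42.MC Equiv Equiv.Perm
open scoped Matrix

universe u

theorem inv_type {ρ : Perm (Fin 8)} (h2 : ρ ^ 2 = 1) (h1 : ρ ≠ 1) :
    ∃ n, ρ.cycleType = Multiset.replicate (n + 1) 2 ∧ ρ.support.card = (n + 1) * 2 := by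
  have ho : orderOf ρ = 2 := orderOf_eq_prime h2 h1
  obtain ⟨n, hn⟩ := cycleType_prime_order (σ := ρ) (ho ▸ Nat.prime_two)
  rw [ho] at hn
  exact ⟨n, hn, by rw [← sum_cycleType, hn, Multiset.sum_replicate, smul_eq_mul]⟩

theorem inv_conj {ρ ρ' : Perm (Fin 8)} (h2 : ρ ^ 2 = 1) (h1 : ρ ≠ 1) (h2' : ρ' ^ 2 = 1)
    (h1' : ρ' ≠ 1) (e : ρ.support.card = ρ'.support.card) : ∃ c, c * ρ * c⁻¹ = ρ' := by
  obtain ⟨n, h3, h4⟩ := inv_type h2 h1
  obtain ⟨m, h5, h6⟩ := inv_type h2' h1'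
  obtain rfl : n = m := by omega
  exact isConj_iff.1 (isConj_of_cycleType_eq (h3.trans h5.symm))

def pa : Perm (Fin 8) := swap 0 4 * swap 0 2 * (swap 1 5 * swap 1 3)
def pb : Perm (Fin 8) := swap 0 1 * pa⁻¹ * swap 0 1

theorem odd_inv {ρ : Perm (Fin 8)} (h2 : ρ ^ 2 = 1) (hs : sign ρ ≠ 1) :
    ∃ c ρ', c * ρ' * c⁻¹ = ρ ∧ Commute ρ' pa ∧ Commute ρ' pb := by
  have h1 : ρ ≠ 1 := fun e => hs (by rw [e, map_one])
  obtain ⟨n, h3, h4⟩ := inv_type h2 h1
  have h5 : ρ.support.card ≤ 8 := by simpa using ρ.support.card_le_univ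
  rw [sign_of_cycleType, h3] at hs
  have : n = 0 ∨ n = 1 ∨ n = 2 ∨ n = 3 := by omega
  rcases this with rfl | rfl | rfl | rfl
  · obtain ⟨c, e⟩ := inv_conj (ρ := swap 6 7) (by decide) (by decide) h2 h1 (by rw [h4]; decide)
    exact ⟨c, _, e, by unfold Commute SemiconjBy; decide, by unfold Commute SemiconjBy; decide⟩
  · exact absurd (by decide) hs
  · obtain ⟨c, e⟩ := inv_conj (ρ := swap 0 1 * swap 2 3 * swap 4 5) (by decide) (by decide) h2 h1
      (by rw [h4]; decide)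
    exact ⟨c, _, e, by unfold Commute SemiconjBy; decide, by unfold Commute SemiconjBy; decide⟩
  · exact absurd (by decide) hs

variable {G : Type u} [Group G] [Finite G] {v : V → G} {J Qa L₁ : Subgroup G} {t r τ σ f : G}
  (h : H47.MC.Loc v J Qa L₁ t r τ σ f)
include h

omit [Finite G] in
theorem r_mem : r ∈ Ce t := mem_Ce.2 h.tr.symm

omit [Finite G] in
theorem u_mem : τ ∈ Ce t := mem_Ce.2 h.tu.symm

omit [Finite G] in
theorem r_not : r ∉ zpowers t := fun e => ((mem_zp h.tt).1 e).elim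
  (ne_of_acts h h.aR acts_one ![0, 1, 0, 0] (by decide))
  (ne_of_acts h h.aR h.aT ![0, 1, 0, 0] (by decide))

/-- the plane spanned by two vectors -/
def pl (x y : V) : Multiplicative (ZMod 3 × ZMod 3) →* G :=
  MonoidHom.mk' (fun p => v (p.toAdd.1 • x + p.toAdd.2 • y)) fun a b => by
    rw [← h.add]
    congr 1
    simp only [toAdd_mul, Prod.fst_add, Prod.snd_add, add_smul]
    abel

omit [Finite G] in
theorem card_pl {x y : V} (e : ∀ a b : ZMod 3, a • x + b • y = 0 → a = 0 ∧ b = 0) :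
    Nat.card (pl h x y).range = 9 := by
  have : Function.Injective (pl h x y) := (injective_iff_map_eq_one _).2 fun a ha =>
    Prod.ext_iff.2 (e _ _ ((v_eq_one h.toCoord).1 ha))
  rw [← Nat.card_congr (MonoidHom.ofInjective this).toEquiv]
  simp

omit [Finite G] in
theorem pl_le (x y : V) : (pl h x y).range ≤ J := by
  rintro _ ⟨a, rfl⟩
  exact v_mem h.toCoord _

omit [Finite G] in
theorem pl_le_Ce {g : G} {M : Mat} (hg : Acts v g M) {x y : V} (hx : M *ᵥ x = x)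
    (hy : M *ᵥ y = y) : (pl h x y).range ≤ Ce g := by
  rintro _ ⟨a, rfl⟩
  refine mem_Ce.2 (mem_Ce.1 ((acts_mem_Ce h.toCoord hg).2 ?_)).symm
  rw [Matrix.mulVec_add, Matrix.mulVec_smul, Matrix.mulVec_smul, hx, hy]

variable {π : Ce t →* Perm (Fin 8)} (hs : Function.Surjective π)
  (hk : ∀ g, π g = 1 ↔ (g : G) ∈ zpowers t)

omit [Finite G] in
theorem f_even : sign (π ⟨f, f_mem h⟩) = 1 := by
  obtain ⟨e⟩ := h.Liso
  have := Abelianization.commutator_subset_ker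
    ((sign.comp (π.comp (inclusion (h.Lle.trans inf_le_left)))).comp e.symm.toMonoidHom)
    (H90.commutator_SL5.ge (mem_top (e ⟨f, h.fL⟩)))
  rwa [MonoidHom.mem_ker, MonoidHom.comp_apply, MulEquiv.coe_toMonoidHom, e.symm_apply_apply] at this

include hk

omit [Finite G] in
theorem eq_or {a b : Ce t} (e : π a = π b) : (a : G) = b ∨ (a : G) = t * b :=
  ((mem_zp h.tt).1 ((hk (a * b⁻¹)).1 (by rw [map_mul, map_inv, e, mul_inv_cancel]))).imp
    mul_inv_eq_one.1 mul_inv_eq_iff_eq_mul.1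

omit [Finite G] in
theorem comm3 {a b : Ce t} (h3 : (b : G) ^ 3 = 1) (e : Commute (π a) (π b)) :
    (a : G) * b = b * a := by
  rcases eq_or h hk (a := a * b * a⁻¹) (b := b) (by rw [map_mul, map_mul, map_inv, e.eq]; group)
    with e1 | e1
  · exact mul_inv_eq_iff_eq_mul.1 e1
  · have e2 : ((a : G) * b * (a : G)⁻¹) ^ 3 = (t * b) ^ 3 := congrArg (· ^ 3) e1
    rw [conj_pow, (show Commute t b from (mem_Ce.1 b.2).symm).mul_pow, h3, pow_succ, pow_two,
      h.tt] at e2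
    exact absurd (by simpa using e2.symm) (t_ne h)

include hs

omit [Finite G] in
theorem dc0 : ∃ z : (alternatingGroup (Fin 8)).comap π, (z.1 : G) = t ∧
    H49.DC z (π.comp ((alternatingGroup (Fin 8)).comap π).subtype) := by
  have ht : π ⟨t, mem_Ce.2 rfl⟩ = 1 := (hk _).2 (mem_zpowers t)
  refine ⟨⟨⟨t, mem_Ce.2 rfl⟩, mem_comap.2 (ht ▸ one_mem _)⟩, rfl,
    mkDC h (j := (Ce t).subtype.comp (Subgroup.subtype _))
      ((Ce t).subtype_injective.comp (subtype_injective _)) (f' := ⟨⟨f, f_mem h⟩, f_even h⟩) rfl rfl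
      (fun k => k.1.2) (fun k => hk _) ?_⟩
  rw [MonoidHom.range_comp, range_subtype, map_comap_eq_self_of_surjective hs]

omit [Finite G] in
theorem r_even : sign (π ⟨r, r_mem h⟩) = 1 := by
  by_contra hr
  obtain ⟨c, ρ, e, h1, h2⟩ := odd_inv (by
    rw [← map_pow, (Subtype.ext (by simp [pow_two, h.rr]) : (⟨r, r_mem h⟩ : Ce t) ^ 2 = 1),
      map_one]) hr
  obtain ⟨c, rfl⟩ := hs c
  obtain ⟨z, hz, D⟩ := dc0 h hs hk
  obtain ⟨a, ha, ha3⟩ := D.lift_three (σ := pa) (by decide) (by decide)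
  obtain ⟨b, hb, hb3⟩ := D.lift_three (σ := pb) (by decide) (by decide)
  have h3 := D.sq_swap (a := 2) (b := 3) (c := 0) (d := 1) (by decide) (by decide) (by decide)
    (by decide) (by decide) (by decide) (g := a * b) (by rw [map_mul, ha, hb]; decide)
  have key : ∀ x : (alternatingGroup (Fin 8)).comap π, x ^ 3 = 1 → Commute ρ (π x) →
      (c : G) * x.1 * (c : G)⁻¹ ∈ Ce r := fun x h3 hc => mem_Ce.2 (comm3 h hk
        (a := ⟨r, r_mem h⟩) (b := c * x.1 * c⁻¹) (by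
          have : (x.1 : G) ^ 3 = 1 := congrArg (fun y => (y.1 : G)) h3
          simp [this]) (by
          rw [← e, map_mul, map_mul, map_inv]
          exact (Commute.map hc (MulAut.conj (π c)) :))).symm
  have h4 : ((a.1 : G) * b.1) ^ 2 = t := (congrArg (fun y => (y.1 : G)) h3).trans hz
  obtain ⟨g, h5, h6, h7⟩ : ∃ g, g ∈ Ce t ∧ g ∈ Ce r ∧ g ^ 2 = t :=
    ⟨c * (a.1 * b.1) * (c : G)⁻¹, mul_mem (mul_mem c.2 (mul_mem a.1.2 b.1.2)) (inv_mem c.2), by
      simpa [mul_assoc] using mul_mem (key a ha3 (ha ▸ h1 :)) (key b hb3 (hb ▸ h2 :)), by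
      rw [conj_pow, h4, mem_Ce'.1 c.2]⟩
  have h8 := mem_Ce.1 (h.st ▸ conj_mem_Ce h5 σ)
  have h9 := mem_Ce.1 (h.sr ▸ conj_mem_Ce h6 σ)
  have h10 : σ * g * σ⁻¹ ∈ Ce t := mem_Ce.2 (mul_right_cancel (b := r) (by
    rw [mul_assoc _ t, h9, mul_assoc t, mul_assoc t, h8]))
  have : (⟨r, r_mem h⟩ : Ce t) = ⟨_, h10⟩ ^ 2 := Subtype.ext (by simp [h7, h.st])
  exact hr (by rw [this, map_pow, map_pow, Int.units_sq])

omit [Finite G] in
theorem conj_r {w : G} (hw : w ∈ Ce t) (h2 : w * w = 1) (he : sign (π ⟨w, hw⟩) = 1)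
    (h1 : w ∉ zpowers t) : ∃ c ∈ Ce t, c * r * c⁻¹ = w := by
  obtain ⟨z, hz, D⟩ := dc0 h hs hk
  have key : ∀ w : Ce t, (w : G) * w = 1 → sign (π w) = 1 → (w : G) ∉ zpowers t →
      π w ^ 2 = 1 ∧ π w ≠ 1 ∧ (π w).support.card = 8 := fun w h2 he h1 => by
    have h3 : w ^ 2 = 1 := Subtype.ext (by simpa [pow_two] using h2)
    exact ⟨by rw [← map_pow, h3, map_one], fun e => h1 ((hk _).1 e), le_antisymm
      (by simpa using (π w).support.card_le_univ)
      (D.eight_le (u := ⟨w, he⟩) (Subtype.ext h3) fun e => h1 ((hk _).1 e))⟩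
  obtain ⟨h3, h4, h5⟩ := key _ h.rr (r_even h hs hk) (r_not h)
  obtain ⟨h6, h7, h8⟩ := key ⟨w, hw⟩ h2 he h1
  obtain ⟨c, e⟩ := inv_conj h3 h4 h6 h7 (h5.trans h8.symm)
  obtain ⟨c, rfl⟩ := hs c
  rw [← map_inv, ← map_mul, ← map_mul] at e
  rcases eq_or h hk e with e1 | e1
  · exact ⟨c, c.2, e1⟩
  · refine ⟨c * τ, mul_mem c.2 (u_mem h), ?_⟩
    have e2 : (c : G) * r * (c : G)⁻¹ = t * w := e1
    calc _ = c * (τ * r * τ⁻¹) * (c : G)⁻¹ := by group
      _ = c * r * (c : G)⁻¹ * (c * t * (c : G)⁻¹) := by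
        rw [inv_eq_of_mul_eq_one_right h.uu, h.uru]; group
      _ = _ := by rw [e2, mem_Ce'.1 c.2, ← mem_Ce.1 hw, mul_assoc, h.tt, mul_one]

theorem odd_index : Odd (Ce t).index := by
  obtain ⟨T, hT, hf⟩ := exists_isSyl_le (isPGroup_zpowers (p := 2) (x := f) (k := 2) (by
    rw [pow_two 2, pow_mul, pow_two, pow_two, h.ff, h.tt])) (zpowers_le.2 (f_mem h))
  have key : nr T ≤ Ce t := fun g hg => by
    by_contra hg'
    have h1 := hT.le (conj_mem_of_mem_normalizer hg (zpowers_le.1 hf))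
    have h2 : (g * f * g⁻¹) ^ 2 = g * t * g⁻¹ := by rw [conj_pow, pow_two, h.ff]
    have h3 : g * t * g⁻¹ ∈ Ce t := h2 ▸ pow_mem h1 2
    obtain ⟨c, hc, e⟩ := conj_r h hs hk h3 (by rw [conj_mul, h.tt]; group) (by
      rw [show (⟨_, h3⟩ : Ce t) = ⟨_, h1⟩ ^ 2 from Subtype.ext h2.symm, map_pow, map_pow,
        Int.units_sq]) fun e => ((mem_zp h.tt).1 e).elim
          (fun e => t_ne h (by simpa using e)) fun e => hg' (mem_Ce'.2 e)
    have h4 : T ≤ Ce t ⊓ Ce (g * t * g⁻¹) :=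
      le_inf hT.le (by rw [← cj_Ce, ← cj_eq_self hg]; exact cj_mono g hT.le)
    generalize g * t * g⁻¹ = w at *
    have h5 : c * τ * c⁻¹ ∈ Ce t := mul_mem (mul_mem hc (u_mem h)) (inv_mem hc)
    have h6 : c * τ * c⁻¹ * w * (c * τ * c⁻¹)⁻¹ = w * t := by
      calc _ = c * (τ * r * τ⁻¹) * c⁻¹ := by rw [← e]; group
        _ = c * r * c⁻¹ * (c * t * c⁻¹) := by rw [inv_eq_of_mul_eq_one_right h.uu, h.uru]; group
        _ = _ := by rw [e, mem_Ce'.1 hc]
    have h7 : c * τ * c⁻¹ ∈ nr (Ce t ⊓ Ce w) := mem_normalizer_of_cj_le (by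
      rw [cj_inf, cj_Ce, cj_Ce, h6, mem_Ce'.1 h5]
      refine fun x hx => ⟨hx.1, mem_Ce.2 (mul_right_cancel (b := t) ?_)⟩
      rw [mul_assoc, mem_Ce.1 hx.2, mul_assoc, mul_assoc, mem_Ce.1 hx.1])
    obtain ⟨x, hx, h8⟩ := (hT.of_le (le_inf hT.le (h4.trans le_normalizer))
      inf_le_left).exists_cj_le (isPGroup_zpowers (x := c * τ * c⁻¹) (k := 1) (by
        rw [pow_one, conj_pow, pow_two, h.uu]; group)) (zpowers_le.2 ⟨h5, h7⟩)
    have h9 := (mem_normalizer_iff.1 hx.2 _).2 (h4 (h8 (conj_mem_cj (mem_zpowers _))))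
    exact t_ne h (mul_eq_left.1 (h6.symm.trans (mem_Ce'.1 h9.2)))
  have h1 : IsSyl 2 T ⊤ := isSyl_of_isSyl_normalizer
    (hT.of_le (le_inf le_top le_normalizer) (inf_le_right.trans key))
  have h2 := h1.not_dvd_relIndex
  rw [relIndex_top_right] at h2
  exact Nat.not_even_iff_odd.1 fun e => h2 (e.two_dvd.trans (index_dvd_of_le hT.le))

theorem not_conj {w : G} (hw : Acts v w (-mT)) (g : G) : g * w * g⁻¹ ≠ t := fun e => by
  have h1 : H98.cj g (pl h ![0, 0, 1, 0] ![0, 0, 0, 1]).range ≤ Ce t :=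
    (cj_mono g (pl_le_Ce h hw (by decide) (by decide))).trans (by rw [cj_Ce, e])
  have h2 := relIndex_mul_card h1
  rw [card_cj, card_pl h (by decide), card_Ce h hk, MonoidHom.range_eq_top.2 hs, card_top,
    Nat.card_perm, Nat.card_fin] at h2
  obtain ⟨k, -, h3⟩ := (isSyl_of_not_dvd_relIndex h1 (isPGroup_cj g ((J_three h.toCoord).to_le
    (pl_le h _ _))) (fun ⟨k, e⟩ => by simp only [Nat.factorial, e] at h2; omega)).exists_cj_le
    (isPGroup_zpowers (x := v vz) (k := 1) (v_cube h.toCoord _))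
    (zpowers_le.2 (mem_Ce.2 (mem_Ce.1 ((acts_mem_Ce h.toCoord h.aT).2 (by decide))).symm))
  obtain ⟨a, h4⟩ := mem_cj.1 (h3 (conj_mem_cj (mem_zpowers _)))
  have h5 := h.sing (a.toAdd.1 • ![0, 0, 1, 0] + a.toAdd.2 • ![0, 0, 0, 1])
    (isConj_iff.2 ⟨g⁻¹ * k, Eq.trans (by group) h4.symm⟩)
  have h6 : pl h _ _ a = 1 := (v_eq_one h.toCoord).2 ((by decide : ∀ a b : ZMod 3,
    q (a • ![0, 0, 1, 0] + b • ![0, 0, 0, 1]) = 0 → a • ![0, 0, 1, 0] + b • ![0, 0, 0, 1] = (0 : V))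
    _ _ h5)
  rw [h6, eq_comm, show g⁻¹ * (k * v vz * k⁻¹) * g = g⁻¹ * k * v vz * (g⁻¹ * k)⁻¹ by group,
    conj_eq_one_iff, v_eq_one h.toCoord] at h4
  exact absurd h4 (by decide)

omit h hs hk [Finite G] in
theorem jobXB2 : JobXB2.{u} := by
  rintro h34 G _ _ v J Qa L₁ t r τ σ f h hn ⟨π, hs, hk⟩
  obtain ⟨ι, h1, h2, h3, -⟩ := exists_iota h hn
  have hw : Acts v (ι * t) (-mT) := neg_one_mul mT ▸ acts_mul h1 h.aT
  have hw1 : ι * t ∈ Ce t := mul_mem (mem_Ce.2 h3) (mem_Ce.2 rfl)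
  have hw2 : (ι * t) ^ 2 = 1 := by
    rw [(show Commute ι t from h3).mul_pow, pow_two, pow_two, h2, h.tt, one_mul]
  have hA : ((alternatingGroup (Fin 8)).comap π).index = 2 := by
    rw [index_comap_of_surjective _ hs, alternatingGroup.index_eq_two]
  obtain ⟨N, hN, hi, hw3⟩ := H8.thompson_transfer (Ce t)
    (((alternatingGroup (Fin 8)).comap π).map (Ce t).subtype) (odd_index h hs hk)
    (by rw [relIndex, subgroupOf, comap_map_eq_self_of_injective (subtype_injective _), hA]) _ hw2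
    (by
      rintro g ⟨x, hx, e⟩
      have e1 : (x : G) = g * (ι * t) * g⁻¹ := e
      by_cases hz : (x : G) ∈ zpowers t
      · rcases (mem_zp h.tt).1 hz with e2 | e2
        · rw [e1, conj_eq_one_iff] at e2
          exact ne_of_acts h hw acts_one vy (by decide) e2
        · exact not_conj h hs hk hw g (e1.symm.trans e2)
      · obtain ⟨c, -, e2⟩ := conj_r h hs hk x.2 (by rw [e1, conj_mul, ← pow_two, hw2]; group) hx hz
        refine not_conj h hs hk hw (σ⁻¹ * c⁻¹ * g) ?_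
        calc _ = σ⁻¹ * (c⁻¹ * (g * (ι * t) * g⁻¹) * c) * σ := by group
          _ = _ := by rw [← e1, ← e2, ← h.st]; group)
  have ht : t ∈ N := h.ff ▸ mul_self_mem_of_index_two hi f
  have h4 : π.ker ≤ N.subgroupOf (Ce t) := fun x hx => zpowers_le.2 ht ((hk x).1 hx)
  have h5 : (N.subgroupOf (Ce t)).map π = alternatingGroup _ := by
    refine eq_alternatingGroup_of_index_eq_two ?_
    rw [index_map_eq _ hs h4]
    refine ((Nat.dvd_prime Nat.prime_two).1 (hi ▸ relIndex_dvd_index_of_normal N _)).resolve_left ?_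
    exact fun e => hw3 (relIndex_eq_one.1 e hw1)
  have h6 : ∀ x : Ce t, (x : G) ∈ N ↔ sign (π x) = 1 := fun x => by
    rw [← mem_alternatingGroup, ← h5, ← mem_comap, comap_map_eq_self h4, mem_subgroupOf]
  have hf : f ∈ N := (h6 ⟨f, f_mem h⟩).2 (f_even h)
  have hJ : J ≤ N := fun x hx => by
    have := mul_self_mem_of_index_two hi (x * x)
    rwa [← mul_assoc, ← pow_three', J_cube h.toCoord hx, one_mul] at this
  obtain ⟨e⟩ := mcl h h34 hk (fun s _ => hs s) N h6 hf hJ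
  have h7 : Function.Injective (MulAut.conjNormal (H := N)) := by
    refine (injective_iff_map_eq_one _).2 fun c hc => ?_
    have h8 : ∀ n ∈ N, n * c = c * n := fun n hn => by
      have := congrArg (fun φ : MulAut N => (φ ⟨n, hn⟩ : G)) hc
      exact (mul_inv_eq_iff_eq_mul.1 this).symm
    obtain ⟨x, rfl⟩ := (h.mem c).1 (h.cJ fun n hn => h8 n (hJ hn))
    exact (v_eq_one h.toCoord).2 ((by decide : ∀ x : V, mT *ᵥ x = x → mR *ᵥ x = x → mF *ᵥ x = x →
      x = 0) x ((acts_mem_Ce h.toCoord h.aT).1 (mem_Ce.2 (h8 t ht)))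
      ((acts_mem_Ce h.toCoord h.aR).1 (mem_Ce.2 (h8 r ((h6 ⟨r, r_mem h⟩).2 (r_even h hs hk)))))
      ((acts_mem_Ce h.toCoord h.aF).1 (mem_Ce.2 (h8 f hf))))
  have h8 : Function.Injective (MulAut.conj (G := N)) := fun a b e => Subtype.ext (h7 (by
    rw [MulAut.conjNormal_val, MulAut.conjNormal_val, e]))
  have h9 : Function.Injective (MulAut.conj (G := Spor.McL)) := fun a b e' =>
    e.symm.injective (h8 (by
      ext1 x
      simpa using congrArg (fun φ => e.symm (φ (e x))) e'))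
  have : Finite Spor.McL := Finite.of_equiv _ e.toEquiv
  refine ⟨(MulEquiv.ofBijective _ ((Nat.bijective_iff_injective_and_card _).2 ⟨h7, ?_⟩)).trans
    (MulAut.congr e)⟩
  rw [Nat.card_congr (MulAut.congr e).toEquiv, card_eq_card_quotient_mul_card_subgroup (Inn _),
    Cfsg.Agent.S2073.result, ← Nat.card_congr (MonoidHom.ofInjective h9).toEquiv,
    ← Nat.card_congr e.toEquiv, ← hi, index_mul_card]

end H81.MC
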