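import Cfsg.Agent.H81.McXB2
import Cfsg.Agent.H2.CoreFree

/-! The exceptional configuration `A₅ × A₅` of the blueprint `LOCAL3C.md` does not occur. -/

set_option autoImplicit false

namespace H81.MC

open Cfsg Subgroup H14 H98 H56.L3 H42.L3 H47.MC H42.MC
open scoped Matrix

universe u

abbrev A5 := alternatingGroup (Fin 5)

theorem card_A5 : Nat.card A5 = 60 := by
  have := two_mul_nat_card_alternatingGroup (α := Fin 5)
  rw [Nat.card_perm, Nat.card_fin] at this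
  exact Nat.eq_of_mul_eq_mul_left two_pos this

theorem ex_ker {G : Type*} [Group G] {N Q : Subgroup G} (hQ : Q ≤ N) (φ : N →* A5)
    (e : ¬ Nat.card Q ∣ 60) : ∃ a : N, (a : G) ∈ Q ∧ (a : G) ≠ 1 ∧ φ a = 1 := by
  by_contra! hc
  refine e (card_A5 ▸ card_dvd_of_injective (φ.comp (inclusion hQ))
    ((injective_iff_map_eq_one _).2 fun a ha => Subtype.ext ?_))
  by_contra e
  exact hc (inclusion hQ a) a.2 e ha

variable {G : Type u} [Group G] [Finite G] {v : V → G} {J Qa L₁ : Subgroup G} {t r τ σ f : G}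
  (h : H47.MC.Loc v J Qa L₁ t r τ σ f)
include h

theorem no5 (hy : Ce (v vy) ≤ Nr J) {a g : G} (ha : IsConj (v vy) a) (hg : g ∈ Ce a)
    (h5 : g ^ 5 = 1) : g = 1 := by
  obtain ⟨c, rfl⟩ := isConj_iff.1 ha
  have h1 : c⁻¹ * g * c⁻¹⁻¹ ∈ Ce (v vy) := by simpa [mul_assoc] using conj_mem_Ce hg c⁻¹
  have h2 : (c⁻¹ * g * c⁻¹⁻¹) ^ 5 = 1 := by rw [conj_pow, h5]; group
  rw [← conj_eq_one_iff (a := c⁻¹)]
  generalize c⁻¹ * g * c⁻¹⁻¹ = k at *
  have : Fact (Nat.Prime 5) := ⟨by decide⟩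
  have h3 := H2.card_modEq_card_inf_centralizer (isPGroup_zpowers (p := 5) (k := 1) h2)
    (zpowers_le.2 (hy h1))
  have h4 : zpowers (v vy) ≤ J ⊓ cn (zpowers k) := zpowers_le.2 ⟨v_mem h.toCoord _, by
    rintro _ ⟨n, rfl⟩
    exact (show Commute k (v vy) from mem_Ce.1 h1).zpow_left n⟩
  have h6 := card_dvd_of_le h4
  have h7 := card_dvd_of_le (inf_le_left : J ⊓ cn (zpowers k) ≤ J)
  rw [Nat.card_zpowers, v_ord h.toCoord (by decide)] at h6
  have h8 : J ⊓ cn (zpowers k) = J := eq_of_le_of_card_ge inf_le_left (by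
    rw [card_J h.toCoord] at h3 h7 ⊢
    generalize Nat.card (J ⊓ cn (zpowers k) : Subgroup G) = n at *
    have := Nat.le_of_dvd (by decide) h7
    revert h3 h6 h7
    unfold Nat.ModEq
    interval_cases n <;> decide)
  have h9 := J_cube h.toCoord (h.cJ (le_centralizer_iff.1 (h8.ge.trans inf_le_right)
    (mem_zpowers k)))
  calc k = (k ^ 3) ^ 2 * (k ^ 5)⁻¹ := by group
    _ = 1 := by rw [h9, h2]; group

omit [Finite G] in
theorem eq_one_odd {a : G} (ha : a ∈ zpowers t) {n : ℕ} (hn : Odd n) (e : a ^ n = 1) : a = 1 := by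
  refine ((mem_zp h.tt).1 ha).resolve_right ?_
  rintro rfl
  obtain ⟨k, rfl⟩ := hn
  rw [pow_succ, pow_mul, pow_two, h.tt, one_pow, one_mul] at e
  exact t_ne h e

variable {N : Subgroup G} (hN : N ≤ Ce t) {π : N →* A5 × A5} (hs : Function.Surjective π)
  (hk : ∀ g, π g = 1 ↔ (g : G) ∈ zpowers t)
include hk

omit [Finite G] in
include hN in
theorem comm5 {a b : N} (h5 : (b : G) ^ 5 = 1) (e : Commute (π a) (π b)) :
    (a : G) * b = b * a := by
  have h1 := (hk (a * b * a⁻¹ * b⁻¹)).1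
    (by rw [map_mul, map_mul, map_mul, map_inv, map_inv, e.eq]; group)
  refine mul_inv_eq_iff_eq_mul.1 (mul_inv_eq_one.1 (eq_one_odd h h1 (n := 5) (by decide) ?_))
  have h2 : Commute ((a * b * a⁻¹ * b⁻¹ : N) : G) b := by
    obtain ⟨n, hn⟩ := h1
    exact hn ▸ (show Commute t b from (mem_Ce.1 (hN b.2)).symm).zpow_left n
  have h3 := h2.mul_pow 5
  rw [h5, mul_one] at h3
  exact h3.symm.trans (by simp [h5])

omit [Finite G] in
include hs in
theorem lift5 {s : A5 × A5} (h5 : s ^ 5 = 1) : ∃ g : N, (g : G) ^ 5 = 1 ∧ π g = s := by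
  obtain ⟨g, rfl⟩ := hs s
  refine ⟨g ^ 6, ?_, by rw [map_pow, pow_succ, h5, one_mul]⟩
  have : (((g ^ 5 : N) : G) ^ 2) ^ 3 = 1 := by
    rcases (mem_zp h.tt).1 ((hk (g ^ 5)).1 (by rw [map_pow, h5])) with e | e <;>
      simp [e, pow_two, h.tt]
  simpa [← pow_mul] using this

omit h hk [Finite G] in
theorem jobXB3 : JobXB3.{u} := by
  rintro G _ _ v J Qa L₁ t r τ σ f h hy ⟨N, hN, ht, hn, hi, π, hs, hk⟩
  have f5 : Fact (Nat.Prime 5) := ⟨by decide⟩
  have memN : ∀ {p : ℕ} {Q : Subgroup G}, Odd p → IsPGroup p Q → Q ≤ Ce t → Q ≤ N :=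
    fun {p Q} hp hQ h1 x hx => by
      have := normal_subgroupOf_of_le_normalizer hn
      have h2 : x ^ 4 ∈ N := hi ▸ (N.subgroupOf (Ce t)).pow_index_mem ⟨x, h1 hx⟩
      obtain ⟨k, h3⟩ := isPGroup_iff_forall.1 hQ x hx
      obtain ⟨m, h4⟩ := exists_pow_eq_self_of_coprime (x := x) (n := 2 ^ 2)
        (((Nat.coprime_two_left.2 hp.pow).coprime_dvd_right
          (orderOf_dvd_of_pow_eq_one h3)).pow_left 2)
      exact h4 ▸ pow_mem h2 m
  obtain ⟨s, s5⟩ := exists_prime_orderOf_dvd_card' (G := A5) 5 (by rw [card_A5]; decide)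
  have s1 : s ≠ 1 := fun e => by simp [e] at s5
  replace s5 : s ^ 5 = 1 := orderOf_dvd_iff_pow_eq_one.1 s5.dvd
  obtain ⟨w, w5, hw⟩ := lift5 h hs hk (s := (s, 1)) (by simp [s5])
  obtain ⟨w', w5', hw'⟩ := lift5 h hs hk (s := (1, s)) (by simp [s5])
  have hD := memN (by decide) ((J_three h.toCoord).to_le (pl_le h vz vz'))
    (pl_le_Ce h h.aT (by decide) (by decide))
  obtain ⟨a, ⟨x, ha⟩, a1, a2⟩ := ex_ker hD ((MonoidHom.snd _ _).comp π)
    (by rw [card_pl h (by decide)]; decide)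
  obtain ⟨b, ⟨y, hb⟩, b1, b2⟩ := ex_ker hD ((MonoidHom.fst _ _).comp π)
    (by rw [card_pl h (by decide)]; decide)
  replace a2 : (π a).2 = 1 := a2
  replace b2 : (π b).1 = 1 := b2
  have sg : ∀ {x : V} {a w : N}, v x = a → (w : G) ^ 5 = 1 → π w ≠ 1 → Commute (π a) (π w) →
      q x = 0 := fun {x a w} e h5 h1 hc => by
    by_contra hq
    obtain ⟨g, -, e1⟩ := h.orb1 x hq
    exact h1 ((hk w).2 (no5 h hy (isConj_iff.2 ⟨g, e1.trans e⟩)
      (mem_Ce.2 (comm5 h hN hk h5 hc).symm) h5 ▸ one_mem _))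
  have a3 : (π a).1 ≠ 1 := fun e => a1 (eq_one_odd h ((hk a).1 (Prod.ext e a2)) (n := 3)
    (by decide) (ha ▸ v_cube h.toCoord _))
  have hr := hn (r_mem h)
  let ρ : N →* N := (N.normalizerMonoidHom ⟨r, hr⟩).toMonoidHom
  have hρ : ∀ n : N, (ρ n : G) = r * n * r⁻¹ := fun _ => rfl
  have a4 : (π (ρ a)).1 = 1 := by
    have key : ∀ c : ZMod 3, ∀ a : N, (a : G) = v (c • (y.toAdd.1 • vz + y.toAdd.2 • vz')) →
        (π a).1 = 1 := fun c a e => by
      rw [show a = b ^ c.val from Subtype.ext (by rw [e, v_smul h.toCoord, coe_pow, ← hb]; rfl),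
        map_pow, Prod.pow_fst, b2, one_pow]
    rcases (by decide : ∀ x y : ZMod 3 × ZMod 3, q (x.1 • vz + x.2 • vz') = 0 →
      q (y.1 • vz + y.2 • vz') = 0 → y.1 • vz + y.2 • vz' = 0 ∨ ∃ c : ZMod 3,
        x.1 • vz + x.2 • vz' = c • (y.1 • vz + y.2 • vz') ∨
        mR *ᵥ (x.1 • vz + x.2 • vz') = c • (y.1 • vz + y.2 • vz')) x.toAdd y.toAdd
      (sg ha w5' (by simp [hw', s1]) (by rw [hw']; exact Prod.ext (by simp) (by simp [a2])))
      (sg hb w5 (by simp [hw, s1]) (by rw [hw]; exact Prod.ext (by simp [b2]) (by simp)))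
      with e | ⟨c, e | e⟩
    · exact absurd (hb.symm.trans ((v_eq_one h.toCoord).2 e)) b1
    · exact absurd (key c a (ha.symm.trans (congrArg v e))) a3
    · exact key c _ (by rw [hρ, ← ha, ← e]; exact h.aR _)
  have swap : ∀ n : N, (π n).2 = 1 → (π (ρ n)).1 = 1 := fun n e => by
    let α : N →* A5 := (MonoidHom.fst _ _).comp (π.comp ρ)
    have := (α.normal_ker.map π hs).comap (MonoidHom.inl A5 A5)
    have h1 := this.eq_bot_or_eq_top.resolve_left fun e => a3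
      (mem_bot.1 (e.le ⟨a, a4, Prod.ext rfl a2⟩))
    obtain ⟨m, h2, h3⟩ := h1.ge (mem_top (π n).1)
    have h4 := (hk (n * m⁻¹)).1 (by rw [map_mul, map_inv, h3, mul_inv_eq_one]; exact Prod.ext rfl e)
    have h5 : π (ρ (n * m⁻¹)) = 1 := (hk _).2
      (conj_mem_of_mem_normalizer (Ce_le_nr (r_mem h)) h4)
    rw [map_mul, map_mul, map_inv, map_inv, mul_inv_eq_one] at h5
    exact h5 ▸ h2
  have syl : ∀ {p : ℕ} {g : G}, p.Prime → Odd p → ¬ p ^ 2 ∣ 60 → orderOf g = p →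
      g ∈ Ce t ⊓ Ce r → IsSyl p (zpowers g) (Ce t ⊓ Ce r) := fun {p g} hp ho h1 h2 h3 => by
    have : Fact p.Prime := ⟨hp⟩
    refine ⟨zpowers_le.2 h3, isPGroup_zpowers (k := 1) (by rw [pow_one, ← h2, pow_orderOf_eq_one]),
      fun Q hQ h4 h5 => (eq_of_le_of_card_ge h4 ?_).symm⟩
    obtain ⟨n, h6⟩ := IsPGroup.iff_card.1 hQ
    have h7 : Nat.card Q ∣ 60 := by
      by_contra e
      obtain ⟨c, c1, c2, c3⟩ := ex_ker (memN ho hQ (h5.trans inf_le_left))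
        ((MonoidHom.snd _ _).comp π) e
      obtain ⟨k, c4⟩ := isPGroup_iff_forall.1 hQ c c1
      have c5 := swap c c3
      rw [show ρ c = c from Subtype.ext (mul_inv_eq_iff_eq_mul.2 (mem_Ce.1 (h5 c1).2).symm)] at c5
      exact c2 (eq_one_odd h ((hk c).1 (Prod.ext c5 c3)) ho.pow c4)
    rw [Nat.card_zpowers, h2, h6]
    rw [h6] at h7
    have : n ≤ 1 := by
      by_contra e
      exact h1 ((pow_dvd_pow p (by omega)).trans h7)
    exact (Nat.pow_le_pow_right hp.pos this).trans (pow_one p).le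
  have w1 := swap w (by rw [hw])
  have w2 : Commute ((ρ w : N) : G) w :=
    comm5 h hN hk w5 (by rw [hw]; exact Prod.ext (by simp [w1]) (by simp))
  have w3 : orderOf ((w * ρ w : N) : G) = 5 := orderOf_eq_prime
    (by rw [coe_mul, w2.symm.mul_pow, hρ, conj_pow, w5]; group) fun e => s1 (by
      have := congrArg Prod.fst ((hk (w * ρ w)).2 (e ▸ one_mem _))
      simpa [hw, w1] using this)
  have w4 : ((w * ρ w : N) : G) ∈ Ce r := mem_Ce.2 (by
    have := w2.eq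
    rw [hρ, inv_eq_of_mul_eq_one_right h.rr] at this
    rw [coe_mul, hρ, inv_eq_of_mul_eq_one_right h.rr]
    conv_lhs => rw [← this]
    group)
  have hP := syl f5.out (by decide) (by decide) w3 ⟨hN (w * ρ w).2, w4⟩
  have hy1 : v vy ∈ Ce t ⊓ Ce r :=
    ⟨mem_Ce.2 (mem_Ce.1 ((acts_mem_Ce h.toCoord h.aT).2 (by decide))).symm,
      mem_Ce.2 (mem_Ce.1 ((acts_mem_Ce h.toCoord h.aR).2 (by decide))).symm⟩
  have hY := syl Nat.prime_three (by decide) (by decide) (v_ord h.toCoord (by decide)) hy1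
  generalize ((w * ρ w : N) : G) = g at w3 hP
  have hσ : σ ∈ nr (Ce t ⊓ Ce r) := mem_normalizer_of_cj_le (by
    rw [cj_inf, cj_Ce, cj_Ce, h.st, h.sr]
    refine fun x hx => ⟨mem_Ce.2 (mul_right_cancel (b := r) ?_), hx.1⟩
    rw [mul_assoc, mem_Ce.1 hx.2, mul_assoc, mul_assoc, mem_Ce.1 hx.1])
  generalize hW : Ce t ⊓ Ce r = W at hP hY hy1 hσ
  obtain ⟨c, c1, n, c2, c3⟩ := hP.frattini_mem hσ
  have c4 : c ∈ W ⊔ zpowers σ := (mul_mem_cancel_right (mem_sup_left c2)).1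
    (c3 ▸ mem_sup_right (mem_zpowers σ))
  have c5 : 3 ∣ orderOf c := by
    by_contra e
    have h1 : c ∈ W := mem_of_cube e (by
      have h2 := conj_mem_of_mem_normalizer hσ (inv_mem c2)
      have := mul_mem (mul_mem h2 (conj_mem_of_mem_normalizer hσ h2)) (inv_mem c2)
      rwa [show σ * n⁻¹ * σ⁻¹ * (σ * (σ * n⁻¹ * σ⁻¹) * σ⁻¹) * n⁻¹ =
        σ * n⁻¹ * (σ * n⁻¹) * ((σ ^ 3)⁻¹ * σ * n⁻¹) by group, h.s3, inv_one, one_mul,
        ← pow_three', ← eq_mul_inv_iff_mul_eq.2 c3.symm] at this)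
    have h2 : σ ∈ Ce t := (hW.ge (c3 ▸ mul_mem h1 c2)).1
    exact r_not h (h.st ▸ (mem_Ce'.1 h2).symm ▸ mem_zpowers t)
  have c6 := orderOf_pow_orderOf_div (orderOf_pos c).ne' c5
  have c7 := pow_mem c1 (orderOf c / 3)
  have c8 := pow_mem c4 (orderOf c / 3)
  generalize c ^ (orderOf c / 3) = e at c6 c7 c8
  have e3 : IsPGroup 3 (zpowers e) :=
    isPGroup_zpowers (k := 1) (by rw [pow_one, ← c6, pow_orderOf_eq_one])
  have hyσ : σ ∈ Ce (v vy) := (acts_mem_Ce h.toCoord h.aS).2 (by decide)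
  obtain ⟨S, hS, h1⟩ := exists_isSyl_le (H := W ⊔ zpowers σ)
    ((isPGroup_zpowers (p := 3) (k := 1) h.s3).to_sup_of_normal_right' hY.isPGroup
      (zpowers_le.2 (Ce_le_nr hyσ))) (sup_le le_sup_right (hY.le.trans le_sup_left))
  obtain ⟨k, -, h2⟩ := hS.exists_cj_le e3 (zpowers_le.2 c8)
  have h3 := h2 (conj_mem_cj (mem_zpowers e))
  obtain ⟨m, h4, _, ⟨j, rfl⟩, h5⟩ := (mem_sup_right_norm (zpowers_le.2 hσ)).1 (hS.le h3)
  have h6 : m ∈ zpowers (v vy) :=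
    (hY.eq_of_le (hS.isPGroup.to_inf_left (K := W)) (le_inf (le_sup_right.trans h1) hY.le)
      inf_le_right).le ⟨(mul_mem_cancel_right (h1 (mem_sup_left ⟨j, rfl⟩))).1 (h5 ▸ h3), h4⟩
  have h7 : IsConj (v vy) (k * e * k⁻¹) := by
    refine (h.Qcl _ (h5 ▸ mul_mem (zpowers_le.2 (h.vQ vy (by decide)) h6)
      (zpow_mem h.sQ j))).resolve_left fun h7 => ?_
    have h8 : σ ^ j ∈ zpowers (v vy) := J_inf_nr_V4 h ⟨(mul_mem_cancel_left
      (zpowers_le.2 (v_mem h.toCoord _) h6)).1 (h5 ▸ zpowers_le.2 (v_mem h.toCoord _) h7),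
      zpow_mem (s_nr_V4 h) j⟩
    obtain ⟨a, ha⟩ := (mem_zp_v h.toCoord).1 h7
    obtain ⟨b, hb⟩ := (mem_zp_v h.toCoord).1 (h5 ▸ mul_mem h6 h8 : k * e * k⁻¹ ∈ _)
    rw [(by decide : ∀ a b : ZMod 3, a • va = b • vy → a • va = 0) a b (h.inj (ha.trans hb.symm)),
      v_zero h.toCoord, eq_comm, conj_eq_one_iff] at ha
    simp [ha] at c6
  have h8 := H2.card_modEq_card_inf_centralizer e3 (zpowers_le.2 c7)
  rw [Nat.card_zpowers, w3] at h8
  obtain ⟨⟨x, x1, x2⟩, x3⟩ := (ne_bot_iff_exists_ne_one (H := zpowers g ⊓ cn (zpowers e))).1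
    fun e => by rw [e, card_bot] at h8; exact absurd h8 (by decide)
  refine x3 (Subtype.ext (conj_eq_one_iff.1 (no5 h hy h7
    (conj_mem_Ce (mem_Ce.2 (x2 e (mem_zpowers e)).symm) k) ?_)))
  obtain ⟨i, rfl⟩ := x1
  rw [conj_pow, ← zpow_natCast, ← zpow_mul, mul_comm, zpow_mul, zpow_natCast, ← w3,
    pow_orderOf_eq_one, one_zpow]
  group

end H81.MC
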