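/- Tower E8F: a rational semisimple vector is fixed by a twisted torus. -/
import Cfsg.Agent.H40.E8FKit
import Cfsg.Agent.H67.InvRed

set_option autoImplicit false
set_option linter.unusedSectionVars false

namespace H81.E8SS

open Cfsg.Lie H63 H64 H65 H46 H14.E8 Matrix Module H40.E8F

section Gen

variable {D : ChevalleyDatum} {k : Type} [Field k] (φ : k →+* k)

theorem comp_act (g : GL D.Idx k) (v : D.Idx → k) :
    φ ∘ act g v = act (GeneralLinearGroup.map φ g) (φ ∘ v) := funext fun i => by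
  simp [act, mulVec, dotProduct, map_sum]

theorem rv_comp (v : D.Idx → k) (r : ℕ) : rv (φ ∘ v) r = φ (rv v r) := by
  simp [rv, map_sum]

variable [RS D] [Tab D] [Comm D] [IsAlgClosed k] {φ}

theorem exists_x (strip : JobStrip) {q : ℕ} (hq : 2 ≤ q) (hφ : ∀ t, φ t = t ^ q) {s : D.Idx → k}
    (hs : φ ∘ s = s) {g : GL D.Idx k} (hg : g ∈ D.group k) (h0 : InH (act g s)) :
    ∃ x ∈ D.group k, ∃ L, x⁻¹ * GeneralLinearGroup.map φ x = nL D (xU D k) L ∧
      InH (act x⁻¹ s) := by
  have e1 : φ ∘ act g s = act (GeneralLinearGroup.map φ g) s := by rw [comp_act, hs]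
  have e2 : act (g * (GeneralLinearGroup.map φ g)⁻¹) (φ ∘ act g s) = act g s := by
    rw [e1, act_mul, act_inv_act]
  obtain ⟨L, c, hc, e⟩ := strip D k _ _ h0 (fun r => by
    rw [Function.comp_apply, h0 r, map_zero]) _ (mul_mem hg (inv_mem (map_mem_group φ hg))) e2
  obtain ⟨hN, hw⟩ := nL_mem_act (stB_xU D k) L
  have e3 : act (nL D (xU D k) L) (φ ∘ act g s) = act g s := by
    rw [e, act_mul] at e2
    rw [← act_inv_act c (act _ _), e2, act_CC h0 (inv_mem hc)]
  have hθ : ∀ (r : Rt D) t, GeneralLinearGroup.map φ (xU D k r t) = xU D k r (φ t) :=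
    fun r t => map_xU φ r t
  have hP : GeneralLinearGroup.map φ (nL D (xU D k) L) = nL D (xU D k) L :=
    map_nL _ (fun i => (fld_nn hθ (simpleR i) 1).trans (by rw [map_one]; rfl)) L
  obtain ⟨n, hn, h9⟩ := H67.Sub.exists_pow_eq_one_of_fix hq hφ hP
  obtain ⟨y, hy, e4⟩ := (conn_gen_sup {r : Rt D | rv (act g s) r = 0}).lang_tw φ hq hφ _ hP hn
    (fun g _ => by rw [h9, one_mul, mul_one]) (fun y hy => by
      refine (sup_le ?_ ?_ : CC (act g s) ≤ (CC (act g s)).comap
        ((MulAut.conj (nL D (xU D k) L)).toMonoidHom.comp (GeneralLinearGroup.map φ))) hy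
      · refine fun u hu => Subgroup.mem_sup_left (hw.conj_gen (fun r hr => ?_) (fld_gen hθ hu))
        have := (jobN D k _ _ hN hw).2.2 (φ ∘ act g s) r
        rwa [e3, rv_comp, show rv (act g s) r = 0 from hr, map_zero] at this
      · exact fun u hu => Subgroup.mem_sup_right ((stB_xU D k).rgd.conj_H hN (fld_HH hθ hu))) hc
  have hle : CC (act g s) ≤ D.group k := by
    rw [group_eq]
    exact sup_le (gen_mono _ (Set.subset_univ _)) HH_le_GG
  refine ⟨g⁻¹ * y⁻¹, mul_mem (inv_mem hg) (inv_mem (hle hy)), L, ?_, ?_⟩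
  · calc _ = y * (g * (GeneralLinearGroup.map φ g)⁻¹) * (GeneralLinearGroup.map φ y)⁻¹ := by
          rw [map_mul, map_inv, map_inv]; group
      _ = _ := by rw [e, ← e4]; group
  · rwa [_root_.mul_inv_rev, inv_inv, inv_inv, act_mul, act_CC h0 hy]

theorem exists_A {F : Type} [Field F] [Finite F] {ι : F →+* k} (hfix : ∀ t, φ t = t ↔ t ∈ ι.range)
    (hc : cker D kˣ = ⊥) {s : D.Idx → k} {x : GL D.Idx k} (hx : x ∈ D.group k) {L : List ℕ}
    (e : x⁻¹ * GeneralLinearGroup.map φ x = nL D (xU D k) L) (h0 : InH (act x⁻¹ s)) {m : ℕ}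
    {f : Fin m → Fin D.rank → kˣ} (hf : Function.Injective f) (hf' : ∀ i, f i ∈ Tw D L φ) :
    ∃ A : Subgroup (D.group F), (∀ a ∈ A, ∀ b ∈ A, a * b = b * a) ∧ m ≤ Nat.card A ∧
      ∀ a ∈ A, act (mapG D ι a : GL D.Idx k) s = s := by
  have T := twT_untw hfix (tor_injective_of_cker hc) hx e
  let θ := (D.group k).subtype.comp (mapG D ι)
  have hθ : Function.Injective θ := Subtype.val_injective.comp (mapG_injective ι)
  let τ := (MulAut.conj x).toMonoidHom.comp (tor D k)
  refine ⟨τ.range.comap θ, fun a ⟨c, ha⟩ b ⟨d, hb⟩ => hθ ?_, ?_, fun a ⟨c, ha⟩ => ?_⟩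
  · rw [map_mul, map_mul, ← ha, ← hb, ← map_mul, ← map_mul, mul_comm]
  · choose a ha ha' using fun i => T.conj_mem _ (hf' i)
    have := Nat.card_le_card_of_injective
      (fun i => (⟨⟨a i, ha i⟩, f i, (ha' i).symm⟩ : τ.range.comap θ)) fun i j h => hf
        ((MonoidHom.ker_eq_bot_iff _).1 (tor_ker.trans hc) ((MulAut.conj x).injective
          ((ha' i).symm.trans ((congrArg (fun a => θ a.1) h).trans (ha' j)))))
    rwa [Nat.card_eq_fintype_card, Fintype.card_fin] at this
  · change act (θ a) s = s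
    rw [← ha]
    change act (x * tor D k c * x⁻¹) s = s
    rw [act_mul, act_mul, act_CC h0 (Subgroup.mem_sup_right (tor_mem_HH c)), act_act_inv]

end Gen

attribute [local instance] H65.tabE8 H65.commE8

theorem jobSS (strip : JobStrip) (tw : JobTw) : JobSS := by
  rintro s hs ⟨g, hg, h0⟩
  obtain ⟨x, hx, L, e, h1⟩ := exists_x strip (q := 3) (by norm_num) (frobenius_def 3) hs hg h0
  obtain ⟨f, hf, hf'⟩ := tw L
  obtain ⟨σ, h2, h3, -⟩ := H67.exists_frobAut (ZMod 3)
  exact exists_A (ι := algebraMap (ZMod 3) K3) (fun t => by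
    rw [← h3, h2, ZMod.card, frobenius_def]) (kerE8.cker_eq_bot _) hx e h1 hf hf'

end H81.E8SS
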