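/- Tower E8F: the stabiliser of a nilpotent line lies in a parabolic subgroup. -/
import Cfsg.Agent.H81.E8SS

set_option autoImplicit false
set_option linter.unusedSectionVars false

namespace H81.E8Nil

open Cfsg.Lie H63 H64 H65 H46 H14.E8 Matrix Module H40.E8F H81.E8SS

section Gen

variable {D : ChevalleyDatum} [RS D] [Tab D] [Comm D] {k : Type} [Field k] {μ : Rt D → ℝ}

theorem ge_comp (φ : k →+* k) {v : D.Idx → k} (h : Ge μ v) : Ge μ (φ ∘ v) :=
  ⟨fun i => by rw [Function.comp_apply, h.1 i, map_zero],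
    fun r hr => h.2 r fun e => hr (by rw [Function.comp_apply, e, map_zero])⟩

theorem ge_neg {v : D.Idx → k} (h : Ge μ v) : Ge μ (-v) :=
  ⟨fun i => by rw [Pi.neg_apply, h.1 i, neg_zero], fun r hr => h.2 r (neg_ne_zero.1 hr)⟩

theorem xU_mem_PP {r : Rt D} (hr : 0 ≤ μ r) (t : k) : xU D k r t ∈ PP k μ :=
  Subgroup.mem_sup_left (le_gen _ (c := r) hr (x_mem_XR D _ r t))

theorem nn_not_mem (hμ : Lin μ) {r : Rt D} (hr : 1 ≤ μ r) : nn D (xU D k) r 1 ∉ PP k μ := fun h => by
  have g : Ge μ (Pi.single (Sum.inr r) (1 : k) : D.Idx → k) :=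
    ⟨fun i => by simp, fun s hs => by
      obtain rfl : s = r := by
        by_contra e
        exact hs (by simp [e])
      exact hr⟩
  obtain ⟨a, ha, e⟩ := (jobN D k _ _ ((stB_xU D k).nn_mem_N r one_ne_zero)
    (H67.act_nn (stB_xU D k) r)).1
  have := (act_PP hμ h g).2 _ (by rw [e _ r]; simpa using ha r)
  rw [show (H67.rW r).1 r = negR r from refl_self r, hμ.neg] at this
  linarith

variable [IsAlgClosed k] {F : Type} [Field F] [Finite F] {ι : F →+* k} {φ : k →+* k}

theorem exists_M (kempf : JobKempf) {q : ℕ} (hq : 2 ≤ q) (hφ : ∀ t, φ t = t ^ q)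
    (hfix : ∀ t, φ t = t ↔ t ∈ ι.range) (hc : cker D kˣ = ⊥) (H : Subgroup (D.group F))
    {v : D.Idx → k} (h0 : v ≠ 0) (hv : φ ∘ v = v)
    (hH : ∀ h ∈ H, act (mapG D ι h : GL D.Idx k) v = v ∨ act (mapG D ι h : GL D.Idx k) v = -v)
    (hg : ∃ g ∈ D.group k, InB (act g v) ∧ NoH (act g v)) :
    ∃ M : Subgroup (D.group F), H ≤ M ∧ M ≠ ⊤ ∧ Nat.card F ^ (D.nroots / 2) ∣ Nat.card M := by
  obtain ⟨g, hg, μ, hμ, hd, hge, hk⟩ := kempf D k v hg
  have hθ : ∀ (r : Rt D) t, GeneralLinearGroup.map φ (xU D k r t) = xU D k r (φ t) :=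
    fun r t => map_xU φ r t
  obtain ⟨p, hp, e⟩ := (conn_gen_sup {r : Rt D | 0 ≤ μ r}).lang_map φ hq hφ (fun y hy =>
    (sup_le (fun u hu => Subgroup.mem_sup_left (fld_gen hθ hu))
      (fun u hu => Subgroup.mem_sup_right (fld_HH hθ hu)) :
      PP k μ ≤ (PP k μ).comap (GeneralLinearGroup.map φ)) hy)
    (inv_mem (hk _ (map_mem_group φ hg) (by rw [← hv, ← comp_act]; exact ge_comp φ hge)))
  have hle : PP k μ ≤ D.group k := by
    rw [group_eq]
    exact sup_le (gen_mono _ (Set.subset_univ _)) HH_le_GG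
  obtain ⟨y, hy⟩ : (⟨p * g, mul_mem (hle hp) hg⟩ : D.group k) ∈ (mapG D ι).range := by
    rw [range_mapG matOK matOK hc ι φ hfix]
    refine Subtype.ext ?_
    change GeneralLinearGroup.map φ (p * g) = p * g
    rw [map_mul, ← mul_inv_cancel_left p (GeneralLinearGroup.map φ p), e]
    group
  let θ := (D.group k).subtype.comp (mapG D ι)
  have hy' : θ y = p * g := congrArg Subtype.val hy
  have hx : ∀ (r : Rt D) t, θ (xG D F r t) = xU D k r (ι t) := fun r t => map_xU ι r t
  refine ⟨((PP k μ).comap θ).comap (MulAut.conj y).toMonoidHom, fun h hh => ?_, fun e => ?_, ?_⟩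
  · change θ (y * h * y⁻¹) ∈ PP k μ
    rw [map_mul, map_mul, map_inv, hy', show p * g * θ h * (p * g)⁻¹ = p * (g * θ h * g⁻¹) * p⁻¹ by
      group]
    refine mul_mem (mul_mem hp (hk _ (mul_mem hg (mapG D ι h).2) ?_)) (inv_mem hp)
    rw [act_mul]
    rcases hH h hh with e | e
    · exact (congrArg (act g) e).symm ▸ hge
    · exact ((congrArg (act g) e).trans (mulVec_neg _ _)).symm ▸ ge_neg hge
  · have hall : ∀ a, θ a ∈ PP k μ := fun a => by
      have : y⁻¹ * a * y ∈ ((PP k μ).comap θ).comap (MulAut.conj y).toMonoidHom :=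
        e ▸ Subgroup.mem_top _
      simpa [mul_assoc] using this
    obtain ⟨r, hr⟩ : ∃ r : Rt D, act g v (Sum.inr r) ≠ 0 := by
      by_contra! h
      refine h0 ?_
      rw [← act_inv_act g v, show act g v = 0 from funext fun j => by
        rcases j with i | r
        exacts [hge.1 i, h r]]
      exact mulVec_zero _
    refine nn_not_mem hμ (hge.2 r hr) (k := k) ?_
    have := hall (nn D (xG D F) r 1)
    rwa [nn_eq, map_mul, map_mul, ← negR_val, hx, hx, map_neg, map_inv₀, map_one, negR_val,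
      ← nn_eq] at this
  · rw [← (H67.stBG (D := D) (k := F)).card_U, Subgroup.comap_equiv_eq_map_symm',
      Subgroup.card_map_of_injective (MulEquiv.injective _)]
    refine Subgroup.card_dvd_of_le fun u hu => Subgroup.mem_sup_left (gen_mono _ (fun r hr => ?_)
      (map_mem_gen_XR θ (y := xU D k) (fun r _ t => ⟨_, hx r t⟩) hu))
    change 0 ≤ μ r
    rw [hμ r]
    exact Finset.sum_nonneg fun i _ => mul_nonneg (Int.cast_nonneg (hr i)) (hd i)

end Gen

attribute [local instance] H65.tabE8 H65.commE8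

theorem jobNil (kempf : JobKempf) : JobNil := by
  intro H v h0 hv hH hg
  obtain ⟨σ, h2, h3, -⟩ := H67.exists_frobAut (ZMod 3)
  obtain ⟨M, a, b, c⟩ := exists_M (ι := algebraMap (ZMod 3) K3) kempf (q := 3) (by norm_num)
    (frobenius_def 3) (fun t => by rw [← h3, h2, ZMod.card, frobenius_def]) (kerE8.cker_eq_bot _)
    H h0 hv hH hg
  refine ⟨M, a, b, Dvd.dvd.trans ?_ c⟩
  rw [Nat.card_zmod]
  exact pow_dvd_pow 3 (show 2 ≤ _ by decide)

end H81.E8Nil
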