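/- Tower E8G, job U: the twisted points of a unipotent subgroup. -/
import Cfsg.Agent.H40.E8GSpec
import Cfsg.Agent.H67.InvRed
import Cfsg.Agent.H67.SubRGD

set_option autoImplicit false
set_option linter.unusedSectionVars false

namespace H81.E8GU

open Cfsg.Lie H63 H64 H65 H46 H67.Sub Matrix H40.E8G
open scoped commutatorElement

section

variable {D : ChevalleyDatum} [RS D] {K : Type*} [Field K] {G : Type*} [Group G] {x : ℕ → K → G}

/-- A closed set of positive roots. -/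
def Cl (Ψ : Set (Rt D)) : Prop := (∀ r ∈ Ψ, Pos r) ∧
  ∀ r ∈ Ψ, ∀ s ∈ Ψ, ∀ (c : Rt D) (i j : ℤ), 1 ≤ i → 1 ≤ j → rt c = i • rt r + j • rt s → c ∈ Ψ

/-- An additive function on the roots. -/
def Ad (μ : Rt D → ℤ) : Prop :=
  ∀ (r s c : Rt D) (i j : ℤ), rt c = i • rt r + j • rt s → μ c = i * μ r + j * μ s

theorem exists_mu {ρ : Equiv.Perm (Rt D)} (hl : IsLin ρ) : ∃ μ : Rt D → ℤ, Ad μ ∧
    (∀ r, μ (ρ r) = μ r) ∧ ∀ r, (∀ i : ℕ, Pos ((ρ ^ i) r)) → 0 < μ r := by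
  refine ⟨fun r => ∑ i ∈ Finset.range (orderOf ρ), ht ((ρ ^ i) r), fun r s c i j h => ?_,
    fun r => ?_, fun r h => Finset.sum_pos (fun i _ => pos_iff_ht.1 (h i))
      ⟨0, Finset.mem_range.2 (orderOf_pos ρ)⟩⟩
  · simp only [Finset.mul_sum, ← Finset.sum_add_distrib]
    refine Finset.sum_congr rfl fun n _ => ?_
    obtain ⟨f, hf, -⟩ := isLin_pow hl n
    simp only [ht, hf, h, map_add, map_smul, Pi.add_apply, Pi.smul_apply, smul_eq_mul,
      Finset.sum_add_distrib, Finset.mul_sum]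
  · have h1 := Finset.sum_range_succ (fun i => ht ((ρ ^ i) r)) (orderOf ρ)
    rw [Finset.sum_range_succ', pow_orderOf_eq_one, pow_zero] at h1
    simpa only [pow_succ, Equiv.Perm.mul_apply] using add_right_cancel h1

variable {Ψ S : Set (Rt D)} {μ : Rt D → ℤ} {m : ℤ}

/-- `S` is obtained from `Ψ` by removing roots of least weight. -/
structure Low (Ψ S : Set (Rt D)) (μ : Rt D → ℤ) (m : ℤ) : Prop where
  cl : Cl Ψ
  ad : Ad μ
  pos : 0 < m
  le : ∀ r ∈ Ψ, m ≤ μ r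
  sub : S ⊆ Ψ
  big : ∀ r ∈ Ψ, m < μ r → r ∈ S

theorem Low.comb (l : Low Ψ S μ m) {r s c : Rt D} (hr : r ∈ Ψ) (hs : s ∈ Ψ) {i j : ℤ} (hi : 1 ≤ i)
    (hj : 1 ≤ j) (h : rt c = i • rt r + j • rt s) : c ∈ S := by
  refine l.big c (l.cl.2 r hr s hs c i j hi hj h) ?_
  have := l.le r hr
  have := l.le s hs
  have := l.pos
  rw [l.ad r s c i j h]
  nlinarith

theorem Low.cl' (l : Low Ψ S μ m) : Cl S :=
  ⟨fun r hr => l.cl.1 r (l.sub hr), fun _ hr _ hs _ _ _ hi hj h =>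
    l.comb (l.sub hr) (l.sub hs) hi hj h⟩

theorem Low.comm1 (l : Low Ψ S μ m) (h : St D x) {a b : Rt D} (ha : a ∈ Ψ) (hb : b ∈ Ψ) {y z : G}
    (hy : y ∈ XR D x a) (hz : z ∈ XR D x b) : ⁅y, z⁆ ∈ gen (XR D x) S := by
  by_cases hab : a = b
  · subst hab
    obtain ⟨t, rfl⟩ := h.mem_XR.1 hy
    obtain ⟨u, rfl⟩ := h.mem_XR.1 hz
    rw [commutatorElement_eq_one_iff_mul_comm.2 (h.x_comm a t u)]
    exact one_mem _
  · exact h.commutator_mem hab (by rintro rfl; exact pos_negR.1 (l.cl.1 _ ha) (l.cl.1 _ hb))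
      (fun c i j hi hj e => l.comb hb ha hi hj e) hy hz

theorem Low.conj (l : Low Ψ S μ m) (h : St D x) {g v : G} (hg : g ∈ gen (XR D x) Ψ)
    (hv : v ∈ gen (XR D x) S) : g * v * g⁻¹ ∈ gen (XR D x) S := by
  refine gen_induction_left (p := fun g => g * v * g⁻¹ ∈ gen (XR D x) S) (by simpa using hv) ?_ hg
  intro a ha y hy g _ ih
  rw [show y * g * v * (y * g)⁻¹ = y * (g * v * g⁻¹) * y⁻¹ by group]
  refine conj_mem_of_gen (fun c hc z hz => ?_) ih
  rw [show y * z * y⁻¹ = ⁅y, z⁆ * z by rw [commutatorElement_def]; group]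
  exact mul_mem (l.comm1 h ha (l.sub hc) hy hz) (le_gen _ hc hz)

theorem Low.comm (l : Low Ψ S μ m) (h : St D x) {b : Rt D} (hb : b ∈ Ψ) {g z : G}
    (hg : g ∈ gen (XR D x) Ψ) (hz : z ∈ XR D x b) : ⁅g, z⁆ ∈ gen (XR D x) S := by
  refine gen_induction_left (p := fun g => ⁅g, z⁆ ∈ gen (XR D x) S) (by simp) ?_ hg
  intro a ha y hy g _ ih
  rw [show ⁅y * g, z⁆ = y * ⁅g, z⁆ * y⁻¹ * ⁅y, z⁆ by simp only [commutatorElement_def]; group]
  exact mul_mem (l.conj h (le_gen _ ha hy) ih) (l.comm1 h ha hb hy hz)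

theorem eq_zero_of_mem (h : StB D x) (hS : Cl S) {r : Rt D} (hr : Pos r) (hn : r ∉ S) {t : K}
    (ht : x r t ∈ gen (XR D x) S) : t = 0 := by
  classical
  set L := (Set.toFinite S).toFinset.toList with hLdef
  have hnd : L.Nodup := Finset.nodup_toList _
  have hL : ∀ r, r ∈ L ↔ r ∈ S := fun r => by simp [hLdef]
  obtain ⟨y, hy, e⟩ := (commUp_of_comb h.toSt hS.1 hS.2).exists_prod L hnd hL ht
  have hne : ∀ c ∈ L, c ≠ r := fun c hc e => hn (e ▸ (hL c).1 hc)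
  have := h.rgd.prod_unique (r :: L) (List.nodup_cons.2 ⟨fun h => hne r h rfl, hnd⟩)
    (fun c hc => (List.mem_cons.1 hc).elim (fun e => e ▸ hr) fun hc => hS.1 c ((hL c).1 hc))
    (y := fun c => if c = r then x r t else 1) (y' := fun c => if c = r then 1 else y c)
    (fun c => by
      split_ifs with e
      exacts [e ▸ x_mem_XR D x r t, one_mem _])
    (fun c => by
      split_ifs
      exacts [one_mem _, hy c])
    (by
      rw [List.map_cons, List.map_cons, List.prod_cons, List.prod_cons, if_pos rfl, if_pos rfl,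
        List.map_congr_left fun c hc => if_neg (hne c hc),
        List.map_congr_left fun c hc => if_neg (hne c hc), ← e]
      simp) r List.mem_cons_self
  exact h.eq_zero_of_x_eq_one r (by simpa using this)

/-- The solutions of `η t ^ Q = t`. -/
theorem exists_A [IsAlgClosed K] (φ : K →+* K) {Q : ℕ} (hQ : 2 ≤ Q) (h0 : (Q : K) = 0)
    (hφ : ∀ t, φ t = t ^ Q) {η : K} (hη : η ≠ 0) :
    ∃ A : Subgroup (Multiplicative K), Nat.card A = Q ∧ ∀ t ∈ A, η * t.toAdd ^ Q = t.toAdd := by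
  classical
  refine ⟨AddSubgroup.toSubgroup (((AddMonoidHom.mulLeft η).comp φ.toAddMonoidHom).eqLocus
    (AddMonoidHom.id K)), ?_, fun t ht => by rw [← hφ]; exact ht⟩
  let p : Polynomial K := Polynomial.C η * Polynomial.X ^ Q - Polynomial.X
  have hd : p.natDegree = Q := by
    rw [Polynomial.natDegree_sub_eq_left_of_natDegree_lt] <;>
      rw [Polynomial.natDegree_C_mul_X_pow _ _ hη]
    rw [Polynomial.natDegree_X]
    omega
  have hs : p.Separable := by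
    have : Polynomial.derivative p = -1 := by simp [p, Polynomial.derivative_X_pow, h0]
    rw [Polynomial.separable_def, this]
    exact isCoprime_one_right.neg_right
  rw [← hd, ← Polynomial.card_rootSet_eq_natDegree hs (IsAlgClosed.splits (k := K) _),
    ← Nat.card_eq_fintype_card]
  refine Nat.card_congr (Equiv.subtypeEquiv Multiplicative.toAdd fun t => ?_)
  rw [Polynomial.mem_rootSet_of_ne hs.ne_zero]
  change η * φ t.toAdd = t.toAdd ↔ _
  simp [p, hφ, sub_eq_zero]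

theorem dvd_card [IsAlgClosed K] (h : StB D x) {γ : G →* G} {ρ : Equiv.Perm (Rt D)} {q : ℕ}
    (f : Frob x γ ρ q) (hq : 2 ≤ q) (h0 : (q : K) = 0) (φ : K →+* K) (hφ : ∀ t, φ t = t ^ q)
    (lang : ∀ S : Set (Rt D), (∀ r ∈ S, ρ r ∈ S) → ∀ g ∈ gen (XR D x) S,
      ∃ y ∈ gen (XR D x) S, y⁻¹ * γ y = g) (n : ℕ) :
    ∀ Ψ : Set (Rt D), Ψ.ncard = n → Cl Ψ → (∀ r ∈ Ψ, ρ r ∈ Ψ) →
      q ^ n ∣ Nat.card ↥(gen (XR D x) Ψ ⊓ γ.eqLocus (MonoidHom.id G)) := by
  induction n using Nat.strong_induction_on with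
  | _ n ih =>
  intro Ψ hn hc hs
  rcases Ψ.eq_empty_or_nonempty with rfl | hne
  · rw [← hn, Set.ncard_empty, pow_zero]
    exact one_dvd _
  obtain ⟨μ, m1, m2, m3⟩ := exists_mu f.lin
  obtain ⟨r, hr, hmin⟩ := Set.exists_min_image Ψ μ (Set.toFinite Ψ) hne
  have hp : ∀ c ∈ Ψ, ∀ i : ℕ, (ρ ^ i) c ∈ Ψ := fun c hc i => by
    induction i with
    | zero => exact hc
    | succ i ih => rw [pow_succ']; exact hs _ ih
  have hμ : ∀ i : ℕ, μ ((ρ ^ i) r) = μ r := fun i => by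
    induction i with
    | zero => rfl
    | succ i ih => rw [pow_succ', Equiv.Perm.mul_apply, m2, ih]
  have h0μ : 0 < μ r := m3 r fun i => hc.1 _ (hp r hr i)
  obtain ⟨d, hd0, hd1, hd2⟩ : ∃ d, 0 < d ∧ (ρ ^ d) r = r ∧
      Set.InjOn (fun i => (ρ ^ i) r) (Set.Iio d) := by
    refine ⟨Function.minimalPeriod ρ r, Function.minimalPeriod_pos_of_mem_periodicPts
      (ρ.injective.mem_periodicPts r), Function.isPeriodicPt_minimalPeriod ρ r, ?_⟩
    exact Function.iterate_injOn_Iio_minimalPeriod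
  obtain ⟨d, rfl⟩ : ∃ e, d = e + 1 := ⟨d - 1, by omega⟩
  set O := (fun i => (ρ ^ i) r) '' Set.Iio (d + 1) with hO
  have hOs : O ⊆ Ψ := by
    rintro _ ⟨i, -, rfl⟩
    exact hp r hr i
  have hOc : O.ncard = d + 1 := by rw [hO, hd2.ncard_image, Set.ncard_Iio_nat]
  have l1 : Low Ψ (Ψ \ O) μ (μ r) := ⟨hc, m1, h0μ, hmin, Set.sdiff_subset, fun c hc hm => ⟨hc, by
    rintro ⟨i, -, rfl⟩
    exact absurd (hμ i) hm.ne'⟩⟩
  have l2 : Low Ψ (Ψ \ {r}) μ (μ r) := ⟨hc, m1, h0μ, hmin, Set.sdiff_subset, fun c hc hm => ⟨hc, by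
    rintro rfl
    exact hm.false⟩⟩
  have hs' : ∀ c ∈ Ψ \ O, ρ c ∈ Ψ \ O := by
    rintro c ⟨h1, h2⟩
    refine ⟨hs c h1, ?_⟩
    rintro ⟨i, hi, e⟩
    rcases i with _ | i
    · refine h2 ⟨d, Nat.lt_succ_self d, ρ.injective ?_⟩
      rw [← e, ← Equiv.Perm.mul_apply, ← pow_succ', hd1]
      rfl
    · refine h2 ⟨i, (Nat.lt_succ_self i).trans hi, ρ.injective ?_⟩
      rw [← e, ← Equiv.Perm.mul_apply, ← pow_succ']
  have hle : gen (XR D x) (Ψ \ O) ≤ gen (XR D x) (Ψ \ {r}) :=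
    gen_mono _ (Set.sdiff_subset_sdiff_right (Set.singleton_subset_iff.2 ⟨0, Nat.succ_pos d, rfl⟩))
  have hcard := Set.ncard_sdiff_add_ncard_of_subset hOs
  have ih' := ih _ (by omega) (Ψ \ O) rfl l1.cl' hs'
  obtain ⟨η, e1, e2⟩ := (f.itr (d + 1)).map_x r
  obtain ⟨A, hA, hA'⟩ := exists_A (φ ^ (d + 1)) (Q := q ^ (d + 1))
    (hq.trans (Nat.le_self_pow d.succ_ne_zero q)) (by simp [h0]) (fun t => by
      generalize d + 1 = e
      induction e with
      | zero => simp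
      | succ e ih => rw [pow_succ', RingHom.mul_def, RingHom.comp_apply, ih, hφ, ← pow_mul, pow_succ])
    (left_ne_zero_of_mul_eq_one e1)
  set B := gen (XR D x) Ψ with hB
  set N := (gen (XR D x) (Ψ \ {r})).subgroupOf B with hN
  have : N.Normal := ⟨fun v hv g => l2.conj h.toSt g.2 hv⟩
  have xB : ∀ t, x r t ∈ B := fun t => le_gen _ hr (x_mem_XR D x r t)
  let j : Multiplicative K →* B ⧸ N := (QuotientGroup.mk' N).comp (MonoidHom.mk'
    (fun t => ⟨x r t.toAdd, xB _⟩) fun a b => Subtype.ext (h.toSt.add r r.2 _ _).symm)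
  have hj : Function.Injective j := (injective_iff_map_eq_one _).2 fun t ht =>
    eq_zero_of_mem h l2.cl' (hc.1 r hr) (fun h => h.2 rfl) 
      ((QuotientGroup.eq_one_iff (N := N) ⟨_, xB t.toAdd⟩).1 ht)
  let π : ↥(B ⊓ γ.eqLocus (MonoidHom.id G)) →* B ⧸ N :=
    (QuotientGroup.mk' N).comp (Subgroup.inclusion inf_le_left)
  have hk : (gen (XR D x) (Ψ \ O) ⊓ γ.eqLocus (MonoidHom.id G)).subgroupOf
      (B ⊓ γ.eqLocus (MonoidHom.id G)) ≤ π.ker := fun g hg =>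
    (QuotientGroup.eq_one_iff _).2 (hle hg.1)
  have hr' : A.map j ≤ π.range := by
    rintro _ ⟨t, ht, rfl⟩
    set g := x r t.toAdd with hg
    have hi : ∀ i, itr γ i g ∈ XR D x ((ρ ^ i) r) := fun i => by
      obtain ⟨η, -, e⟩ := (f.itr i).map_x r
      rw [hg, (e _).1]
      exact x_mem_XR D x _ _
    have hm : nu γ (d + 1) g ∈ B := nu_mem fun i _ => le_gen _ (hp r hr i) (hi i)
    have e3 := nu_succ' γ (d + 1) g
    rw [hg, (e2 _).1, hd1, hA' t ht, ← hg, nu_succ] at e3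
    obtain ⟨y, hy, e4⟩ := lang _ hs' _
      (l1.comm h.toSt hr (inv_mem hm) (inv_mem (x_mem_XR D x r t.toAdd)))
    have hyB : y ∈ B := gen_mono _ Set.sdiff_subset hy
    refine ⟨⟨nu γ (d + 1) g * y⁻¹, B.mul_mem hm (B.inv_mem hyB), ?_⟩, ?_⟩
    · change γ _ = nu γ (d + 1) g * y⁻¹
      rw [map_mul, map_inv, eq_inv_mul_of_mul_eq e3, eq_mul_of_inv_mul_eq e4,
        commutatorElement_def, ← hg]
      group
    · refine (QuotientGroup.eq.2 ?_).symm
      change g⁻¹ * (nu γ (d + 1) g * y⁻¹) ∈ gen (XR D x) (Ψ \ {r})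
      rw [nu_succ, mul_assoc, inv_mul_cancel_left]
      refine mul_mem (map_nu_mem fun i h1 h2 => ?_) (inv_mem (hle hy))
      exact le_gen (XR D x) (S := Ψ \ {r}) ⟨hp r hr i, fun e =>
        h1.ne' (hd2 h2 (Nat.succ_pos d) e)⟩ (hi i)
  rw [← hn, ← hcard, hOc, pow_add, Subgroup.card_eq_card_quotient_mul_card_subgroup π.ker,
    Nat.card_congr (QuotientGroup.quotientKerEquivRange π).toEquiv, mul_comm]
  refine mul_dvd_mul ?_ (ih'.trans ?_)
  · rw [← hA, ← Subgroup.card_map_of_injective hj]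
    exact Subgroup.card_dvd_of_le hr'
  · rw [← Nat.card_congr (Subgroup.subgroupOfEquivOfLe
      (inf_le_inf_right _ (gen_mono _ Set.sdiff_subset))).toEquiv]
    exact Subgroup.card_dvd_of_le hk

theorem sgn_nL (h : StN D x) (L : List ℕ) : Sgn D x (nL D x L) (wW D L).1 := by
  induction L with
  | nil => exact Sgn.one
  | cons i L ih =>
    rw [nL_cons, wW_cons, sN]
    split_ifs with hi
    · exact (h.sgn_n ⟨i, hi⟩).mul ih
    · simpa using ih

end

theorem jobU : JobU := by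
  intro D _ _ _ k _ _ φ q hq ho h0 hφ L Ψ h1 h2 h3
  have hθ : ∀ (r : Rt D) t, GeneralLinearGroup.map φ (xU D k r t) = xU D k r (φ t) :=
    fun r t => map_xU φ r t
  have hP : GeneralLinearGroup.map φ (nL D (xU D k) L) = nL D (xU D k) L :=
    map_nL _ (fun i => (fld_nn hθ (simpleR i) 1).trans (by rw [map_one]; rfl)) L
  obtain ⟨n, hn, h9⟩ := H67.Sub.exists_pow_eq_one_of_fix hq hφ hP
  have f0 : Frob (xU D k) (GeneralLinearGroup.map φ) (1 : Equiv.Perm (Rt D)) q :=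
    ⟨isLin_one, ho, fun r => ⟨1, one_mul 1, fun t => by
      rw [hθ, hθ, hφ, one_mul]
      exact ⟨rfl, rfl⟩⟩⟩
  have f := (Frob.of_sgn (sgn_nL (stB_xU D k).toStN L) (isLin_W _)).comp f0
  rw [mul_one, one_mul] at f
  exact dvd_card (stB_xU D k) f hq h0 φ hφ (fun S hS g hg => (conn_gen S).lang_tw φ hq hφ _ hP hn
    (fun g _ => by rw [h9, one_mul, mul_one])
    (fun g hg => f.map_gen (stB_xU D k).toSt hS hg) hg) _ Ψ rfl ⟨h1, h2⟩ h3

end H81.E8GU
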