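import Cfsg.Agent.H81.P83G
set_option maxRecDepth 1000000
set_option Elab.async false
namespace H81.P83P5
open H71
noncomputable def g1 : ℕ := 0x2000200000001000200010002000000010001000000020000000200000002000000000000000000000002000100020001000200020000000000010002000200000000000100010000000100000000000200010002000100020002000100010002000100000001000200010001000100010001000000020002000200010001
noncomputable def g1i : ℕ := 0x200020002000200000000000000010002000100020001000200020001000000010001000100020000000100020000000100010001000000020002000200000002000200010002000100000001000000010001000100020001000000020001000200000000000000000000000200010001000100020001000200000000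
noncomputable def L18 : List ℕ := g1 :: g1i :: [P83G.c17, P83G.c17i, P83G.c16, P83G.c16i, P83G.c15, P83G.c15i, P83G.c14, P83G.c14i, P83G.c13, P83G.c13i, P83G.c12, P83G.c12i, P83G.c11, P83G.c11i, P83G.c10, P83G.c10i, P83G.c9, P83G.c9i, P83G.c8, P83G.c8i, P83G.c7, P83G.c7i, P83G.c6, P83G.c6i, P83G.c5, P83G.c5i, P83G.c4, P83G.c4i, P83G.c3, P83G.c3i, P83G.c2, P83G.c2i, P83G.a1, P83G.a1i, P83G.a0, P83G.a0i]
theorem gd18 : GoodM (P83M.C) (P83M.ι) ⊤ L18 :=
  GoodM.word P83G.good [32,32,32,34,33,34,30,28,31,31,28,31,31,28,31,31,26,15,10,0] (by decide +kernel)
noncomputable def g2 : ℕ := 0x20001000100020001000100000001000100010001000200010000000100000000000000000000000000020001000100000000000000000000000000020000000000000000000000010000000100010000000000000000000200020001000100020001000200010000000000020002000200020002000200000002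
noncomputable def g2i : ℕ := 0x20002000100010000000000000000000100020002000200000000000100020000000000010001000000000000000200000002000100000002000000020001000100020000000000010001000000010001000200000001000000010000000000020002000200010000000000000000000100020001000100000000
noncomputable def L19 : List ℕ := g2 :: g2i :: L18
theorem gd19 : GoodM (P83M.C) (P83M.ι) ⊤ L19 :=
  GoodM.word gd18 [36,34,36,34,32,32,32,30,33,33,33,33,33,28,24,26,26,15,18,9,12,2,5] (by decide +kernel)
noncomputable def x0 : ℕ := 0x2000100010001000000000000000000010002000100000002000000010001000100010000000000000000000100020002000000010001000000000000000000020001000200000000000100010002000200010001000100000000000100020002000000010001000100000002000200020002000000000001000200000002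
noncomputable def x0i : ℕ := 0x10001000000020000000000010000000000020000000000000000000100010002000000000001000100000002000200020002000000010002000000020002000200020002000100010002000100010000000200010002000100000002000100010000000100010000000100000001000100000001000000000001
noncomputable def L20 : List ℕ := x0 :: x0i :: L19
theorem gd20 : GoodM (P83M.C) (P83M.ι) ⊤ L20 :=
  GoodM.word gd19 [39,37,38,36,39,39,32,34,32,34,34,34,32,34,31,26,31,11,9,5,7] (by decide +kernel)
noncomputable def L : List ℕ := [x0, x0i, g2, g2i, g1, g1i, P83G.c17, P83G.c17i, P83G.c16, P83G.c16i, P83G.c15, P83G.c15i, P83G.c14, P83G.c14i, P83G.c13, P83G.c13i, P83G.c12, P83G.c12i, P83G.c11, P83G.c11i, P83G.c10, P83G.c10i, P83G.c9, P83G.c9i, P83G.c8, P83G.c8i, P83G.c7, P83G.c7i, P83G.c6, P83G.c6i, P83G.c5, P83G.c5i, P83G.c4, P83G.c4i, P83G.c3, P83G.c3i, P83G.c2, P83G.c2i, P83G.a1, P83G.a1i, P83G.a0, P83G.a0i]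
theorem good : GoodM (P83M.C) (P83M.ι) ⊤ L := gd20
noncomputable def T : ℕ := 0x10280020500000000000000000000000000000000000000000000000000000000000000000000000000000000000000000000000000000000000000000000000000000000000000000000000000000000000000000000000000000000000001050000000000000000000000000000000000000000000000000000000000000000000000000000000000000000000000000000000000000000000000000000000000000000000000000000000000000000000000000000000000000000
noncomputable def QT : List ℕ := [0x800000800000]
noncomputable def UT : List ℕ := [0x210800210800000]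
noncomputable def I : ℕ := 0xffffffffffffffffffffffffffffffffffffffffffffffffffffffffff0204ff
noncomputable def E0 : List (ℕ × ℕ × ℕ × List ℕ) := [(1, 0x108421, 0, [2115]),
  (1, 0x210842, 0, [4227]),
  (1, 0x22, 0x41, [4162])]
noncomputable def E : List (ℕ × ℕ × ℕ × List ℕ) := (E0 ++ [])
noncomputable def Y : List (List ℕ) := [[],
  []]
noncomputable def CL : List (List ℕ × ℕ × ℕ) := []
noncomputable def CF : List (List ℕ) := [[],
  [0x3],
  [0x2000, 0xc0]]
noncomputable def Ls : List Lv := [⟨0x1000200000002000100020000, [0x1], [0,0,0,0], 0, 1036771160, 1, 5⟩,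
  ⟨0x10000000100000001000100000001, [0x2], [0,0,0,0], 0, 748533636, 1, 5⟩]
theorem e0 : allM (chkEq (slot T 23 0x800000) 1048576 33825 5 1056 (hmask 1056) (fun f => slot (nthD QT 0 f) 23 0x800000) (fun f => slot (nthD UT 0 f) 23 0x800000)) E0 = true := by decide +kernel
theorem r0 : relChkM (P83M.C).mul (P83M.C).one (cod L (P83M.C).one I) (slot T 23 0x800000) 33825 0 3 = true := by decide +kernel
theorem f0 : fusChkM (P83M.C).mul (P83M.C).one (cod L (P83M.C).one I) (fun f => slot (nthD QT 0 f) 23 0x800000) (fun f => slot (nthD UT 0 f) 23 0x800000) 0 1 = true := by decide +kernel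
theorem h0 : finChk (slot T 23 0x800000) 33825 5 1056 (hmask 1056) 3 (E.map fun e => e.2.2.2) Y CL CF 0 3 = true := by decide +kernel
theorem c0 : lbM (P83M.C).mul (P83M.C).one (fun w => mulW (P83M.C).mul (cod L (P83M.C).one I) 65 w (P83M.C).one) Ls (fun _ => true) = true := by decide +kernel
theorem main : NoStem (P83M.G) (5 ^ 1) :=
  noStem_of_codes (MonoidHom.id _) (P83M.ι_inj) (P83M.can) good (H65.MV.hz1 _ _) (H65.MV.hz01) (by norm_num) (P83M.card)
    (n := 2) (K := 1048576) (REP := 33825) (q := 5) (T := T) (W := 23) (PW := 0x800000) (QT := QT) (UT := UT) (I := I) (N := 1056) (S := 3) (Ls := Ls)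
    (by decide +kernel) ((Cov.zero _).step r0)
    ((Cov.zero _).step f0) c0 (E := E) (allM_app e0 (fun _ h => absurd h List.not_mem_nil))
    (Y := Y) (CL := CL) (CF := CF) ((Cov.zero _).step h0)
end H81.P83P5
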