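import Cfsg.Agent.H81.S82G
set_option maxRecDepth 1000000
set_option Elab.async false
namespace H81.S82P5
open H71
noncomputable def g1 : ℕ := 0x89b0cad7748b44d4
noncomputable def g1i : ℕ := 0x4ab143495fb38495
noncomputable def L15 : List ℕ := g1 :: g1i :: [S82G.c14, S82G.c14i, S82G.c13, S82G.c13i, S82G.c12, S82G.c12i, S82G.c11, S82G.c11i, S82G.c10, S82G.c10i, S82G.c9, S82G.c9i, S82G.c8, S82G.c8i, S82G.c7, S82G.c7i, S82G.c6, S82G.c6i, S82G.c5, S82G.c5i, S82G.c4, S82G.c4i, S82G.c3, S82G.c3i, S82G.c2, S82G.c2i, S82G.a1, S82G.a1i, S82G.a0, S82G.a0i]
theorem gd15 : GoodM (S82M.C) (S82M.ι) ⊤ L15 :=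
  GoodM.word S82G.good [29,27,29,26,28,24,22,24,23,25,20,18,18,20,13,10,10,8,12,5,0] (by decide +kernel)
noncomputable def g2 : ℕ := 0x465dfbf1f4f82fcd
noncomputable def g2i : ℕ := 0x76bc2a37d3dfe3c7
noncomputable def L16 : List ℕ := g2 :: g2i :: L15
theorem gd16 : GoodM (S82M.C) (S82M.ι) ⊤ L16 :=
  GoodM.word gd15 [31,28,30,24,27,27,22,21,23,20,22,17,19,17,15,12,8,6] (by decide +kernel)
noncomputable def x0 : ℕ := 0xe2a2b3622c870128
noncomputable def x0i : ℕ := 0x90c04f624e099f02
noncomputable def L17 : List ℕ := x0 :: x0i :: L16
theorem gd17 : GoodM (S82M.C) (S82M.ι) ⊤ L17 :=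
  GoodM.word gd16 [31,33,30,33,28,27,25,22,24,20,20,20,15,15,12,4] (by decide +kernel)
noncomputable def L : List ℕ := [x0, x0i, g2, g2i, g1, g1i, S82G.c14, S82G.c14i, S82G.c13, S82G.c13i, S82G.c12, S82G.c12i, S82G.c11, S82G.c11i, S82G.c10, S82G.c10i, S82G.c9, S82G.c9i, S82G.c8, S82G.c8i, S82G.c7, S82G.c7i, S82G.c6, S82G.c6i, S82G.c5, S82G.c5i, S82G.c4, S82G.c4i, S82G.c3, S82G.c3i, S82G.c2, S82G.c2i, S82G.a1, S82G.a1i, S82G.a0, S82G.a0i]
theorem good : GoodM (S82M.C) (S82M.ι) ⊤ L := gd17
noncomputable def T : ℕ := 0x10280020500000000000000000000000000000000000000000000000000000000000000000000000000000000000000000000000000000000000000000000000000000000000000000000000000000000000000000000000000000000000001050000000000000000000000000000000000000000000000000000000000000000000000000000000000000000000000000000000000000000000000000000000000000000000000000000000000000000000000000000000000000000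
noncomputable def QT : List ℕ := [0x800000800000]
noncomputable def UT : List ℕ := [0x210800210800000]
noncomputable def I : ℕ := 0xffffffffffffffffffffffffffffffffffffffffffffffffffffffffff0204ff
noncomputable def E0 : List (ℕ × ℕ × ℕ × List ℕ) := [(1, 0x108421, 0, [2115]),
  (1, 0x210842, 0, [4227]),
  (1, 0x22, 0x41, [4162])]
noncomputable def E : List (ℕ × ℕ × ℕ × List ℕ) := (E0 ++ [])
noncomputable def Y : List (List ℕ) := [[],
  []]
noncomputable def CL : List (List ℕ × ℕ × ℕ) := []
noncomputable def CF : List (List ℕ) := [[],
  [0x3],
  [0x2000, 0xc0]]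
noncomputable def Ls : List Lv := [⟨0xc, [0x1], [0,0,0,0], 0x3000000000000000000000000000000000000000000000000000000000000000000000000000000000000000000000000000000000000000000000000000000000000000000000000000000000000000000000000000000000000000000000000000000000000000000000000000000000000000000000000000000000000000000000000000000000000000000000000000000000000000000000000000000000000000000000000000000000000000000000000000000000000000000000000000000000000000000000000000000000000000000000000000000000000000000000000000000000000000000000000000000000000000000000000000000000000000000000000000000000000000000000000000000000000000000000000000000000000000000000000000000000000000000000000000000000000000000000000000000000000000000000000000000000000000000000000000000000000000000000000000000000000000000000000000000000000000000000000000000000000000000000000000000000000000000000000000000000000000000000000000000000000000000000000000000000000000000000000000000000000000000000000000000000000000000000000000000000000000000000000000000000000000000000000000000000000000000000000000000000000, 396291107, 1305, 5⟩,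
  ⟨0x72, [0x2], [0,0,0,0], 0x2000000000000000000000000000000000000000000000000000000000000000000000000000000000000000000000000000000000000000000000000000000000000000000000000000000000000000000000000000000000000000000000000000000000000000000000000000000000000000000000000000000000000000000000000000000000000000000000000000000000000000000000000000000000000000000000000000000000000000000000000000000000000000000000000000000000000000000000000000000000000000000000000000000000000000000000000000000000000000000000000, 380641956, 1273, 5⟩]
theorem e0 : allM (chkEq (slot T 23 0x800000) 1048576 33825 5 1056 (hmask 1056) (fun f => slot (nthD QT 0 f) 23 0x800000) (fun f => slot (nthD UT 0 f) 23 0x800000)) E0 = true := by decide +kernel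
theorem r0 : relChkM (S82M.C).mul (S82M.C).one (cod L (S82M.C).one I) (slot T 23 0x800000) 33825 0 3 = true := by decide +kernel
theorem f0 : fusChkM (S82M.C).mul (S82M.C).one (cod L (S82M.C).one I) (fun f => slot (nthD QT 0 f) 23 0x800000) (fun f => slot (nthD UT 0 f) 23 0x800000) 0 1 = true := by decide +kernel
theorem h0 : finChk (slot T 23 0x800000) 33825 5 1056 (hmask 1056) 3 (E.map fun e => e.2.2.2) Y CL CF 0 3 = true := by decide +kernel
theorem c0 : lbM (S82M.C).mul (S82M.C).one (fun w => mulW (S82M.C).mul (cod L (S82M.C).one I) 65 w (S82M.C).one) Ls (fun _ => true) = true := by decide +kernel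
theorem main : NoStem (S82M.G) (5 ^ 1) :=
  noStem_of_codes (MonoidHom.id _) (S82M.ι_inj) (S82M.can) good (H65.MV.hz1 _ _) (H65.MV.hz01) (by norm_num) (S82M.card)
    (n := 2) (K := 1048576) (REP := 33825) (q := 5) (T := T) (W := 23) (PW := 0x800000) (QT := QT) (UT := UT) (I := I) (N := 1056) (S := 3) (Ls := Ls)
    (by decide +kernel) ((Cov.zero _).step r0)
    ((Cov.zero _).step f0) c0 (E := E) (allM_app e0 (fun _ h => absurd h List.not_mem_nil))
    (Y := Y) (CL := CL) (CF := CF) ((Cov.zero _).step h0)
end H81.S82P5
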