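import Cfsg.Agent.H14.CBSpec

/-! Tower CB (S1308), job Tr: transitivity on the involutions of a point. -/

set_option autoImplicit false

namespace H81.CBTr

open Cfsg Subgroup H14 H98 H14.FE H14.NF H14.CB
open scoped commutatorElement

universe u

variable {G : Type u} [Group G]

theorem conj_eq {a : G} (h : a * a = 1) (g : G) : g * a * g⁻¹ = a * ⁅a, g⁆ := by
  rw [commutatorElement_def, ← mul_assoc, ← mul_assoc, ← mul_assoc, h, one_mul,
    inv_eq_of_mul_eq_one_right h]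

/-- conjugate under `H` -/
def R (H : Subgroup G) (a b : G) : Prop := ∃ g ∈ H, g * a * g⁻¹ = b

theorem R.symm {H : Subgroup G} {a b : G} (h : R H a b) : R H b a :=
  let ⟨g, hg, e⟩ := h; ⟨g⁻¹, inv_mem hg, by rw [← e]; group⟩

theorem R.trans {H : Subgroup G} {a b c : G} (h : R H a b) (k : R H b c) : R H a c :=
  let ⟨g, hg, e⟩ := h; let ⟨g', hg', e'⟩ := k
  ⟨g' * g, mul_mem hg' hg, by rw [← e', ← e]; group⟩

theorem jobX : H14.CB.JTr.{u} := by
  intro G _ _ Q E tg Q₁ T P P' l p x hx xT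
  obtain ⟨g0, -, eT⟩ := l.col.p2
  have cT : Nat.card E = Nat.card T := by rw [eT, card_cj]
  have elT : ∀ t ∈ T, t * t = 1 := by
    rw [eT]
    rintro _ ⟨a, ha, rfl⟩
    rw [← map_mul, tg.el a ha, map_one]
  have ET : ∀ r ∈ E, ∀ t ∈ T, r * t = t * r := fun r hr t ht => l.col.comm ht r hr
  have xt : ∀ t ∈ T, x * t * x⁻¹ = t := fun t ht => by
    rw [← (p.le hx).2 t ht, mul_inv_cancel_right]
  have yr : ∀ y ∈ P, ∀ r ∈ E, y * r * y⁻¹ = r := fun y hy r hr => by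
    rw [← (l.pg.le hy).2 r hr, mul_inv_cancel_right]
  have sur : ∀ t ∈ T, ∃ r ∈ E, ⁅r, x⁆ = t := fun t ht => by
    let φ : E → T := fun r => ⟨⁅(r : G), x⁆, p.cm _ r.2 x hx⟩
    have inj : Function.Injective φ := fun a b e => by
      have e' : ⁅(a : G), x⁆ = ⁅(b : G), x⁆ := congrArg Subtype.val e
      by_contra k
      refine p.nd x hx xT ((b : G)⁻¹ * a) (E.mul_mem (E.inv_mem b.2) a.2)
        (fun m => k (Subtype.ext (inv_mul_eq_one.1 m).symm)) ?_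
      generalize (a : G) = A, (b : G) = B at e' ⊢
      rw [commutatorElement_def] at e' ⊢
      rw [commutatorElement_def] at e'
      calc B⁻¹ * A * x * (B⁻¹ * A)⁻¹ * x⁻¹ = B⁻¹ * (A * x * A⁻¹ * x⁻¹) * x * B * x⁻¹ := by group
        _ = 1 := by rw [e']; group
    obtain ⟨r, hr⟩ := ((Nat.bijective_iff_injective_and_card φ).2 ⟨inj, cT⟩).2 ⟨t, ht⟩
    exact ⟨r, r.2, congrArg Subtype.val hr⟩
  have no : ∀ g : G, (∀ r ∈ E, g * r * g⁻¹ ∈ E ⊔ T) → (∀ t ∈ T, g * t * g⁻¹ ∈ E ⊔ T) →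
      g ∈ normalizer ((E ⊔ T : Subgroup G) : Set G) := fun g h1 h2 =>
    mem_normalizer_of_cj_le (by
      rw [cj_sup]
      exact sup_le (by rintro _ ⟨a, ha, rfl⟩; exact h1 a ha) (by rintro _ ⟨a, ha, rfl⟩; exact h2 a ha))
  refine ⟨sur, sup_le (fun y hy => no y (fun r hr => ?_) fun t ht => ?_)
    (zpowers_le.2 (no x (fun r hr => ?_) fun t ht => ?_)), fun r hr s hs r1 s1 => ?_⟩
  · rw [yr y hy r hr]; exact mem_sup_left hr
  · rw [conj_eq (elT t ht)]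
    exact mul_mem (mem_sup_right ht) (mem_sup_left (l.pg.cm t ht y hy))
  · rw [conj_eq (tg.el r hr)]
    exact mul_mem (mem_sup_left hr) (mem_sup_right (p.cm r hr x hx))
  · rw [xt t ht]; exact mem_sup_right ht
  have xH : x ∈ P ⊔ zpowers x := mem_sup_right (mem_zpowers x)
  have h1 : ∀ a ∈ E, R (P ⊔ zpowers x) a (⁅a, x⁆ * a) := fun a ha =>
    ⟨x, xH, by rw [conj_eq (tg.el a ha), ET a ha _ (p.cm a ha x hx)]⟩
  have h2 : ∀ t ∈ T, t ≠ 1 → ∀ a ∈ E, ∀ b ∈ E, R (P ⊔ zpowers x) (t * a) (t * b) :=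
    fun t ht t1 a ha b hb => by
      obtain ⟨y, hy, e⟩ := l.fu t ht t1 (b * a⁻¹) (mul_mem hb (inv_mem ha))
      refine ⟨y, mem_sup_left hy, ?_⟩
      rw [show y * (t * a) * y⁻¹ = y * t * y⁻¹ * (y * a * y⁻¹) by group, yr y hy a ha,
        conj_eq (elT t ht), e, mul_assoc, inv_mul_cancel_right]
  have m1 := p.cm r hr x hx
  have m2 := p.cm s hs x hx
  obtain ⟨c, hc, e⟩ := sur _ (mul_mem (inv_mem m1) m2)
  have h3 : R (P ⊔ zpowers x) (⁅r, x⁆ * c) (⁅s, x⁆ * c) := ⟨x, xH, by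
    rw [show x * (⁅r, x⁆ * c) * x⁻¹ = x * ⁅r, x⁆ * x⁻¹ * (x * c * x⁻¹) by
      simp only [mul_assoc, inv_mul_cancel_left], xt _ m1, conj_eq (tg.el c hc), e,
      ET c hc _ (mul_mem (inv_mem m1) m2), ← mul_assoc, mul_inv_cancel_left]⟩
  exact (h1 r hr).trans ((h2 _ m1 (p.nd x hx xT r hr r1) r hr c hc).trans (h3.trans
    ((h2 _ m2 (p.nd x hx xT s hs s1) c hc s hs).trans (h1 s hs).symm)))

end H81.CBTr
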