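import Cfsg.Agent.H67.UASpec
import Cfsg.Agent.H57.Descent
import Cfsg.Agent.H59.AutMat
import Cfsg.Agent.H55.Transport
import Cfsg.Agent.H81.SUMult
import Cfsg.Agent.H81.BaseU

/-! STD-UM, slots FX and FO: automorphisms of `X = SU_(n+1)(q)` extend; `X` is quasisimple. -/

set_option autoImplicit false
set_option linter.unusedSectionVars false

namespace H81.UAX

open H64.SG (Is2 fx mem_fx)
open Matrix H57 Subgroup H67 H67.UA
open H67.SA (SLn Au la)

section Gen

variable {G H : Type} [Group G] [Group H]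

theorem quot_inj (hp : commutator G = ⊤) : Function.Injective (quotCenterAut G) := by
  refine (injective_iff_map_eq_one _).2 fun β hβ => ?_
  have h1 : ∀ a, β a * a⁻¹ ∈ center G := fun a => by
    have := congrArg (fun f => f (QuotientGroup.mk a)) hβ
    simp only [quotCenterAut_mk, MulAut.one_apply, QuotientGroup.eq] at this
    have h2 := (mem_center_iff.1 this) (β a)
    rw [mul_inv_cancel_left, mul_assoc, eq_inv_mul_iff_mul_eq] at h2
    have h3 : β a * a⁻¹ = ((β a)⁻¹ * a)⁻¹ := by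
      rw [_root_.mul_inv_rev, inv_inv, mul_inv_eq_iff_eq_mul, mul_assoc, h2, inv_mul_cancel_left]
    exact h3 ▸ inv_mem this
  have := GA.hom_eq_of_central' hp β.toMonoidHom (MonoidHom.id _)
    (fun a b => ((mem_center_iff.1 (h1 a)) _).symm) fun a b => ((mem_center_iff.1 (h1 a)) _).symm
  exact MulEquiv.ext fun s => congrArg (fun f => f s) this

theorem map_center (e : G ≃* H) : (center G).map (e : G →* H) = center H := by
  ext b
  obtain ⟨a, rfl⟩ := e.surjective b
  rw [show e a = (e : G →* H) a from rfl, mem_map_iff_mem e.injective, mem_center_iff, mem_center_iff]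
  refine ⟨fun h c => ?_, fun h c => e.injective (by simpa using h (e c))⟩
  obtain ⟨c, rfl⟩ := e.surjective c
  simpa using congrArg e (h c)

theorem quot_surj (e : G ≃* H) (h : Function.Surjective (quotCenterAut H)) :
    Function.Surjective (quotCenterAut G) := fun b => by
  let f := QuotientGroup.congr _ _ e (map_center e)
  obtain ⟨α, hα⟩ := h (MulAut.congr f b)
  refine ⟨(MulAut.congr e).symm α, MulEquiv.ext fun x => f.injective ?_⟩
  obtain ⟨x, rfl⟩ := QuotientGroup.mk_surjective x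
  have := congrArg (fun φ => φ (f (QuotientGroup.mk x))) hα
  simp only [MulAut.congr_apply, MulEquiv.trans_apply, MulEquiv.symm_apply_apply] at this
  rw [← this]
  change QuotientGroup.mk (e (e.symm (α (e x)))) = QuotientGroup.mk (α (e x))
  rw [MulEquiv.apply_symm_apply]

theorem perf_congr (e : G ≃* H) (h : commutator H = ⊤) : commutator G = ⊤ := by
  have h2 := map_commutator_eq H (e.symm : H →* G)
  rw [h, ← MonoidHom.range_eq_map, MonoidHom.range_eq_top.2 e.symm.surjective] at h2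
  exact h2.symm

theorem nrm_of (hp : commutator G = ⊤) [IsSimpleGroup (G ⧸ center G)] (N : Subgroup G)
    (hN : N.Normal) : N ≤ center G ∨ N = ⊤ := by
  rcases (Subgroup.Normal.map hN (QuotientGroup.mk' (center G))
    (QuotientGroup.mk'_surjective _)).eq_bot_or_eq_top with h1 | h1
  · left; rwa [Subgroup.map_eq_bot_iff, QuotientGroup.ker_mk'] at h1
  · right
    have h2 : ∀ a : G, ∃ b ∈ N, b⁻¹ * a ∈ center G := fun a => by
      obtain ⟨b, hb, e⟩ : QuotientGroup.mk' (center G) a ∈ N.map _ := h1 ▸ mem_top _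
      exact ⟨b, hb, QuotientGroup.eq.1 e⟩
    rw [eq_top_iff, ← QuotientGroup.ker_mk' N]
    refine fun s _ => GA.hom_eq_one' hp _ (fun a b => ?_) s
    obtain ⟨c, hc, e⟩ := h2 a
    have : QuotientGroup.mk' N a = QuotientGroup.mk' N (c⁻¹ * a) := by
      rw [map_mul, map_inv, (QuotientGroup.eq_one_iff c).2 hc |> fun h => show
        QuotientGroup.mk' N c = 1 from h, inv_one, one_mul]
    rw [this, ← map_mul, ← map_mul, (mem_center_iff.1 e) b]

end Gen

theorem two_le {n : ℕ} (K : Type) [Field K] [StarRing K] [hp : Par n K] : 2 ≤ n := by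
  have := hp.five; omega

theorem sg_ne (n : ℕ) {K : Type} [Field K] [StarRing K] [hp : Par n K] : sg K ≠ 1 := fun e => by
  obtain ⟨a, ha⟩ := hp.ne
  exact ha (congrArg (fun f : RingAut K => f a) e)

variable {n : ℕ} {K : Type} [Field K] [StarRing K] [CharP K 2] [Finite K] [hp : Par n K]

variable (n K) in
/-- the antidiagonal matrix -/
abbrev J : SLn n K := SA.pm Fin.revPerm

theorem J_apply (a b : Fin (n + 1)) : (J n K).1 a b = if a = b.rev then 1 else 0 := SA.pm_apply _ a b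

theorem J_sq : (J n K).1 * (J n K).1 = 1 := by
  rw [← SA.val_mul, ← SA.pm_mul, show (Fin.revPerm * Fin.revPerm : Equiv.Perm (Fin (n + 1))) = 1 from
    Equiv.ext fun i => Fin.rev_rev i, SA.pm_one, SA.val_one]

theorem J_ct : (J n K).1ᴴ = (J n K).1 := by
  ext a b
  rw [conjTranspose_apply, J_apply, J_apply]
  by_cases h : a = b.rev
  · simp [h]
  · rw [if_neg h, if_neg fun e => h (by rw [e, Fin.rev_rev]), star_zero]

theorem J_conj (M : Matrix (Fin (n + 1)) (Fin (n + 1)) K) :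
    (J n K).1 * M * (J n K).1 = of fun i j => M i.rev j.rev := by
  ext i j
  have h2 : ∀ a b : Fin (n + 1), (a = b.rev) = (b = a.rev) := fun a b =>
    propext ⟨fun h => by simp [h], fun h => by simp [h]⟩
  simp only [mul_apply, J_apply, mul_ite, mul_one, mul_zero, Finset.sum_ite_eq', Finset.mem_univ,
    if_true, of_apply, h2 i, ite_mul, one_mul, zero_mul]

theorem mem_X {s : SLn n K} : s ∈ fx (tau n K) ↔ s.1 * (J n K).1 * s.1ᴴ = (J n K).1 := by
  have : (of fun i j => star (s.1 j.rev i.rev)) = (J n K).1 * s.1ᴴ * (J n K).1 := by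
    rw [J_conj]; rfl
  rw [mem_XU_iff, this, ← mul_assoc, ← mul_assoc]
  exact ⟨fun h => by rw [← mul_one (_ * _), ← J_sq, ← mul_assoc, h, one_mul],
    fun h => by rw [h, J_sq]⟩

theorem exists_base [FQ K] : ∃ P : GL (Fin (n + 1)) K,
    ∀ s : SLn n K, slDiag _ K P⁻¹ s ∈ Cfsg.SU (n + 1) K (qK K) ↔ s ∈ fx (tau n K) := by
  obtain ⟨P, eP⟩ := exists_eq_mul_conjTranspose (sg K) (sg_ne n) star_star
    (g := SpecialLinearGroup.toGL (J n K)) J_ct
  change (J n K).1 = P.1 * P.1ᴴ at eP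
  refine ⟨P, fun s => ?_⟩
  rw [H55.mem_SU_iff_transpose_mul (starRingEnd K) FQ.star_eq, mem_X, ← transpose_inj, transpose_mul,
    transpose_transpose, transpose_one, mul_eq_one_comm]
  change (slDiag _ K P⁻¹ s).1 * (slDiag _ K P⁻¹ s).1ᴴ = 1 ↔ _
  rw [slDiag_coe, inv_inv, conjTranspose_mul, conjTranspose_mul, eP]
  have h1 : (P⁻¹).1ᴴ * P.1ᴴ = 1 := by rw [← conjTranspose_mul, Units.mul_inv, conjTranspose_one]
  have h2 : P.1ᴴ * (P⁻¹).1ᴴ = 1 := by rw [← conjTranspose_mul, Units.inv_mul, conjTranspose_one]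
  constructor
  · intro h
    calc s.1 * (P.1 * P.1ᴴ) * s.1ᴴ
        = P.1 * (P⁻¹).1 * s.1 * (P.1 * P.1ᴴ) * s.1ᴴ * ((P⁻¹).1ᴴ * P.1ᴴ) := by
          rw [Units.mul_inv, h1, one_mul, mul_one]
      _ = P.1 * ((P⁻¹).1 * s.1 * P.1 * (P.1ᴴ * (s.1ᴴ * (P⁻¹).1ᴴ))) * P.1ᴴ := by
          simp only [mul_assoc]
      _ = _ := by rw [h, mul_one]
  · intro h
    calc _ = (P⁻¹).1 * (s.1 * (P.1 * P.1ᴴ) * s.1ᴴ) * (P⁻¹).1ᴴ := by simp only [mul_assoc]
      _ = _ := by rw [h, ← mul_assoc, Units.inv_mul, one_mul, h2]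

theorem exists_iso [FQ K] : ∃ (P : GL (Fin (n + 1)) K) (e : XU n K ≃* Cfsg.SU (n + 1) K (qK K)),
    ∀ s : XU n K, (e s).1 = slDiag _ K P⁻¹ s.1 := by
  obtain ⟨P, hP⟩ := exists_base (n := n) (K := K)
  have h1 : ∀ s : SLn n K, slDiag _ K P⁻¹ (slDiag _ K P s) = s := fun s => by
    rw [map_inv]; exact MulAut.inv_apply_self _ _ s
  have h2 : ∀ s : SLn n K, slDiag _ K P (slDiag _ K P⁻¹ s) = s := fun s => by
    rw [map_inv]; exact MulAut.apply_inv_self _ _ s
  exact ⟨P,
    { toFun := fun s => ⟨slDiag _ K P⁻¹ s.1, (hP _).2 s.2⟩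
      invFun := fun s => ⟨slDiag _ K P s.1, (hP _).1 (by rw [h1]; exact s.2)⟩
      left_inv := fun s => Subtype.ext (h2 _)
      right_inv := fun s => Subtype.ext (h1 _)
      map_mul' := fun s t => Subtype.ext (map_mul _ _ _) }, fun _ => rfl⟩

theorem hF [FQ K] [Fintype K] : Fintype.card K = qK K ^ 2 := by
  rw [← FQ.card, Nat.card_eq_fintype_card]

theorem su_surj [FQ K] (b : MulAut (Cfsg.PSU (n + 1) K (qK K))) : ∃ g τ,
    b = quotCenterAut _ (H59.suDiag (n + 1) K (qK K) g * H59.suField (n + 1) K (qK K) τ) := by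
  have := Fintype.ofFinite K
  have := hp.five
  obtain ⟨g, τ, h⟩ := H59.psu_aut hF (n := n + 1) (by omega) (by omega) b
  exact ⟨g, τ, by rw [h, map_mul]; rfl⟩

theorem su_perf [FQ K] : commutator (Cfsg.SU (n + 1) K (qK K)) = ⊤ := by
  have := Fintype.ofFinite K
  have := hp.five
  exact H59.commutator_SU hF (by omega) (by omega)

theorem ext [FQ K] (β : MulAut (XU n K)) : ∃ γ, Ext β γ := by
  obtain ⟨P, e, he⟩ := exists_iso (n := n) (K := K)
  obtain ⟨g, τ, h⟩ := su_surj (n := n) (quotCenterAut _ (MulAut.congr e β))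
  have h1 := quot_inj su_perf h
  refine ⟨slDiag _ K P * (slDiag _ K g.1 * slField _ K τ) * slDiag _ K P⁻¹, fun a => ?_, ?_⟩
  · have h2 := congrArg (fun φ => (φ (e a)).1) h1
    simp only [MulAut.congr_apply, MulEquiv.trans_apply, MulEquiv.symm_apply_apply] at h2
    rw [he] at h2
    rw [MulAut.mul_apply, MulAut.mul_apply, ← he]
    change _ = slDiag _ K P ((H59.suDiag (n + 1) K (qK K) g * H59.suField (n + 1) K (qK K) τ) (e a)).1
    rw [← h2, map_inv, MulAut.apply_inv_self]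
  · simp [SA.out_slDiag (two_le K), SA.out_slField (two_le K), -map_inv]

theorem eq_one_of_fix [FV n K] [FW n K] {γ : Au n K} (h : ∀ g : XU n K, γ g.1 = g.1)
    (h2 : (SA.out n K γ).2 = 1) : γ = 1 := by
  obtain ⟨g, hg⟩ := SA.exists_dfg (two_le K) γ
  obtain ⟨-, hg⟩ := hg.resolve_right fun e => e.1 h2
  generalize (SA.out n K γ).1 = σ at hg
  subst hg
  have h5 := hp.five
  have key : ∀ (s : XU n K) v, H59.semiMap g σ (ac s v) = ac s (H59.semiMap g σ v) := fun s v => by
    have h1 : g.1 * (mt s).map σ * (g⁻¹).1 = mt s := congrArg Subtype.val (h s)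
    rw [H59.semiMap_apply, H59.semiMap_apply, ac, ac, map_mulVec_ringAut, mulVec_mulVec,
      mulVec_mulVec]
    nth_rewrite 2 [← h1]
    rw [mul_assoc _ _ g.1, Units.inv_mul, mul_one]
  have i0 : Iso (ev 0 : Vn n K) := ev_iso (by rw [Ne, Fin.ext_iff]; simp; omega)
  have il : Iso (ev (la n) : Vn n K) := ev_iso (by rw [Ne, Fin.ext_iff]; simp; omega)
  obtain ⟨c, hc⟩ : ∃ c : K, H59.semiMap g σ (ev 0) = c • ev 0 := by
    have h1 := key (TT (ev 0)) (ev (la n))
    rw [ac_Tc i0 (star_one K), ac_Tc i0 (star_one K), map_add, hf_ev, if_pos (by simp)] at h1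
    exact ⟨_, by simpa using h1⟩
  have h3 : ∀ u, Iso u → H59.semiMap g σ u = c • u := fun u hu => by
    by_cases u0 : u = 0
    · simp [u0]
    obtain ⟨s, rfl⟩ := FW.w1 u u0 hu
    rw [key, hc, ac_smul]
  have inj : ∀ v, H59.semiMap g σ v = 0 → v = 0 := fun v hv => by
    have h1 := congrArg (fun w => (g⁻¹).1 *ᵥ w) hv
    simp only [H59.semiMap_apply, mulVec_mulVec, Units.inv_mul, one_mulVec, mulVec_zero] at h1
    ext i
    simpa using congrFun h1 i
  have c0 : c ≠ 0 := fun e => ev_ne (n := n) (K := K) 0 (inj _ (by rw [hc, e, zero_smul]))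
  have hσ : σ = 1 := RingEquiv.ext fun a => by
    have h1 := h3 _ (i0.smul a)
    rw [H59.semiMap_smul, hc] at h1
    have h4 := congrFun h1 0
    simp only [Pi.smul_apply, ev_apply, if_true, smul_eq_mul, mul_one] at h4
    exact mul_right_cancel₀ c0 (h4.trans (mul_comm _ _))
  subst hσ
  have h4 : ∀ v, g.1 *ᵥ v = c • v := fun v => by
    have h1 := FW.span (ev 0) i0 (fun x => H59.semiMap g 1 x = c • x) (fun x hx => h3 x hx.r)
      (fun x y _ _ hx hy => by rw [map_add, hx, hy, smul_add]) (v + v (la n) • ev (la n)) (by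
        rw [hf_add_left, hf_smul_left, hf_ev_right, hf_ev, if_pos (by simp)]
        simp [CharTwo.add_self_eq_zero])
    rw [map_add, h3 _ (il.smul _), smul_add, add_left_inj] at h1
    exact h1
  have h6 : g.1 = c • (1 : Matrix _ _ K) := Matrix.ext_of_mulVec_single fun i => by
    rw [h4, smul_mulVec, one_mulVec]
  rw [map_one, mul_one]
  refine MulEquiv.ext fun s => Subtype.ext ?_
  have h7 : g.1 * s.1 = s.1 * g.1 := by rw [h6]; simp
  rw [slDiag_coe, h7, mul_assoc, Units.mul_inv, mul_one]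
  rfl

theorem tau_out [FV n K] : (SA.out n K (tau n K)).2 ≠ 1 := by
  rw [FV.out_tau]; dsimp only; decide

theorem cX [FV n K] [FW n K] (γ : Au n K) (h : ∀ g : XU n K, γ g.1 = g.1) : γ = 1 ∨ γ = tau n K := by
  rcases SA.z2_cases (SA.out n K γ).2 with e | e
  · exact .inl (eq_one_of_fix h e)
  · refine .inr ?_
    have := eq_one_of_fix (γ := γ * tau n K) (fun g => by rw [MulAut.mul_apply, mem_fx.1 g.2, h])
      (by rw [map_mul, Prod.snd_mul, e, FV.out_tau]; dsimp only; decide)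
    rw [← mul_one γ, ← tau_mul_self, ← mul_assoc, this, one_mul]

omit hp [Finite K] in
theorem res (γ : Au n K) (h : γ * tau n K = tau n K * γ) :
    ∃ β : MulAut (XU n K), ∀ g, (β g).1 = γ g.1 := by
  have k : ∀ δ : Au n K, δ * tau n K = tau n K * δ → ∀ g : XU n K, δ g.1 ∈ fx (tau n K) :=
    fun δ hδ g => by rw [mem_fx, ← MulAut.mul_apply, ← hδ, MulAut.mul_apply, mem_fx.1 g.2]
  exact ⟨{ toFun := fun g => ⟨γ g.1, k γ h g⟩
           invFun := fun g => ⟨γ⁻¹ g.1, k γ⁻¹ (Commute.inv_left h) g⟩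
           left_inv := fun g => Subtype.ext (MulAut.inv_apply_self _ γ _)
           right_inv := fun g => Subtype.ext (MulAut.apply_inv_self _ γ _)
           map_mul' := fun a b => Subtype.ext (map_mul γ _ _) }, fun _ => rfl⟩

theorem comm [FV n K] [FW n K] (β : MulAut (XU n K)) (γ : Au n K) (h : ∀ g, (β g).1 = γ g.1) :
    γ * tau n K = tau n K * γ := by
  rcases cX (γ * tau n K * γ⁻¹) fun g => by
    obtain ⟨a, rfl⟩ := β.surjective g
    rw [h, MulAut.mul_apply, MulAut.inv_apply_self, MulAut.mul_apply, mem_fx.1 a.2] with e | e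
  · refine (tau_out (n := n) (K := K) ?_).elim
    rw [← SA.out_conj_eq γ, e, map_one, Prod.snd_one]
  · exact mul_inv_eq_iff_eq_mul.1 e

omit hp in
theorem ext_mul {β β' : MulAut (XU n K)} {γ γ' : Au n K} (h : Ext β γ) (h' : Ext β' γ') :
    Ext (β * β') (γ * γ') :=
  ⟨fun g => by rw [MulAut.mul_apply, h.1, h'.1, MulAut.mul_apply], by
    rw [map_mul, Prod.snd_mul, h.2, h'.2, mul_one]⟩

omit hp in
theorem ext_one : Ext (1 : MulAut (XU n K)) 1 := ⟨fun _ => rfl, by rw [map_one, Prod.snd_one]⟩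

omit hp in
theorem ext_pow {β : MulAut (XU n K)} {γ : Au n K} (h : Ext β γ) (k : ℕ) : Ext (β ^ k) (γ ^ k) := by
  induction k with
  | zero => simpa using ext_one
  | succ k ih => rw [pow_succ, pow_succ]; exact ext_mul ih h

theorem ext_uniq [FV n K] [FW n K] {β : MulAut (XU n K)} {γ γ' : Au n K} (h : Ext β γ)
    (h' : Ext β γ') : γ = γ' :=
  inv_mul_eq_one.1 (eq_one_of_fix (fun g => by
    rw [MulAut.mul_apply, ← h'.1, h.1, MulAut.inv_apply_self]) (by
    rw [map_mul, map_inv, Prod.snd_mul, Prod.snd_inv, h.2, h'.2, inv_one, mul_one]))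

theorem out_eq [FQ K] [FV n K] [FW n K] (β : MulAut (XU n K)) (γ : Au n K) (h : Ext β γ) :
    GA.out (XU n K) β = (SA.out n K γ).1 := by
  have ho : ∃ o : MulAut (XU n K) →* RingAut K, ∀ β γ, Ext β γ → o β = (SA.out n K γ).1 := by
    choose f hf using ext (n := n) (K := K)
    exact ⟨MonoidHom.mk' (fun β => (SA.out n K (f β)).1) fun a b => by
      rw [ext_uniq (hf (a * b)) (ext_mul (hf a) (hf b)), map_mul, Prod.fst_mul],
      fun β γ h => by rw [← ext_uniq (hf β) h]; rfl⟩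
  change oX n K β = _
  rw [oX, dif_pos ho]
  exact ho.choose_spec β γ h

omit hp in
theorem inX (s : SLn n K) (h2 : Is2 s) (h : MulAut.conj s * tau n K = tau n K * MulAut.conj s) :
    s ∈ fx (tau n K) :=
  SA.conj_inj (h2.map (tau n K).toMonoidHom) h2 (MulEquiv.ext fun a => by
    obtain ⟨a, rfl⟩ := (tau n K).surjective a
    have := congrArg (fun f : Au n K => f a) h
    simp only [MulAut.mul_apply, MulAut.conj_apply, map_mul, map_inv] at this
    exact this.symm)

theorem jobFX : JobFX := fun n K _ _ _ _ _ _ _ _ =>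
  ⟨(exists_iso (n := n) (K := K)).elim fun _ h => ⟨h.choose⟩, cX, ext, res, comm, out_eq, inX⟩

theorem su_mult [FQ K] : H21.multCard (Cfsg.SU (n + 1) K (qK K)) = 1 := by
  have := Fintype.ofFinite K
  have := hp.five
  have := hp.four
  obtain ⟨f, f1, hf⟩ := FQ.pow2 (K := K)
  refine H81.su_mult hF (fun hq => ?_) (by omega) (by omega) (by omega) (by omega)
  have h2 : qK K = 2 := by
    obtain rfl : f = 1 := by
      by_contra h
      have := Nat.pow_le_pow_right two_pos (show 2 ≤ f by omega)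
      omega
    exact hf
  have hK := hF (K := K)
  rw [h2] at hK ⊢
  have : Finite H81.U52M.G := Nat.finite_of_card_ne_zero (by rw [H81.U52M.card]; norm_num)
  exact (H21.multCard_congr (H55.suCongr (FiniteField.ringEquivOfCardEq
    (H81.QM.card4.trans hK.symm)) 5 2)).trans (Nat.dvd_one.1 H81.QM.mcU52)

theorem jobFO : JobFO := by
  intro n K _ _ _ _ hp _ _ _ hX
  have := Fintype.ofFinite K
  have := hp.five
  obtain ⟨e⟩ := hX.iso
  have hperf := perf_congr e su_perf
  have hs := H59.isSimpleGroup_PSU (hF (K := K)) (n := n + 1) (by omega) (by omega)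
  have hs' : IsSimpleGroup (XU n K ⧸ center (XU n K)) :=
    (QuotientGroup.congr _ _ e (map_center e)).isSimpleGroup
  refine ⟨hperf, (H21.multCard_congr e.symm).trans su_mult, ?_, nrm_of hperf,
    quot_surj e fun b => ?_, fun g => ?_, SA.ringAut_comm, fun β h1 h2 => ?_⟩
  · rw [Nat.card_congr (centerCongr e).toEquiv, H59.card_center_SU hF (by omega)]
    obtain ⟨f, f1, hf⟩ := FQ.pow2 (K := K)
    refine Odd.of_dvd_nat ?_ (Nat.gcd_dvd_right _ _)
    rw [hf]
    exact (Nat.even_pow.2 ⟨even_two, by omega⟩).add_one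
  · obtain ⟨g, τ, h⟩ := su_surj (n := n) b
    exact ⟨_, h.symm⟩
  · rw [out_eq _ (MulAut.conj g.1) ⟨fun _ => rfl, by rw [SA.out_conj (two_le K), Prod.snd_one]⟩,
      SA.out_conj (two_le K), Prod.fst_one]
  · obtain ⟨γ, hγ⟩ := ext β
    obtain ⟨k, hk⟩ := h2
    have h3 := ext_pow hγ (2 ^ k)
    rw [hk] at h3
    obtain ⟨s, s2, rfl⟩ := SA.inner_of_out (two_le K)
      (Prod.ext ((out_eq β γ hγ).symm.trans h1) hγ.2) ⟨k, ext_uniq h3 ext_one⟩
    exact ⟨⟨s, inX s s2 (comm β _ hγ.1)⟩, MulEquiv.ext fun a => Subtype.ext (hγ.1 a)⟩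

end H81.UAX
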