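import Cfsg.Agent.H49.D8Kit
import Cfsg.Agent.H96.QUTool
import Cfsg.Agent.S0107
import Cfsg.Agent.H7.GWBase
import Cfsg.Agent.H86.Misc

/-! D8: the frame of a Sylow `2`-subgroup of an almost simple group. -/

set_option autoImplicit false
set_option linter.unusedSectionVars false

namespace H81.D8

open Subgroup Cfsg H98 H1.Gold H85.FZ H49.D8

universe u

variable {G : Type u} [Group G] {v s z : G}

section DH

variable (h : DH v s z)
include h

theorem vv' (x : G) : v * (v * x) = x := by rw [← mul_assoc, h.vv, one_mul]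
theorem ss' (x : G) : s * (s * x) = x := by rw [← mul_assoc, h.ss, one_mul]
theorem zz' (x : G) : z * (z * x) = x := by rw [← mul_assoc, h.zz, one_mul]
theorem vz' (x : G) : v * (z * x) = z * (v * x) := by rw [← mul_assoc, h.vz, mul_assoc]
theorem sz' (x : G) : s * (z * x) = z * (s * x) := by rw [← mul_assoc, h.sz, mul_assoc]
theorem sv : s * v = z * (v * s) := by rw [h.vs, h.vz, sz' h, zz' h]
theorem sv' (x : G) : s * (v * x) = z * (v * (s * x)) := by
  rw [← mul_assoc, sv h, mul_assoc, mul_assoc]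
theorem vi : v⁻¹ = v := inv_eq_of_mul_eq_one_left h.vv
theorem si : s⁻¹ = s := inv_eq_of_mul_eq_one_left h.ss
theorem zi : z⁻¹ = z := inv_eq_of_mul_eq_one_left h.zz

end DH

/-- Normal forms in `D₈`. -/
syntax "dh " term (Lean.Parser.Tactic.location)? : tactic

macro_rules
  | `(tactic| dh $h $[$l]?) => `(tactic| simp only [mul_assoc, mul_inv_rev, inv_one, mul_one, one_mul,
      vv' ($h), ss' ($h), zz' ($h), vz' ($h), sz' ($h), sv ($h), sv' ($h), vi ($h), si ($h), zi ($h),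
      DH.vv ($h), DH.ss ($h), DH.zz ($h), DH.vz ($h), DH.sz ($h), true_or, or_true] $[$l]?)

section DH

variable (h : DH v s z)
include h

theorem symm : DH s v z := ⟨h.ss, h.vv, h.zz, h.z1, by dh h, h.sz, h.vz⟩

theorem nc : v * s ≠ s * v := fun e => h.z1 (by
  rw [sv h, eq_comm, mul_eq_right] at e; exact e)

variable [Finite G]

theorem mem_V {x : G} : x ∈ cl [v, z] ↔ x = 1 ∨ x = z ∨ x = v ∨ x = z * v := by
  rw [h.memV, h.vz]

theorem vD : v ∈ cl [v, s] := m1 v s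
theorem sD : s ∈ cl [v, s] := m2 v s
theorem zD : z ∈ cl [v, s] := h.z_mem
theorem vV : v ∈ cl [v, z] := m1 v z
theorem zV : z ∈ cl [v, z] := m2 v z
theorem VD : cl [v, z] ≤ cl [v, s] := h.V_le
theorem D_symm : cl [s, v] = cl [v, s] := cl_sw s v

theorem comm_v {x : G} (hx : x ∈ cl [v, s]) (e : x * v = v * x) : x ∈ cl [v, z] := h.cenv hx e.symm

theorem V_comm {x y : G} (hx : x ∈ cl [v, z]) (hy : y ∈ cl [v, z]) : x * y = y * x := h.comV hx hy

theorem V_sq {x : G} (hx : x ∈ cl [v, z]) : x * x = 1 := h.sqV hx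

theorem V_s {x : G} (hx : x ∈ cl [v, z]) (e : x * s = s * x) : x = 1 ∨ x = z :=
  h.VV hx (h.swap.cenv (cl_sw v s ▸ h.V_le hx) e.symm)

theorem z_comm {x : G} (hx : x ∈ cl [v, s]) : x * z = z * x := h.cz hx

theorem invol {x : G} (hx : x ∈ cl [v, s]) (e : x * x = 1) :
    x = 1 ∨ x = z ∨ x = v ∨ x = z * v ∨ x = s ∨ x = z * s := by
  have := (h.inv hx e).imp (mem_V h).1 (mem_V (symm h)).1
  tauto

theorem D_nor : cl [v, s] ≤ nor (cl [v, z]) := h.le_norV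

theorem v1 : v ≠ 1 := fun e => nc h (by simp [e])

theorem vnz : v ≠ z := fun e => nc h (by rw [e, h.sz])

omit [Finite G] in
theorem map {H : Type u} [Group H] (f : G →* H) (hf : Function.Injective f) :
    DH (f v) (f s) (f z) ∧ (cl [v, s]).map f = cl [f v, f s] := by
  refine ⟨⟨?_, ?_, ?_, by simpa [map_eq_one_iff f hf] using h.z1, ?_, ?_, ?_⟩, ?_⟩
  any_goals simp only [← map_mul, h.vv, h.ss, h.zz, map_one, h.vz, h.sz]
  · rw [← h.vz, h.vs]
  · rw [cl, cl, MonoidHom.map_closure]; congr 1; ext; simp [eq_comm]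

end DH

theorem mem_of_two_pows [Finite G] {K : Subgroup G} {y : G} (h1 : y * y ∈ K)
    (h2 : ∀ x ∈ zpowers y, IsPGroup 2 (zpowers x) → x ∈ K) : y ∈ K := by
  obtain ⟨e, r, ⟨k, rfl⟩, q⟩ := Nat.exists_eq_two_pow_mul_odd (orderOf_pos y).ne'
  have := h2 (y ^ (2 * k + 1)) (pow_mem (mem_zpowers y) _) (isPGroup_zpowers (k := e) (by
    rw [← pow_mul, mul_comm, ← q, pow_orderOf_eq_one]))
  rwa [pow_succ, pow_mul, K.mul_mem_cancel_left (pow_mem (sq y ▸ h1) k)] at this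

variable [Finite G] {X : Subgroup G}

theorem tri (h : DH v s z) (hD : IsSyl 2 (cl [v, s]) X) {g : G} (hg : g ∈ X)
    (e : g * v * g⁻¹ = z) : ∃ σ ∈ X, Tri σ z v := by
  have h1 : cl [v, s] ≤ X ⊓ cen1 z := fun x hx =>
    ⟨hD.le hx, mem_centralizer_singleton_iff.2 (z_comm h hx)⟩
  obtain ⟨y, hy, r⟩ := (hD.of_le h1 inf_le_left).exists_cj_le (Q := cj g (cl [v, z]))
    (isPGroup_cj g (hD.isPGroup.to_le (VD h))) (by
      rintro _ ⟨x, hx, rfl⟩
      refine ⟨X.mul_mem (X.mul_mem hg (hD.le (VD h hx))) (X.inv_mem hg),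
        mem_centralizer_singleton_iff.2 ?_⟩
      simp only [MulEquiv.coe_toMonoidHom, MulAut.conj_apply]
      rw [← e, conj_mul, conj_mul, V_comm h hx (vV h)])
  rw [cj_cj] at r
  have e1 : y * g * v * (y * g)⁻¹ = z := by
    rw [mul_inv_rev, show y * g * v * (g⁻¹ * y⁻¹) = y * (g * v * g⁻¹) * y⁻¹ by group, e,
      mem_centralizer_singleton_iff.1 hy.2, mul_inv_cancel_right]
  have hk := mul_mem hy.1 hg
  generalize y * g = k at r e1 hk
  have e2 : ∀ u, k * z * k⁻¹ = u → cj k (cl [v, z]) = cl [u, z] := fun u hu => by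
    rw [cj, cl, cl, MonoidHom.map_closure]; congr 1; ext; simp [eq_comm, e1, hu, or_comm]
  rcases invol h (r (conj_mem_cj (zV h))) (by rw [conj_mul, h.zz]; simp) with
    q | q | q | q | q | q
  · exact (h.z1 (by simpa using q)).elim
  · exact (vnz h (by simpa using e1.trans q.symm)).elim
  · refine ⟨k * s, mul_mem hk (hD.le (sD h)), ?_, ?_⟩
    · rw [← q]; dh h
    · rw [show k * s * v * (k * s)⁻¹ = k * z * k⁻¹ * (k * v * k⁻¹) by rw [conj_mul]; dh h, q, e1]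
  · refine ⟨k * k, mul_mem hk hk, ?_, ?_⟩
    · rw [show k * k * z * (k * k)⁻¹ = k * (k * z * k⁻¹) * k⁻¹ by group, q, ← conj_mul, q, e1]; dh h
    · rw [show k * k * v * (k * k)⁻¹ = k * (k * v * k⁻¹) * k⁻¹ by group, e1, q, h.vz]
  · exact (h.not_conj hD hk (e2 _ q).le).elim
  · exact (h.not_conj hD hk ((e2 _ q).trans_le (cl2_le (mul_mem (m2 _ _) (m1 _ _)) (m2 _ _)))).elim

theorem tri_move (h : DH v s z) {σ : G} (hσ : Tri σ z v) {K : Subgroup G} (h1 : σ ∈ K)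
    {d : G} (hd : d = z ∨ d = v ∨ d = z * v) : ∃ g ∈ K, g * d * g⁻¹ = z := by
  have e : σ * (z * v) * σ⁻¹ = z := by rw [← conj_mul, hσ.1, hσ.2, vv' h]
  rcases hd with rfl | rfl | rfl
  · exact ⟨1, one_mem _, by simp⟩
  · exact ⟨σ * σ, mul_mem h1 h1, by
      rw [show σ * σ * d * (σ * σ)⁻¹ = σ * (σ * d * σ⁻¹) * σ⁻¹ by group, hσ.2, h.vz, e]⟩
  · exact ⟨σ, h1, e⟩

variable [hn : X.Normal]

/-- The extension of a subgroup of `X` by a normalising element. -/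
def ext2 (A : Subgroup G) (w : G) (h1 : w ∈ nor A) (h2 : w * w ∈ A) : Subgroup G where
  carrier := {g | g ∈ A ∨ g * w⁻¹ ∈ A}
  one_mem' := .inl (one_mem _)
  mul_mem' := by
    have c := fun x hx => (mem_normalizer_iff.1 h1 x).1 hx
    rintro a b (ha | ha) (hb | hb)
    · exact .inl (mul_mem ha hb)
    · exact .inr (by simpa [mul_assoc] using mul_mem ha hb)
    · exact .inr (by simpa [mul_assoc] using mul_mem ha (c b hb))
    · exact .inl (by simpa [mul_assoc] using mul_mem (mul_mem ha (c _ hb)) h2)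
  inv_mem' := by
    rintro a (ha | ha)
    · exact .inl (inv_mem ha)
    · exact .inr (by simpa [mul_assoc] using
        (mul_mem ((mem_normalizer_iff.1 (inv_mem h1) _).1 (inv_mem ha)) (inv_mem h2)))

omit hn in
theorem syl_ext {A B : Subgroup G} {w : G} (h : IsSyl 2 A B) (h1 : w ∈ nor A) (h2 : w * w ∈ A)
    (h3 : w ∈ nor B) : IsSyl 2 (ext2 A w h1 h2) (ext2 B w h3 (h.le h2)) := by
  refine ⟨fun g hg => hg.imp (fun a => h.le a) (fun a => h.le a), isPGroup_of_forall_pow_mem h.isPGroup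
    fun x hx => ⟨1, ?_⟩, fun Q hQ r1 r2 => le_antisymm (fun g hg => ?_) r1⟩
  · rw [pow_one, sq]
    rcases hx with hx | hx
    · exact mul_mem hx hx
    · simpa [mul_assoc] using mul_mem (mul_mem hx ((mem_normalizer_iff.1 h1 _).1 hx)) h2
  · have e := h.eq_of_le (hQ.to_le (inf_le_left : Q ⊓ B ≤ Q))
      (le_inf (fun x hx => r1 (.inl hx)) h.le) inf_le_right
    exact (r2 hg).imp (fun r => e.le ⟨hg, r⟩) fun r =>
      e.le ⟨Q.mul_mem hg (Q.inv_mem (r1 (Or.inr (by simp)))), r⟩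

theorem excl [IsSimpleGroup X] (hc : cen X = ⊥) (h : DH v s z) (hD : IsSyl 2 (cl [v, s]) X) {w : G}
    (ww : w * w = 1) (wX : w ∉ X) (wD : w ∈ cen (cl [v, s])) {σ ρ : G} (h1 : σ ∈ X)
    (h2 : Tri σ z v) (h3 : σ * w = w * σ) (h4 : ρ ∈ X) (h5 : Tri ρ z s) (h6 : ρ * w = w * ρ) :
    False := by
  have n1 : w ∈ nor (cl [v, s]) := centralizer_le_normalizer _ wD
  have n2 : w ∈ nor X := by simp [normalizer_eq_top]
  have wi := inv_eq_of_mul_eq_one_left ww
  have hS := syl_ext hD n1 (ww ▸ one_mem _) n2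
  have cS : ∀ u ∈ cen (cl [v, s]), u * w = w * u → ext2 _ w n1 (ww ▸ one_mem _) ≤ cen1 u := by
    rintro u hu r g (hg | hg) <;> refine mem_centralizer_singleton_iff.2 ?_
    · exact hu g hg
    · rw [← inv_mul_cancel_right g w, mul_assoc _ w, ← r, ← mul_assoc, hu _ hg, mul_assoc]
  have zc : z ∈ cen (cl [v, s]) := fun x hx => z_comm h hx
  have wz : w * z = z * w := (wD z (zD h)).symm
  refine wX (hc.le (H96.H97.QU.zstar_cen (K := X) (fun r => nc h (congrArg Subtype.val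
    (r.is_comm.comm (⟨v, hD.le (vD h)⟩ : X) ⟨s, hD.le (sD h)⟩))) (fun g hg => Or.inl hg)
    (by simp [normalizer_eq_top]) hS (Or.inr (by simp)) ww fun g hg r => ?_) ▸ one_mem X)
  have r := r.resolve_left fun r => wX (by simpa [mul_assoc] using hn.conj_mem _ (hD.le r) g⁻¹)
  generalize hd : g * w * g⁻¹ * w⁻¹ = d at r
  have e : g * w * g⁻¹ = d * w := by rw [← hd]; simp
  have dd : d * d = 1 := by
    have : d * w * (d * w) = 1 := by rw [← e, conj_mul, ww]; simp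
    rwa [mul_assoc, ← mul_assoc w, ← wD d r, mul_assoc, ww, mul_one] at this
  by_contra hne
  obtain ⟨k, hk, q⟩ : ∃ k ∈ X ⊓ cen1 w, k * d * k⁻¹ = z := by
    rcases invol h r dd with q | q | q | q | q | q
    · exact (hne (by rw [e, q, one_mul])).elim
    iterate 3 exact tri_move h h2 (mem_inf.2 ⟨h1, mc1.2 h3⟩) (by simp [q])
    all_goals exact tri_move (symm h) h5 (mem_inf.2 ⟨h4, mc1.2 h6⟩) (by simp [q])
  have e1 : k * g * w * (k * g)⁻¹ = z * w := by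
    rw [show k * g * w * (k * g)⁻¹ = k * (g * w * g⁻¹) * k⁻¹ by group, e, ← conj_mul, q,
      mem_centralizer_singleton_iff.1 hk.2, mul_inv_cancel_right]
  obtain ⟨n, hn1, hn2, hn3⟩ := H96.H97.QU.burn hS (mul_mem (.inl hk.1) hg) (cS w wD rfl)
    (e1 ▸ cS _ (mul_mem zc wD) (by rw [mul_assoc, ← mul_assoc w, wz, mul_assoc]))
  rw [e1] at hn3
  have c1 : ∀ x ∈ cl [v, s], ∀ m ∈ nor (ext2 _ w n1 (ww ▸ one_mem _)), m * x * m⁻¹ ∈ cl [v, s] :=
    fun x hx m hm => ((mem_normalizer_iff.1 hm x).1 (.inl hx)).resolve_right fun r => wX (by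
      simpa [mul_assoc] using X.mul_mem (X.inv_mem (hD.le r)) (hn.conj_mem _ (hD.le hx) m))
  have e2 : n * z * n⁻¹ = z := by
    have q1 : ∀ x ∈ cl [v, s], n * z * n⁻¹ * x = x * (n * z * n⁻¹) := fun x hx => by
      have := z_comm h (c1 x hx _ (inv_mem hn2))
      rw [← mul_right_inj n⁻¹, ← mul_left_inj n]
      simpa [mul_assoc] using this.symm
    exact (V_s h (comm_v h (c1 z (zD h) n hn2) (q1 v (vD h))) (q1 s (sD h))).resolve_left
      fun r => h.z1 (by simpa using r)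
  have := mem_of_two_pows (K := cen1 w) (y := n) (mem_centralizer_singleton_iff.2 (by
    rw [← mul_inv_eq_iff_eq_mul, show n * n * w * (n * n)⁻¹ = n * (n * w * n⁻¹) * n⁻¹ by group, hn3,
      ← conj_mul, e2, hn3, zz' h])) fun x hx r => cS w wD rfl (hS.le_of_le_normalizer' r
        ((zpowers_le.2 hx).trans (zpowers_le.2 hn1)) ((zpowers_le.2 hx).trans (zpowers_le.2 hn2))
        (mem_zpowers x))
  rw [mem_centralizer_singleton_iff.1 this, mul_inv_cancel_right, eq_comm, mul_eq_right] at hn3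
  exact h.z1 hn3

theorem half (h : DH v s z) (hD : IsSyl 2 (cl [v, s]) X) {c : G} (cX : c ∉ X)
    (cD : c ∈ cen (cl [v, s])) (cc : c * c = 1 ∨ c * c = z) {σ : G} (h1 : σ ∈ X) (h2 : Tri σ z v) :
    c * c = 1 ∧ ∃ w, (w = c ∨ w = c * z) ∧ ∃ σ ∈ X, Tri σ z v ∧ σ * w = w * σ := by
  have cV : ∀ x ∈ cl [v, z], x * c = c * x := fun x hx => cD x (VD h hx)
  have hV : IsSyl 2 (cl [v, z]) (X ⊓ cen (cl [v, z])) := by
    have := hD.inf_of_le_normalizer (N := X ⊓ cen (cl [v, z])) inf_le_left fun g hg =>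
      inf_normalizer_le_normalizer_inf ⟨by simp [normalizer_eq_top],
        normalizer_le_normalizer_centralizer _ (D_nor h hg)⟩
    rwa [show cl [v, s] ⊓ (X ⊓ cen (cl [v, z])) = cl [v, z] from le_antisymm
      (fun x hx => comm_v h hx.1 (hx.2.2 v (vV h)).symm) fun x hx =>
        ⟨VD h hx, hD.le (VD h hx), fun y hy => V_comm h hy hx⟩] at this
  have c2 : c * c ∈ cl [v, z] := cc.elim (fun r => r ▸ one_mem _) fun r => by rw [r]; exact zV h
  have cc' : c ∈ cen (cl [v, z]) := cV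
  have hE := syl_ext hV (centralizer_le_normalizer _ cc') c2 (inf_normalizer_le_normalizer_inf
    ⟨by simp [normalizer_eq_top], le_normalizer cc'⟩)
  have tV : ∀ τ, Tri τ z v → τ ∈ nor (cl [v, z]) := fun τ hτ =>
    nor_cl (by simp [hτ.1, hτ.2, mul_mem, m1, m2])
  have cx : ∀ y ∈ X, y * c * y⁻¹ * c⁻¹ ∈ X := fun y hy => by
    simpa [mul_assoc] using mul_mem hy (hn.conj_mem _ (inv_mem hy) c)
  have c4 : (σ * c * σ⁻¹) ^ 2 ^ 2 = 1 := by
    rw [conj_pow, show c ^ 2 ^ 2 = c * c * (c * c) by simp [pow_succ, mul_assoc], V_sq h c2]; simp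
  have cσ : σ * c * σ⁻¹ ∈ cen (cl [v, z]) :=
    (mem_normalizer_iff.1 (normalizer_le_normalizer_centralizer _ (tV σ h2)) c).1 cc'
  obtain ⟨y, hy, r⟩ := hE.exists_cj_le (isPGroup_zpowers c4) (zpowers_le.2 (Or.inr
    (mem_inf.2 ⟨cx σ h1, mul_mem cσ (inv_mem cc')⟩)))
  have r := r (conj_mem_cj (mem_zpowers _))
  obtain ⟨τ, t1, t2, t3⟩ : ∃ τ ∈ X, Tri τ z v ∧ τ * c * τ⁻¹ * c⁻¹ ∈ cl [v, z] := by
    have k : ∀ y ∈ X ⊓ cen (cl [v, z]), y * (σ * c * σ⁻¹) * y⁻¹ ∈ ext2 _ c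
        (centralizer_le_normalizer _ cc') c2 →
        ∃ τ ∈ X, Tri τ z v ∧ τ * c * τ⁻¹ * c⁻¹ ∈ cl [v, z] := fun y hy r => by
      refine ⟨y * σ, mul_mem hy.1 h1, ⟨?_, ?_⟩, ?_⟩
      · rw [show y * σ * z * (y * σ)⁻¹ = y * (σ * z * σ⁻¹) * y⁻¹ by group, h2.1, ← hy.2 v (vV h),
          mul_inv_cancel_right]
      · rw [show y * σ * v * (y * σ)⁻¹ = y * (σ * v * σ⁻¹) * y⁻¹ by group, h2.2,
          ← hy.2 _ (mul_mem (vV h) (zV h)), mul_inv_cancel_right]
      · simpa [mul_assoc] using r.resolve_left fun q => cX (by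
          simpa [mul_assoc] using hn.conj_mem _ (hD.le (VD h q)) (y * σ)⁻¹)
    rcases hy with hy | hy
    · exact k y hy r
    · refine k (c⁻¹ * y) ⟨by simpa [mul_assoc] using hn.conj_mem _ hy.1 c⁻¹,
        by simpa [mul_assoc] using mul_mem (mul_mem (inv_mem cc') hy.2) cc'⟩ ?_
      have hc : c ∈ ext2 _ c (centralizer_le_normalizer _ cc') c2 := .inr (by simp)
      simpa [mul_assoc] using mul_mem (mul_mem (inv_mem hc) r) hc
  generalize hu : τ * c * τ⁻¹ * c⁻¹ = u at t3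
  have e : τ * c * τ⁻¹ = u * c := by rw [← hu]; simp
  have c1 : c * c = 1 := cc.resolve_right fun r => vnz h (by
    rw [← t2.1, ← r, ← conj_mul, e, mul_assoc, ← mul_assoc c, ← cV u t3, mul_assoc, ← mul_assoc,
      V_sq h t3, one_mul])
  have tzv : τ * (z * v) * τ⁻¹ = z := by rw [← conj_mul, t2.1, t2.2, vv' h]
  have uniq : ∀ a ∈ cl [v, z], τ * a * τ⁻¹ = a → a = 1 := fun a ha q => by
    rcases (mem_V h).1 ha with rfl | rfl | rfl | rfl
    · rfl
    · exact (vnz h (t2.1.symm.trans q)).elim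
    · exact (h.z1 (by simpa using t2.2.symm.trans q)).elim
    · exact (v1 h (by simpa using q.symm.trans tzv)).elim
  obtain ⟨a, ha, q⟩ : ∃ a ∈ cl [v, z], τ * a * τ⁻¹ * u = a := by
    rcases (mem_V h).1 t3 with rfl | rfl | rfl | rfl
    · exact ⟨1, one_mem _, by simp⟩
    · exact ⟨v, vV h, by rw [t2.2]; dh h⟩
    · exact ⟨z * u, mul_mem (zV h) t3, by rw [tzv]⟩
    · exact ⟨z, zV h, by rw [t2.1]; dh h⟩
  have e1 : τ * (a * c) * τ⁻¹ = a * c := by rw [← conj_mul, e, ← mul_assoc, q]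
  have cs : s * c * s⁻¹ = c := by rw [cD s (sD h), mul_inv_cancel_right]
  have nE : ∀ y ∈ nor (cl [v, z]), y * c * y⁻¹ * c⁻¹ ∈ cl [v, z] → ∀ y' ∈ nor (cl [v, z]),
      y' * c * y'⁻¹ * c⁻¹ ∈ cl [v, z] → y * y' * c * (y * y')⁻¹ * c⁻¹ ∈ cl [v, z] :=
    fun y p1 p2 y' _ p4 => by
      simpa [mul_assoc] using mul_mem ((mem_normalizer_iff.1 p1 _).1 p4) p2
  have sn := D_nor h (sD h)
  have tn := tV τ t2
  have s0 : s * c * s⁻¹ * c⁻¹ ∈ cl [v, z] := by simp [cs]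
  have y1 := nE _ (mul_mem (mul_mem tn sn) tn) (nE _ (mul_mem tn sn)
    (nE _ tn (hu ▸ t3) _ sn s0) _ tn (hu ▸ t3)) _ sn s0
  have y2 : τ * s * τ * s ∈ X ⊓ cen (cl [v, z]) := by
    refine mem_inf.2 ⟨mul_mem (mul_mem (mul_mem t1 (hD.le (sD h))) t1) (hD.le (sD h)),
      cen_cl.2 fun x hx => ?_⟩
    simp only [List.mem_cons, List.not_mem_nil, or_false] at hx
    rw [eq_comm, ← mul_inv_eq_iff_eq_mul, show τ * s * τ * s * x * (τ * s * τ * s)⁻¹ =
      τ * (s * (τ * (s * x * s⁻¹) * τ⁻¹) * s⁻¹) * τ⁻¹ by group]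
    rcases hx with rfl | rfl
    · rw [show s * x * s⁻¹ = z * x by dh h, tzv, show s * z * s⁻¹ = z by dh h, t2.1]
    · rw [show s * x * s⁻¹ = x by dh h, t2.1, show s * v * s⁻¹ = x * v by dh h, tzv]
  have y3 : τ * s * τ * s ∈ cen1 c := by
    generalize τ * s * τ * s = y at y1 y2
    refine mem_of_two_pows (mem_centralizer_singleton_iff.2 ?_) fun x hx r =>
      mem_centralizer_singleton_iff.2 (cV x (hV.le_of_le_normalizer' r
        ((zpowers_le.2 hx).trans (zpowers_le.2 y2)) ((zpowers_le.2 hx).trans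
          (zpowers_le.2 (centralizer_le_normalizer _ y2.2))) (mem_zpowers x)))
    generalize hb : y * c * y⁻¹ * c⁻¹ = b at y1
    have e : y * c * y⁻¹ = b * c := by rw [← hb]; simp
    rw [← mul_inv_eq_iff_eq_mul, show y * y * c * (y * y)⁻¹ = y * (y * c * y⁻¹) * y⁻¹ by group, e,
      ← conj_mul, e, ← y2.2 b y1, mul_inv_cancel_right, ← mul_assoc, V_sq h y1, one_mul]
  have sa : s * a * s⁻¹ ∈ cl [v, z] := (mem_normalizer_iff.1 sn a).1 ha
  have e2 : τ * (s * a * s⁻¹ * c) * τ⁻¹ = s * a * s⁻¹ * c := by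
    have p1 : τ * s * τ * s * (s * a * s⁻¹ * c) * (τ * s * τ * s)⁻¹ = s * a * s⁻¹ * c := by
      rw [← conj_mul, ← y2.2 _ sa, mem_centralizer_singleton_iff.1 y3, mul_inv_cancel_right,
        mul_inv_cancel_right]
    have p2 : s * a * s⁻¹ * c = s * (a * c) * s⁻¹ := by rw [← conj_mul, cs]
    rw [p2] at p1 ⊢
    rwa [show τ * s * τ * s * (s * (a * c) * s⁻¹) * (τ * s * τ * s)⁻¹ =
      τ * (s * (τ * (s * s * (a * c) * (s * s)⁻¹) * τ⁻¹) * s⁻¹) * τ⁻¹ by group, h.ss, one_mul,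
      inv_one, mul_one, e1] at p1
  have e3 := uniq (s * a * s⁻¹ * a⁻¹) (mul_mem sa (inv_mem ha)) (by
    rw [show s * a * s⁻¹ * a⁻¹ = s * a * s⁻¹ * c * (a * c)⁻¹ by group, ← conj_mul, ← conj_inv, e1, e2])
  refine ⟨c1, a * c, ?_, τ, t1, t2, eq_mul_of_mul_inv_eq e1 ▸ rfl⟩
  rcases V_s h ha (by rw [mul_inv_eq_one, mul_inv_eq_iff_eq_mul] at e3; exact e3.symm) with r | r
  · simp [r]
  · rw [r, cV z (zV h)]; simp

theorem jobF0 : JobF0.{u} := by
  intro M _ _ X hn hc K T hT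
  have := K.simple
  obtain ⟨v, s, z, h, hD⟩ : ∃ v s z, DH v s z ∧ T ⊓ X = cl [v, s] := by
    obtain ⟨v, s, z, h, r⟩ := K.dh
    obtain ⟨h1, h2⟩ := map h X.subtype X.subtype_injective
    have r1 := r.map_of_injective X.subtype_injective
    rw [h2, ← MonoidHom.range_eq_map, range_subtype] at r1
    obtain ⟨g, -, r2⟩ := r1.exists_cj_eq (hT.inf_of_le_normalizer le_top (by simp [normalizer_eq_top]))
    obtain ⟨h3, h4⟩ := map h1 (MulAut.conj g).toMonoidHom (MulAut.conj g).injective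
    exact ⟨_, _, _, h3, r2.symm.trans h4⟩
  have hS : IsSyl 2 (cl [v, s]) X :=
    hD ▸ hT.inf_of_le_normalizer le_top (by simp [normalizer_eq_top])
  have hS' : IsSyl 2 (cl [s, v]) X := (D_symm h).symm ▸ hS
  have one : ∀ x ∈ X, x * x = 1 → x ≠ 1 → ∃ g ∈ X, g * x * g⁻¹ = z := fun x hx r1 r2 => by
    obtain ⟨P, hP⟩ := hS.exists_sylow
    obtain ⟨e⟩ := h.iso
    obtain ⟨g, hg⟩ := Cfsg.Agent.S0107.result P 2 le_rfl
      ⟨(hP ▸ subgroupOfEquivOfLe hS.le).trans e⟩ (H86.pResidual_eq_top_of_simple (fun r => nc h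
        (congrArg Subtype.val (r.is_comm.comm (⟨v, hS.le (vD h)⟩ : X) ⟨s, hS.le (sD h)⟩))) 2)
      ⟨x, hx⟩ ⟨z, hS.le (zD h)⟩ (orderOf_eq_prime (Subtype.ext ((sq x).trans r1)) (by simpa))
      (orderOf_eq_prime (Subtype.ext ((sq z).trans h.zz)) (by simpa using h.z1))
    exact ⟨g, g.2, congrArg Subtype.val hg⟩
  obtain ⟨σ, σ1, σ2⟩ : ∃ σ ∈ X, Tri σ z v :=
    let ⟨_, hg, e⟩ := one v (hS.le (vD h)) h.vv (v1 h); tri h hS hg e
  obtain ⟨ρ, ρ1, ρ2⟩ : ∃ ρ ∈ X, Tri ρ z s :=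
    let ⟨_, hg, e⟩ := one s (hS.le (sD h)) h.ss (v1 (symm h)); tri (symm h) hS' hg e
  have zP : z ∈ T ⊓ cen (cl [v, s]) := ⟨(hD.ge (zD h)).1, fun x hx => z_comm h hx⟩
  have inn : ∀ c, In ⊥ z c ↔ c = 1 ∨ c = z := fun c => by
    rw [In, mem_bot, mem_bot, mul_eq_one_iff_eq_inv, zi h]
  have P4 : ∀ c ∈ T ⊓ cen (cl [v, s]), ¬ In ⊥ z c → ∀ c' ∈ T ⊓ cen (cl [v, s]),
      c' = 1 ∨ c' = z ∨ c' = c ∨ c' = c * z := fun c h1 h2 c' h3 => by
    have inj : Function.Injective (MulAut.conjNormal : M →* MulAut X) :=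
      (injective_iff_map_eq_one _).2 fun g hg => mem_bot.1 (hc.le fun x hx => by
        have := congrArg Subtype.val (MulEquiv.congr_fun hg ⟨x, hx⟩)
        exact (eq_mul_of_mul_inv_eq this).symm ▸ rfl)
    have r := K.aut _ hS.subgroupOf_top ((T ⊓ cen (cl [v, s])).map MulAut.conjNormal)
      ((hT.isPGroup.to_le inf_le_left).map _) (by
        rintro _ ⟨g, hg, rfl⟩ d hd
        exact Subtype.ext (mul_inv_eq_of_eq_mul (hg.2 d hd).symm))
    rw [card_map_of_injective inj] at r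
    rw [inn, not_or] at h2
    have := Set.eq_of_subset_of_ncard_le (s := {1, z, c, c * z})
      (t := (T ⊓ cen (cl [v, s]) : Subgroup M)) (by
        rintro x (rfl | rfl | rfl | rfl)
        exacts [one_mem _, zP, h1, mul_mem h1 zP]) (by
        rw [Set.ncard_insert_of_notMem (by
          simp [h.z1.symm, Ne.symm h2.1, eq_comm (a := (1 : M)), mul_eq_one_iff_eq_inv, zi h, h2.2]),
          Set.ncard_eq_three.2 ⟨z, c, c * z, Ne.symm h2.2, by simpa using h2.1,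
            by simpa using h.z1, rfl⟩]
        exact r)
    exact this.ge h3
  have cc : ∀ c ∈ T ⊓ cen (cl [v, s]), ¬ In ⊥ z c → c * c = 1 ∨ c * c = z := fun c h1 h2 => by
    rcases P4 c h1 h2 _ (mul_mem h1 h1) with r | r | r | r
    exacts [.inl r, .inr r, (h2 ((inn c).2 (.inl (by simpa using r)))).elim,
      (h2 ((inn c).2 (.inr (by simpa using r)))).elim]
  have cX : ∀ c ∈ T ⊓ cen (cl [v, s]), ¬ In ⊥ z c → c ∉ X := fun c h1 h2 r => h2 ((inn c).2
    (V_s h (comm_v h (hD.le ⟨h1.1, r⟩) (h1.2 v (vD h)).symm) (h1.2 s (sD h)).symm))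
  have ex : ∀ c ∈ T ⊓ cen (cl [v, s]), ¬ In ⊥ z c → c * c = 1 → ∀ w, w = c ∨ w = c * z →
      ∀ σ ∈ X, Tri σ z v → σ * w = w * σ → ∀ ρ ∈ X, Tri ρ z s → ρ * w = w * ρ → False := by
    rintro c h1 h2 h3 w (rfl | rfl) σ a1 a2 a3 ρ b1 b2 b3
    · exact excl hc h hS h3 (cX _ h1 h2) h1.2 a1 a2 a3 b1 b2 b3
    · exact excl hc h hS (by rw [mul_assoc, ← mul_assoc z, h1.2 z (zD h), mul_assoc, h.zz, mul_one, h3])
        (fun r => cX _ h1 h2 ((X.mul_mem_cancel_right (hS.le (zD h))).1 r)) (mul_mem h1 zP).2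
        a1 a2 a3 b1 b2 b3
  refine ⟨v, s, z, h, hT, hD, ⟨σ, σ1, σ2⟩, ⟨ρ, ρ1, ρ2⟩, fun c h1 c' h2 => ?_, fun c h1 h2 => ?_,
    fun x hx h0 c h1 h2 => ?_⟩
  · by_cases h3 : In ⊥ z c
    · exact .inl h3
    rw [inn c', inn (c * c')]
    rcases P4 c h1 h3 c' h2 with r | r | rfl | rfl
    exacts [.inr (.inl (.inl r)), .inr (.inl (.inr r)), .inr (.inr (cc _ h1 h3)),
      .inr (.inr ((cc _ h1 h3).symm.imp (fun r => by rw [← mul_assoc, r, h.zz])
        fun r => by rw [← mul_assoc, r, one_mul]))]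
  · obtain ⟨c1, w, hw, τ, t1, t2, t3⟩ := half h hS (cX c h1 h2) h1.2 (cc c h1 h2) σ1 σ2
    obtain ⟨-, w', hw', τ', t1', t2', t3'⟩ := half (symm h) hS' (cX c h1 h2)
      ((D_symm h).symm ▸ h1.2) (cc c h1 h2) ρ1 ρ2
    refine ⟨c1, w, hw, ⟨τ, t1, t2, t3⟩, τ', t1', t2', ?_⟩
    have : w ≠ w' := fun e => ex c h1 h2 c1 w hw τ t1 t2 t3 τ' t1' t2' (e ▸ t3')
    rcases hw with rfl | rfl <;> rcases hw' with rfl | rfl
    exacts [(this rfl).elim, t3', by simpa [mul_assoc, h.zz] using t3', (this rfl).elim]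
  · obtain ⟨c1, w, hw, τ, t1, t2, t3⟩ := half h hS (cX c h1 h2) h1.2 (cc c h1 h2) σ1 σ2
    have xD : x ∈ nor (cl [v, s]) := hD ▸ inf_normalizer_le_normalizer_inf
      ⟨le_normalizer hx, by simp [normalizer_eq_top]⟩
    have xP : ∀ y ∈ T ⊓ cen (cl [v, s]), x * y * x⁻¹ ∈ T ⊓ cen (cl [v, s]) := fun y hy =>
      ⟨T.mul_mem (T.mul_mem hx hy.1) (T.inv_mem hx),
        (mem_normalizer_iff.1 (normalizer_le_normalizer_centralizer _ xD) y).1 hy.2⟩
    have xz : x * z * x⁻¹ = z := (V_s h (comm_v h ((mem_normalizer_iff.1 xD z).1 (zD h))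
      ((xP z zP).2 v (vD h)).symm) ((xP z zP).2 s (sD h)).symm).resolve_left
        fun r => h.z1 (by simpa using r)
    rcases P4 c h1 h2 _ (xP c h1) with r | r | r | r
    · exact (h2 ((inn c).2 (.inl (by simpa using r)))).elim
    · exact (h2 ((inn c).2 (.inr (by simpa using r.trans xz.symm)))).elim
    swap
    · rw [r, mem_bot, ← h1.2 z (zD h), mul_inv_cancel_right, h.zz]
    exfalso
    have xw : x * w * x⁻¹ = w := by rcases hw with rfl | rfl <;> simp only [← conj_mul, r, xz]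
    have p1 : x * τ * x⁻¹ * w = w * (x * τ * x⁻¹) := by rw [← xw, conj_mul, conj_mul, t3]
    have p2 : Tri (x * τ * x⁻¹) z (x * v * x⁻¹) := ⟨by
      rw [← t2.1]; nth_rewrite 1 [← xz]; group, by
      nth_rewrite 1 [← xz]; rw [conj_mul (a := v), ← t2.2]; group⟩
    have p3 := hn.conj_mem τ t1 x
    generalize x * τ * x⁻¹ = β at p1 p2 p3
    rcases invol h ((mem_normalizer_iff.1 xD v).1 (vD h)) (by rw [conj_mul, h.vv]; simp) with
      q | q | q | q | q | q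
    iterate 4 exact h0 ((mem_V h).2 (by simp [q]))
    · exact ex c h1 h2 c1 w hw τ t1 t2 t3 β p3 (q ▸ p2) p1
    · rw [q] at p2
      have p4 : β * s * β⁻¹ = z := by
        rw [show s = z * (z * s) by dh h, ← conj_mul, p2.1, p2.2]; dh h
      exact ex c h1 h2 c1 w hw τ t1 t2 t3 (β * β) (mul_mem p3 p3) ⟨by
        rw [show β * β * z * (β * β)⁻¹ = β * (β * z * β⁻¹) * β⁻¹ by group, p2.1, p2.2]; dh h, by
        rw [show β * β * s * (β * β)⁻¹ = β * (β * s * β⁻¹) * β⁻¹ by group, p4, p2.1, h.sz]⟩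
        (by rw [mul_assoc, p1, ← mul_assoc, p1, mul_assoc])

end H81.D8
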