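import Cfsg.Agent.H81.W2
import Cfsg.Agent.H67.SAInd

/-! STD-A, slot W2. -/

set_option autoImplicit false

namespace H81.W2

universe u

theorem jobW2A : H67.SA.JobW2.{u} := by
  intro n F _ _ _ _ G _ _ e t e₁ e₂ hE hC hG W b k y hp hW tn bn hb hk hr yy dw big o ho oo
  refine core hC.le_Cs' ?_ hE.inv.1 hC.cjs_range (fun w hw => hG.pm w (hW hw)) hp tn bn hb hk hr
    ⟨y, rfl⟩ (map_mul e₁ y y ▸ yy) dw (big.imp_left fun h => by rw [← map_mul, h, map_one]) ho oo
  exact hG.toW0.odd.of_dvd_nat (Subgroup.card_dvd_of_le (Subgroup.le_centralizer_iff.2 (sup_le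
    (Subgroup.le_centralizer_iff.1 inf_le_left) (Subgroup.le_centralizer_iff.1 inf_le_right))))

end H81.W2
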