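import Cfsg.Agent.H78.TESpec
import Cfsg.Agent.H30.SfC
import Cfsg.Agent.H78.NU3
import Cfsg.Agent.H55.FU3
import Cfsg.Agent.H48.SgTy
import Cfsg.Agent.H48.SgFa
import Cfsg.Agent.H37.SgL

/-! STD-2E6, field case: `JobF4`. -/

set_option autoImplicit false
set_option linter.unusedSectionVars false
set_option maxHeartbeats 400000

namespace H81.TE4

open H98 Subgroup Cfsg Cfsg.Lie H63 H65 H64 H64.SG H78.TE H37.Sg
open H30.Sf (mem_sup_inv)
open scoped commutatorElement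

universe u

/-- The graph symmetry as a permutation. -/
def ρ : Equiv.Perm (Rt H78.TE.E6) := ⟨gm, gm, gm_gm, gm_gm⟩

theorem rho : Rho ρ :=
  ⟨gm_gm, fun r => by rw [← hN_eq, ← hN_eq]; exact hN_gm r,
    fun r s => by rw [← ip_eq, ← ip_eq]; exact ip_gm r s,
    fun r => by rw [← ip_eq]; exact ip_gm_self r⟩

theorem SW_sub (k : Fin H78.TE.E6.rank) :
    SW ⊆ {r | Pos r ∧ r ∉ (H64.wdata H78.TE.E6).PhiJ {k}} := fun r hr => by
  have : ∀ r ∈ SW, 36 ≤ r.1 ∧ ∀ k : Fin H78.TE.E6.rank, r.1 ≠ H78.TE.E6.simple k := by decide +kernel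
  have hp := pos_iff.2 (this r hr).1
  refine ⟨hp, fun h => ?_⟩
  rcases mem_PhiJ_single.1 h with e | e
  · exact (this r hr).2 k (congrArg Fin.val e)
  · exact ((H64.wdata H78.TE.E6).pos_neg _).1 (e ▸ hp) ((H64.wdata H78.TE.E6).pos_p k)

theorem jobF4 : H78.TE.JobF4.{u} := by
  intro F K _ _ _ _ _ _ T X G _ _ F₀ L t c y C P ho hU hW H h3
  have h := P.cfg
  have t2 := h.inv.1
  have st := P.st
  have tU : t ∈ Ns (UU H78.TE.E6 y) := P.tU {r | Pos r} fun r hr => pos_gm.2 hr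
  by_cases hM : Ns (GG H78.TE.E6 y) = ⊤
  · have hN : (GG H78.TE.E6 y).Normal := normal_of_top_le_normalizer hM.ge
    obtain rfl : GG H78.TE.E6 y = F₀ := by
      rcases h.simple.eq_bot_or_eq_top_of_normal ((GG H78.TE.E6 y).subgroupOf F₀) inferInstance with e | e
      · exact absurd (congrArg Subtype.val (mem_bot.1 (e ▸ x_mem_GG (hi H78.TE.E6) 1 :
          (⟨_, H.le (x_mem_GG (hi H78.TE.E6) 1)⟩ : F₀) ∈ ⊥))) (C.x_ne_one _ one_ne_zero)
      · exact le_antisymm H.le (subgroupOf_eq_top.1 e)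
    exact ⟨MulEquiv.ofBijective C.piH ⟨(injective_iff_map_eq_one _).2 fun l hl =>
      Subtype.ext (mem_bot.1 (h.cent ▸ C.ker_cen l l.2 hl)), C.piH_surjective⟩⟩
  exfalso
  obtain ⟨W, a, b, w1, -, a2, -, -, b2, b3, -, w2, -, w3, -⟩ := H9.UF.jobK4 hU hM _ H.syl
  have hS := fun g => mem_sup_inv (U := UU H78.TE.E6 y) (g := g) t2 tU
  have hF : ∀ n g : G, IsConj t g → n * g * n⁻¹ ∉ UU H78.TE.E6 y := fun n g hg e => by
    obtain ⟨k, rfl⟩ := isConj_iff.1 hg
    exact H.nt (by simpa using h.normal.mem_comm (by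
      simpa using h.normal.mem_comm (H.le (gen_le_GG _ e)) : k * t * k⁻¹ ∈ F₀))
  by_cases w4 : W ≤ UU H78.TE.E6 y
  · rcases w4.eq_or_lt with rfl | w5
    · have e : ∀ f : Unit → Subgroup G, ⨆ i, f i = f () := fun f => iSup_unique f
      have cW : Cl SW := by decide +kernel
      have q : up c T.W ≤ gen (XR H78.TE.E6 y) SW := (closure_le _).2 fun l hl =>
        C.mem_gen (C.isPGroup_UU.to_le (gen_mono _ fun r hr => pos_iff.2 (cW.1.1 r hr))) (P.le hl.1)
          hl.2.1 (P.pp l hl.1 ▸ (X.kb.gtY _ cW _).1 hl.2.2)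
      have := H78.NU.jobNU H48.SgTy.jobTy H48.SgFa.jobFA H55.FU.jobFU H78.TE.E6 e6 K G Unit (fun _ => y)
        ⟨fun _ => C, fun _ _ h => absurd rfl h, by rwa [e],
        fun m hm _ => ⟨(), cj_eq_self (by rwa [e] at hm)⟩⟩ t (by simp) (by rwa [e])
        (by rw [e]; exact tU) (fun _ _ h => absurd rfl h) fun k => by
          rw [e, e]
          exact (centralizer_anti (q.trans (gen_mono _ (SW_sub k)))).trans hW
      rw [e, e] at this
      exact b3 (this b2)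
    · obtain ⟨i, i1, i2⟩ := SetLike.exists_of_lt (lt_inf_normalizer C.isPGroup_UU w5)
      obtain ⟨k, k1, k2⟩ := exists_sq_mem (isPGroup_iff_is2.1 C.isPGroup_UU i i1.1) i2
      obtain ⟨w, w6, n, -, e⟩ := w3 _ (pow_mem i1.2 k) k1 k2
      exact hF n a a2 (e ▸ mul_mem (pow_mem i1.1 k) (w4 w6))
  obtain ⟨k, k1, k2⟩ : ∃ k, ¬ gen (XR H78.TE.E6 y) (Sk ρ k) ≤ W ∧
      gen (XR H78.TE.E6 y) (Sk ρ (k + 1)) ≤ W := by
    by_contra! k1
    have k2 : ∀ k, ¬ gen (XR H78.TE.E6 y) (Sk ρ k) ≤ W := fun k => by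
      induction k with
      | zero =>
        intro e
        obtain ⟨w, w5, w6⟩ := SetLike.not_le_iff_exists.1 w4
        exact w2 t ((mul_mem_cancel_left w5).1 (e (gen_mono _ (fun r hr => And.intro hr (Nat.zero_le _))
          (((hS w).1 (w1 w5)).resolve_left w6)))) (.refl _)
      | succ k ih => exact k1 k ih
    obtain ⟨m, hm⟩ := (Set.finite_range (ky ρ)).bddAbove
    exact k2 (m + 1) (H64.gen_le_iff.2 fun r hr => absurd (hm ⟨r, rfl⟩) (not_le.2 hr.2))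
  obtain ⟨r, hr, rfl⟩ : ∃ r : Rt H78.TE.E6, Pos r ∧ ky ρ r = k := by
    by_contra! e
    exact k1 ((gen_mono _ fun r hr => And.intro hr.1 (lt_of_le_of_ne hr.2 (e r hr.1).symm)).trans k2)
  have cm : ∀ v v', y r v * y (gm r) v' = y (gm r) v' * y r v := fun v v' =>
    e6.comm_of_nonneg st (ip_eq r (gm r) ▸ ip_gm_nonneg r) v v'
  have mu : ∀ v v' s s', y r v * y (gm r) v' * (y r s * y (gm r) s') =
      y r (v + s) * y (gm r) (v' + s') := fun v v' s s' => by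
    rw [← st.add r r.2, ← st.add _ (gm r).2, mul_assoc, ← mul_assoc (y (gm r) v'), ← cm]
    simp only [mul_assoc]
  have tc : ∀ v v', t * (y r v * y (gm r) v') * t⁻¹ = y r (T.σ v') * y (gm r) (T.σ v) := fun v v' => by
    rw [← conj_mul, P.ty, P.ty, gm_gm, cm]
  have z : y r 0 * y (gm r) 0 = 1 := by rw [st.x_zero, st.x_zero, mul_one]
  have mN : ∀ v v', y r v * y (gm r) v' ∈ gen (XR H78.TE.E6 y) (Sk ρ (ky ρ r)) := fun v v' =>
    mul_mem (x_mem_gen (S := Sk ρ (ky ρ r)) ⟨hr, le_rfl⟩ v)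
      (x_mem_gen (S := Sk ρ (ky ρ r)) ⟨pos_gm.2 hr, (rho.ky_rho r).ge⟩ v')
  obtain ⟨v, v', v1, v2⟩ : ∃ v v', y r v * y (gm r) v' ∉ W ∧
      y r v * y (gm r) v' * (t * (y r v * y (gm r) v') * t⁻¹) ∈ W := by
    obtain ⟨u, u1, u2⟩ := SetLike.not_le_iff_exists.1 k1
    obtain ⟨v, v', u, u3, rfl⟩ := split_Sk e6 st rho hr u1
    have u4 : y r v * y (gm r) v' ∉ W := fun e => u2 (mul_mem e (k2 u3))
    by_cases e : y r v * y (gm r) v' * (t * (y r v * y (gm r) v') * t⁻¹) ∈ W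
    · exact ⟨v, v', u4, e⟩
    · rw [tc, mu] at e
      refine ⟨_, _, e, ?_⟩
      rw [tc, mu, map_add, map_add, T.ss, T.ss, add_comm (T.σ v'), add_comm (T.σ v),
        CharTwo.add_self_eq_zero, CharTwo.add_self_eq_zero, z]
      exact one_mem _
  have i2 : ∀ v v', y r v * y (gm r) v' * (y r v * y (gm r) v') = 1 := fun v v' => by
    rw [mu, CharTwo.add_self_eq_zero, CharTwo.add_self_eq_zero, z]
  have d : y (gm r) v' * (y r v * y (gm r) v' * t) * (y (gm r) v')⁻¹ = y r (v + T.σ v') * t := by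
    have := P.ty (gm r) v'
    rw [gm_gm] at this
    rw [x_inv st, ← st.add r r.2, ← this, cm, ← mul_assoc, ← mul_assoc, ← mul_assoc,
      x_sq st, inv_eq_of_mul_eq_one_right t2]
    simp only [mul_assoc, t2, one_mul, mul_one]
  have i3 := i2 v v'
  have i4 : t * (y r v * y (gm r) v') * t⁻¹ ∈ gen (XR H78.TE.E6 y) (Sk ρ (ky ρ r)) := tc v v' ▸ mN _ _
  have i1 := mN v v'
  generalize y r v * y (gm r) v' = i at v1 v2 d i1 i3 i4
  have ii := inv_eq_of_mul_eq_one_right i3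
  obtain ⟨w, w5, n, -, e⟩ := w3 i (mem_normalizer_of_cj_le (by
    rintro _ ⟨w, hw, rfl⟩
    refine (mul_mem_cancel_right (inv_mem hw)).1 ?_
    change i * w * i⁻¹ * w⁻¹ ∈ W
    rcases (hS w).1 (w1 hw) with e | e
    · have := inv_mem (k2 (comm_Sk st _ e i1))
      rwa [commutatorElement_inv] at this
    · have := mul_mem v2 (inv_mem (k2 (comm_Sk st _ e (inv_mem i4))))
      rw [commutatorElement_inv, commutatorElement_def] at this
      convert this using 1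
      calc _ = i * (w * (t * t) * i * (t * t)⁻¹ * w⁻¹) := by rw [t2, ii]; group
        _ = _ := by group)) v1 (by rw [i3]; exact one_mem _)
  have e1 := ((hS _).1 (mul_mem (mem_sup_left (Sk_le _ i1)) (w1 w5))).resolve_left (e ▸ hF n a a2)
  obtain ⟨u, u1, u2⟩ := P.cob _ e1 (by
    rw [mul_assoc _ t t, t2, mul_one, e, conj_mul, (H9.UF.inv2_conj hU.inv a2).1]; simp)
  rw [mul_assoc _ t t, t2, mul_one] at u2
  have e2 : u * (y (gm r) v')⁻¹ * (y r (v + T.σ v') * t) * (u * (y (gm r) v')⁻¹)⁻¹ ∈ W := by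
    have := mul_mem (k2 (comm_Sk st _ u1 i1)) w5
    rw [commutatorElement_def, ii, mul_assoc _ i w, u2] at this
    convert this using 1
    rw [← d]
    group
  have p1 : (y (gm r) v')⁻¹ ∈ UU H78.TE.E6 y := inv_mem (x_mem_gen (S := {r | Pos r}) (pos_gm.2 hr) v')
  by_cases e3 : y r (v + T.σ v') * t * (y r (v + T.σ v') * t) = 1
  · obtain ⟨m, -, e4⟩ := P.cob _ (x_mem_gen (S := {r | Pos r}) hr _) e3
    exact w2 _ e2 ((isConj_iff.2 ⟨m, e4.symm⟩).trans (isConj_iff.2 ⟨_, rfl⟩))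
  · refine b3 ((mul_mem_cancel_right (le_normalizer (gen_le_GG _ (mul_mem u1 p1)))).1
      (h3 r _ e3 (b * (u * (y (gm r) v')⁻¹)) ?_))
    simpa [mul_assoc] using H.syl.1 (w1 (conj_mem_of_mem_normalizer b2 e2))

end H81.TE4
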