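import Cfsg.Agent.H78.TEDef
import Cfsg.Agent.H64.SGFC

/-! STD-2E6: `JobFC`, the non-root involutions of `²E₆(q)`. -/

set_option autoImplicit false
set_option linter.unusedSectionVars false
set_option synthInstance.maxSize 2000

namespace H81.TEF

open Cfsg.Lie H63 H65 H64 H64.SG H68 H46.SF Subgroup H78.TE H78.TE.Qd

variable {F K : Type} [Field F] [Finite F] [CharP F 2] [Field K] [Finite K] [CharP K 2] {T : Qd F K}

/-- What is shown for each representative. -/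
def Good (T : Qd F K) (g : T.X) : Prop :=
  (∀ y ∈ Cs (T.U ⊓ Cz g), IsConj g y ∨ ∃ c, y = T.x (hi D4) c) ∧
    ∀ c, T.x (hi D4) c ∈ O2 (Cz g) ∧ (T.x (hi D4) c ∈ Cs (Cz g) → c = 0)

theorem conj_mul_of_comm {G : Type*} [Group G] {a b c : G} (h : a * c = c * a) :
    a * (b * c) * a⁻¹ = a * b * a⁻¹ * c := by
  rw [← conj_mul, h, mul_inv_cancel_right]

variable (hK : T.KB)
include hK

theorem gt_comm {S S' : Set (Rt E6)} (h : ∀ r ∈ S, ∀ s ∈ S', 0 ≤ ip r s ∧ 0 ≤ ip r (gm s))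
    {a b : T.X} (ha : a ∈ T.gt S) (hb : b ∈ T.gt S') : a * b = b * a := by
  have : T.gt S ≤ Cz b := T.gt_le.2 fun r hr u => by
    have : T.gt S' ≤ Cz (T.xs r u) := T.gt_le.2 fun s hs v =>
      mem_centralizer_singleton_iff.2 (hK.c0 r s (h r hr s hs).1 (h r hr s hs).2 u v).symm
    exact mem_centralizer_singleton_iff.2 (mem_centralizer_singleton_iff.1 (this hb)).symm
  exact mem_centralizer_singleton_iff.1 (this ha)

theorem x_comm {S : Set (Rt E6)} (r : Rt D4) (h : ∀ s ∈ S, 0 ≤ ip (lr r) s ∧ 0 ≤ ip (lr r) (gm s))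
    (c : F) {g : T.X} (hg : g ∈ T.gt S) : T.x r c ∈ Cz g :=
  mem_centralizer_singleton_iff.2 (gt_comm hK (S := {lr r}) (by rintro _ rfl; exact h)
    (hK.x_mem r (Set.mem_singleton _) c) hg)

theorem x0 (r : Rt D4) : T.x r 0 = 1 := by
  have := hK.st.add r r.2 0 0
  rwa [add_zero, mul_eq_left] at this

theorem xs_one (r : Rt D4) {v : K} : T.xs (lr r) v = 1 ↔ T.σ v = v := by
  obtain ⟨c, hc⟩ := T.exists_tr v
  rw [T.xs_lr r hc]
  refine ⟨fun h => ?_, fun h => ?_⟩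
  · rw [hK.inj r c h, map_zero, eq_comm, CharTwo.add_eq_zero] at hc
    exact hc.symm
  · rw [h, CharTwo.add_self_eq_zero, map_eq_zero] at hc
    rw [hc]
    exact x0 hK r

theorem o2 {S : Set (Rt E6)} (h : ∀ r ∈ [R4 14, R4 9, R4 22], ∀ s ∈ S,
    0 ≤ ip (lr r) s ∧ 0 ≤ ip (lr r) (gm s)) {g : T.X} (hg : g ∈ T.gt S) (c : F) :
    T.x (hi D4) c ∈ O2 (Cz g) ∧ (T.x (hi D4) c ∈ Cs (Cz g) → c = 0) := by
  have m1 := x_comm hK (R4 14) (h _ (by simp)) 1 hg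
  have m2 := x_comm hK (R4 9) (h _ (by simp)) 1 hg
  have m3 := x_comm hK (R4 22) (h _ (by simp)) c hg
  have e1 : rt (hi D4) = rt (R4 14) + rt (R4 22) :=
    lr_add.2 (add_iff.2 (by rw [lr_hi]; decide +kernel))
  have e2 : rt (R4 22) = rt (R4 9) + rt (hi D4) :=
    lr_add.2 (add_iff.2 (by rw [lr_hi]; decide +kernel))
  refine ⟨?_, fun k => ?_⟩
  · have h3 : (T.x (R4 14) 1 * T.x (R4 9) 1) ^ 3 = 1 := Subtype.ext (by
      have := x_neg_cube (stY K).toStN (lr (R4 14))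
      rw [← ng_eq, show ng (lr (R4 14)) = lr (R4 9) by decide +kernel] at this
      rw [coe_pow, coe_mul, x_val, x_val, map_one]
      exact this)
    have h4 := mem_O2_of_odd (mul_mem m1 m2) (odd_orderOf_of_pow (by decide) h3)
    have h5 := mul_mem h4 ((mem_normalizer_iff.1 (Ns_le_Ns_O2 _ (le_normalizer m3)) _).1 (inv_mem h4))
    have h6 := e4.comm_of_nonneg hK.st (r := R4 9) (s := R4 22) (by decide +kernel) 1 c
    rwa [← mul_assoc, ← mul_assoc, mul_assoc (T.x (R4 14) 1), h6, mul_inv_rev, ← mul_assoc,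
      ← mul_assoc, mul_inv_cancel_right, e4.commutator_add hK.st e1, one_mul] at h5
  · have e := e4.commutator_add hK.st e2 1 c
    rw [k _ m2, mul_inv_cancel_right, mul_inv_cancel, one_mul] at e
    exact hK.inj _ _ e.symm

theorem clW : Cl SW := by decide +kernel

theorem memW (hB : T.TB) (hA : T.CA) {g y : T.X} (hg : g ∈ T.W) (hy : y ∈ Cs (T.U ⊓ Cz g)) :
    y ∈ T.W := by
  have c : ∀ r ∈ SW, ∀ s ∈ SW, 0 ≤ ip r s ∧ 0 ≤ ip r (gm s) := by decide +kernel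
  have k : ∀ w ∈ T.W, w * y = y * w := fun w hw =>
    hy w ⟨T.gt_mono (S' := SU) (fun r hr => (clW hK).1.1 r hr) hw,
      mem_centralizer_singleton_iff.2 (gt_comm hK c hw hg)⟩
  obtain ⟨ζ, hζ, e⟩ := hA.cW (MulAut.conj y) fun w hw => by
    rw [MulAut.conj_apply, ← k w hw, mul_inv_cancel_right]
  have := hB.cen (ζ⁻¹ * y) (by rw [map_mul, e, map_inv, inv_mul_cancel])
  rwa [← inv_mul_eq_one.1 this]

theorem toS (hC : T.CT) (hB : T.TB) (hA : T.CA) (A L P : List (Rt E6)) (h1 : ∀ r ∈ A, r ∈ SW)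
    (h2 : Cl {r | r ∈ L ∨ gm r ∈ L}) (h3 : ∀ r, r ∈ L ∨ gm r ∈ L → r ∈ SW)
    (h4 : ∀ s ∈ P, 36 ≤ s.1 ∧ ∀ a ∈ A, 0 ≤ ip s a ∧ 0 ≤ ip s (gm a))
    (h5 : ∀ r, r ∈ L ∨ gm r ∈ L → ∀ s ∈ P, ip r s ≠ -1 ∧ ip r (gm s) ≠ -1)
    (h6 : ∀ r ∈ SW, ¬ (r ∈ L ∨ gm r ∈ L) → ∃ s ∈ P, ip r s = -1) (h7 : L.Nodup) {g y : T.X}
    (hg : g ∈ T.gt {r | r ∈ A}) (hy : y ∈ Cs (T.U ⊓ Cz g)) :
    ∃ u : Rt E6 → K, y = (L.map fun r => T.xs r (u r)).prod := by
  have yW := (hK.gtY _ (clW hK) y).1 (memW hK hB hA (T.gt_mono (S' := SW) h1 hg) hy)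
  have k : ∀ s ∈ P, ∀ a, (y : YY K) * T.xs s a * (y : YY K)⁻¹ * (T.xs s a : YY K)⁻¹ ∈ gY K ∅ :=
    fun s hs a => by
      have k1 : T.xs s a * g = g * T.xs s a :=
        gt_comm hK (S := {s}) (by rintro _ rfl; exact (h4 _ hs).2) (T.xs_mem (Set.mem_singleton _) a) hg
      have k2 : T.xs s a * y = y * T.xs s a :=
        hy (T.xs s a) ⟨T.xs_mem (S := SU) (h4 s hs).1 a, mem_centralizer_singleton_iff.2 k1⟩
      have k3 : (T.xs s a : YY K) * y = y * T.xs s a := congrArg Subtype.val k2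
      rw [← k3, mul_inv_cancel_right, mul_inv_cancel]
      exact one_mem _
  have k4 := hC SW {r | r ∈ L ∨ gm r ∈ L} ∅ {s | s ∈ P} (clW hK).1 h2.1 h3 (fun s hs => (h4 s hs).1)
    (fun _ h => h.elim)
    (fun r hr s hs => ⟨fun e => absurd e (h5 r hr s hs).1, fun e => absurd e (h5 r hr s hs).2⟩)
    (fun r hr hn => (h6 r hr hn).imp fun s hs => ⟨hs.1, hs.2, fun h => h.elim⟩) y yW k
  exact hK.prod _ h2 L h7 (fun r hr => Or.inl hr) (fun r hr => hr) y ((hK.gtY _ h2 y).2 k4)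

theorem cj48 (a u v : K) : T.xs (R6 48) a * (T.xs (R6 68) u * T.xs (R6 71) v) * (T.xs (R6 48) a)⁻¹ =
    T.xs (R6 68) u * T.xs (R6 71) (a * u + v) := by
  rw [conj_mul_of_comm (hK.c0 _ _ (by decide +kernel) (by decide +kernel) a v),
    hK.cs _ _ (by decide +kernel) (by decide +kernel), show su (R6 48) (R6 68) = R6 71 by decide +kernel,
    mul_assoc, xs_add]

theorem good1 (hC : T.CT) (hB : T.TB) (hA : T.CA) : Good T (T.xs (R6 68) 1) := by
  have hg : T.xs (R6 68) 1 ∈ T.gt {r | r ∈ [R6 68]} := T.xs_mem (by simp) 1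
  refine ⟨fun y hy => ?_, o2 hK (by decide +kernel) hg⟩
  obtain ⟨u, rfl⟩ := toS hK hC hB hA [R6 68] [R6 68, R6 71]
    ((List.finRange 72).filter fun s => 36 ≤ s.1 ∧ 0 ≤ ip s (R6 68) ∧ 0 ≤ ip s (R6 66))
    (by decide +kernel) (by decide +kernel) (by decide +kernel) (by decide +kernel)
    (by decide +kernel) (by decide +kernel) (by decide +kernel) hg hy
  simp only [List.map, List.prod_cons, List.prod_nil, mul_one] at hy ⊢
  generalize u (R6 68) = b, u (R6 71) = v at hy ⊢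
  have z : ∀ {v}, T.xs (R6 71) v = 1 ↔ T.σ v = v := xs_one hK (hi D4)
  have k1 := cj48 hK 1 1 0
  rw [xs_zero, mul_one, mul_one, add_zero, z.2 (map_one _), mul_one] at k1
  have k2 := cj48 hK 1 b v
  rw [hy _ ⟨T.xs_mem (by decide +kernel) 1,
    mem_centralizer_singleton_iff.2 (mul_inv_eq_iff_eq_mul.1 k1)⟩, mul_inv_cancel_right,
    mul_right_inj, ← xs_add, right_eq_mul, one_mul] at k2
  obtain ⟨c, rfl⟩ := (T.fix b).1 (z.1 k2)
  by_cases hc : c = 0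
  · obtain ⟨e, he⟩ := T.exists_tr v
    exact Or.inr ⟨e, by rw [hc, map_zero, xs_zero, one_mul, ← T.xs_lr _ he]; rfl⟩
  have hc' : T.ι c ≠ 0 := (map_ne_zero _).2 hc
  refine Or.inl (IsConj.trans (b := T.xs (R6 68) (T.ι c)) (isConj_iff.2 ⟨hh D4 T.x (hi D4) c, ?_⟩)
    (isConj_iff.2 ⟨T.xs (R6 48) (v / T.ι c), ?_⟩))
  · rw [hK.tor _ _ hc, show ip (lr (hi D4)) (R6 68) = 1 by decide +kernel, zpow_one, mul_one]
  · have := cj48 hK (v / T.ι c) (T.ι c) 0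
    rwa [xs_zero, mul_one, add_zero, div_mul_cancel₀ _ hc'] at this

theorem cj61 (a u : K) (b c : F) :
    T.xs (R6 61) a * (T.xs (R6 55) u * (T.x (R4 20) b * T.x (hi D4) c)) * (T.xs (R6 61) a)⁻¹ =
      T.xs (R6 55) u * (T.x (R4 20) b * T.x (hi D4) c) * T.xs (R6 71) (a * u) := by
  have c1 := hK.cx (R4 20) (R6 61) (by decide +kernel) b a
  have c2 := hK.cx (hi D4) (R6 61) (by decide +kernel) c a
  have c3 := hK.cx (R4 20) (R6 71) (by decide +kernel) b (a * u)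
  have c4 := hK.cx (hi D4) (R6 71) (by decide +kernel) c (a * u)
  rw [conj_mul_of_comm (by rw [← mul_assoc, ← c1, mul_assoc, ← c2, mul_assoc]),
    hK.cs _ _ (by decide +kernel) (by decide +kernel), show su (R6 61) (R6 55) = R6 71 by decide +kernel,
    mul_assoc, ← mul_assoc (T.xs (R6 71) _), ← c3, mul_assoc, ← c4]
  simp only [mul_assoc]

theorem cj16 (e : F) (u : K) (b c : F) :
    T.x (R4 16) e * (T.xs (R6 55) u * (T.x (R4 20) b * T.x (hi D4) c)) * (T.x (R4 16) e)⁻¹ =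
      T.xs (R6 55) u * (T.x (R4 20) b * T.x (hi D4) (e * b + c)) := by
  have e1 : rt (hi D4) = rt (R4 16) + rt (R4 20) :=
    lr_add.2 (add_iff.2 (by rw [lr_hi]; decide +kernel))
  rw [← conj_mul, hK.cx (R4 16) (R6 55) (by decide +kernel), mul_inv_cancel_right,
    conj_mul_of_comm (e4.comm_of_nonneg hK.st (r := R4 16) (s := hi D4) (by decide +kernel) e c),
    e4.conj_add hK.st e1, mul_assoc, hK.st.add _ (hi D4).2]

theorem good2 (hC : T.CT) (hB : T.TB) (hA : T.CA) : Good T (T.xs (R6 55) 1 * T.x (R4 20) 1) := by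
  have hg : T.xs (R6 55) 1 * T.x (R4 20) 1 ∈ T.gt {r | r ∈ [R6 55, R6 65]} :=
    mul_mem (T.xs_mem (by simp) 1) (hK.x_mem (R4 20) (by decide +kernel) 1)
  refine ⟨fun y hy => ?_, o2 hK (by decide +kernel) hg⟩
  obtain ⟨u, rfl⟩ := toS hK hC hB hA [R6 55, R6 65] [R6 55, R6 65, R6 71]
    ((List.finRange 72).filter fun s =>
      36 ≤ s.1 ∧ 0 ≤ ip s (R6 55) ∧ 0 ≤ ip s (R6 67) ∧ 0 ≤ ip s (R6 65))
    (by decide +kernel) (by decide +kernel) (by decide +kernel) (by decide +kernel)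
    (by decide +kernel) (by decide +kernel) (by decide +kernel) hg hy
  simp only [List.map, List.prod_cons, List.prod_nil, mul_one] at hy ⊢
  obtain ⟨b, hb⟩ := T.exists_tr (u (R6 65))
  obtain ⟨c, hc⟩ := T.exists_tr (u (R6 71))
  rw [show T.xs (R6 65) (u (R6 65)) = T.x (R4 20) b from T.xs_lr (R4 20) hb,
    show T.xs (R6 71) (u (R6 71)) = T.x (hi D4) c from T.xs_lr (hi D4) hc] at hy ⊢
  generalize u (R6 55) = a at hy ⊢
  have z : ∀ {v}, T.xs (R6 71) v = 1 ↔ T.σ v = v := xs_one hK (hi D4)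
  have z0 : T.x (hi D4) 0 = 1 := x0 hK (hi D4)
  obtain ⟨w, hw⟩ := hK.half
  have zw : ∀ (r : Rt D4) (e : F), T.xs (lr r) (w * T.ι e) = T.x r e := fun r e =>
    T.xs_lr r (by rw [map_mul, T.fi, ← add_mul, hw, one_mul])
  have k1 := cj61 hK 1 1 1 0
  rw [z0, mul_one, mul_one, z.2 (map_one _), mul_one] at k1
  have k2 := cj61 hK 1 a b c
  rw [hy _ ⟨T.xs_mem (by decide +kernel) 1,
    mem_centralizer_singleton_iff.2 (mul_inv_eq_iff_eq_mul.1 k1)⟩, mul_inv_cancel_right,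
    left_eq_mul, one_mul] at k2
  obtain ⟨a, rfl⟩ := (T.fix a).1 (z.1 k2)
  have k3 : ∀ a b c, T.xs (R6 61) w * T.x (R4 16) 1 *
      (T.xs (R6 55) (T.ι a) * (T.x (R4 20) b * T.x (hi D4) c)) * (T.xs (R6 61) w * T.x (R4 16) 1)⁻¹ =
      T.xs (R6 55) (T.ι a) * (T.x (R4 20) b * T.x (hi D4) c) * T.x (hi D4) (b + a) := fun a b c => by
    rw [mul_inv_rev, mul_assoc (T.xs _ w), ← mul_assoc _ _ (T.xs _ w)⁻¹, mul_assoc (T.xs _ w), cj16 hK,
      cj61 hK, show T.xs (R6 71) (w * T.ι a) = T.x (hi D4) a from zw (hi D4) a]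
    simp only [mul_assoc, hK.st.add _ (hi D4).2]
    congr 3
    ring
  have k4 := k3 1 1 0
  rw [z0, mul_one, CharTwo.add_self_eq_zero, z0, mul_one, map_one] at k4
  have k5 := k3 a b c
  rw [hy _ ⟨mul_mem (T.xs_mem (by decide +kernel) w) (hK.x_mem (R4 16) (by decide +kernel) 1),
    mem_centralizer_singleton_iff.2 (mul_inv_eq_iff_eq_mul.1 k4)⟩, mul_inv_cancel_right,
    left_eq_mul] at k5
  obtain rfl := CharTwo.add_eq_zero.1 (hK.inj _ _ k5)
  by_cases h0 : b = 0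
  · exact Or.inr ⟨c, by rw [h0, map_zero, xs_zero, one_mul, x0 hK (R4 20), one_mul]⟩
  refine Or.inl (IsConj.trans (b := T.xs (R6 55) (T.ι b) * T.x (R4 20) b)
    (isConj_iff.2 ⟨hh D4 T.x (hi D4) b, ?_⟩) (isConj_iff.2 ⟨T.x (R4 16) (c / b), ?_⟩))
  · rw [← conj_mul, ← zw, ← zw, hK.tor _ _ h0, hK.tor _ _ h0,
      show ip (lr (hi D4)) (R6 55) = 1 by decide +kernel,
      show ip (lr (hi D4)) (lr (R4 20)) = 1 by decide +kernel, zpow_one, map_one, mul_one, mul_one,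
      mul_comm]
  · have := cj16 hK (c / b) (T.ι b) b 0
    rwa [z0, mul_one, add_zero, div_mul_cancel₀ _ h0] at this

theorem exists_good (hC : T.CT) (hB : T.TB) (hA : T.CA) (hI : T.IC) {g : T.X} (hg : Inv2 g)
    (hn : ¬ T.Root g) : ∃ g₀ h, Good T g₀ ∧ h * g₀ * h⁻¹ = g := by
  rcases hI.ic g hg with k | k | k
  · exact absurd ⟨1, one_ne_zero, k.symm⟩ hn
  · obtain ⟨h, e⟩ := isConj_iff.1 k.symm
    exact ⟨_, h, good1 hK hC hB hA, e⟩
  · obtain ⟨h, e⟩ := isConj_iff.1 k.symm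
    exact ⟨_, h, good2 hK hC hB hA, e⟩

omit hK in
theorem conj_mem_O2 {G : Type*} [Group G] {g y : G} (m : G) (h : y ∈ O2 (Cz g)) :
    m * y * m⁻¹ ∈ O2 (Cz (m * g * m⁻¹)) := by
  have : O2 (Cz g) ≤ (O2 (Cz (m * g * m⁻¹))).comap (MulAut.conj m).toMonoidHom :=
    (closure_le _).2 fun a ha => mem_O2_of_odd (mem_centralizer_singleton_iff.2 (by
      show m * a * m⁻¹ * _ = _ * (m * a * m⁻¹)
      rw [conj_mul, conj_mul, mem_centralizer_singleton_iff.1 ha.1]))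
      (by rw [show (MulAut.conj m).toMonoidHom a = MulAut.conj m a from rfl, MulEquiv.orderOf_eq]
          exact ha.2)
  exact this h

omit hK in
theorem jobFC : H78.TE.JobFC := fun F K _ _ _ _ _ _ T hK hC hB hA hI => by
  constructor
  · intro g y P hg hn hy hP hc
    obtain ⟨g₀, h, k, rfl⟩ := exists_good hK hC hB hA hI hg hn
    have c : ∀ m a : T.X, a ∈ Cz g₀ → m * a * m⁻¹ ∈ Cz (m * g₀ * m⁻¹) := fun m a ha =>
      mem_centralizer_singleton_iff.2 (by rw [conj_mul, conj_mul, mem_centralizer_singleton_iff.1 ha])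
    obtain ⟨l, hl, r⟩ := (syl_iff.1 hP).exists_cj_le (Q := cjs h (T.U ⊓ Cz g₀))
      (hK.isP.to_inf_left.map _) (by rintro _ ⟨a, ha, rfl⟩; exact c h a ha.2)
    have e : l * h * g₀ * (l * h)⁻¹ = h * g₀ * h⁻¹ := by
      rw [mul_inv_rev, mul_assoc l, ← mul_assoc _ _ l⁻¹, mul_assoc l,
        mem_centralizer_singleton_iff.1 hl, mul_inv_cancel_right]
    have e2 : l * h * ((l * h)⁻¹ * y * (l * h)) * (l * h)⁻¹ = y := by group
    rcases k.1 ((l * h)⁻¹ * y * (l * h)) fun a ha => by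
      have := hc _ (r ⟨_, ⟨a, ha, rfl⟩, rfl⟩)
      change l * (h * a * h⁻¹) * l⁻¹ * y = y * (l * (h * a * h⁻¹) * l⁻¹) at this
      calc _ = (l * h)⁻¹ * (l * (h * a * h⁻¹) * l⁻¹ * y) * (l * h) := by group
        _ = _ := by rw [this]; group
      with k1 | ⟨a, k1⟩
    · exact Or.inl ((isConj_iff.2 ⟨h, rfl⟩ : IsConj g₀ _).symm.trans (k1.trans (isConj_iff.2 ⟨_, e2⟩)))
    · exact Or.inr (by rw [← e, ← e2, k1]; exact conj_mem_O2 _ (k.2 a).1)
  · intro g w hg hn hw hc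
    obtain ⟨g₀, h, k, rfl⟩ := exists_good hK hC hB hA hI hg hn
    have e2 : h * (h⁻¹ * w * h) * h⁻¹ = w := by group
    have c : h⁻¹ * w * h ∈ Cs (Cz g₀) := fun a ha => by
      have := hc (h * a * h⁻¹) (mem_centralizer_singleton_iff.2 (by
        rw [conj_mul, conj_mul, mem_centralizer_singleton_iff.1 ha]))
      calc _ = h⁻¹ * (h * a * h⁻¹ * w) * h := by group
        _ = _ := by rw [this]; group
    rcases k.1 _ (centralizer_le inf_le_right c) with k1 | ⟨a, k1⟩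
    · exact (isConj_iff.2 ⟨h, rfl⟩ : IsConj g₀ _).symm.trans (k1.trans (isConj_iff.2 ⟨_, e2⟩))
    · rw [k1] at c e2
      rw [(k.2 a).2 c, x0 hK (hi D4), mul_one, mul_inv_cancel] at e2
      exact absurd e2.symm hw.2

end H81.TEF
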