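import Cfsg.Agent.H25.STWr2
import Cfsg.Agent.H86.SAW3

/-! STD-S slot W3 (`H25.ST.JobW3`): centralisers of `d = y⁻¹ t` in the wreath case. -/

set_option autoImplicit false
set_option linter.unusedSectionVars false

namespace H81.ST3

open H25.ST H64.SG Subgroup
open H67.SA (cm mem_cjs conj_mem_cjs card_cjs jobK10)
open H86.SAW3 (cj_zp')

universe u

variable {X : Type} [Group X] {G : Type u} [Group G] [Finite G] {e : X →* G} {t : G} {B : Subgroup G}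
  {c : Cov X B}

/-- An odd group acting on `B` as a group of inner automorphisms that must be trivial. -/
theorem odd_triv (hF : F0 X) (w : CW e t c) {O : Subgroup G} (h1 : O ≤ Ns B) (h2 : Odd (Nat.card O))
    {A N : Subgroup X} (hA : ∀ o ∈ O, ∀ x, c.ac o = MulAut.conj x → x ∈ A) (hN : ∀ x ∈ N, e x ∈ Ns O)
    (h : ∀ O' ≤ A, Odd (Nat.card O') → N ≤ Ns O' → O' = ⊥) {o : G} (ho : o ∈ O) : c.ac o = 1 := by
  have := hF.fin
  let O' := ((O.subgroupOf (Ns B)).map c.acH).comap MulAut.conj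
  have mem : ∀ x, x ∈ O' ↔ ∃ o ∈ O, c.ac o = MulAut.conj x := fun x =>
    ⟨fun ⟨o, h3, h4⟩ => ⟨o, h3, h4⟩, fun ⟨o, h3, h4⟩ => ⟨⟨o, h1 h3⟩, h3, h4⟩⟩
  have pw : ∀ o ∈ O, c.ac o ^ orderOf o = 1 := fun o ho => by
    rw [← c.ac_pow (h1 ho), pow_orderOf_eq_one, c.ac_one]
  have h3 := h O' (fun x hx => by obtain ⟨o, h3, h4⟩ := (mem x).1 hx; exact hA o h3 x h4)
    (odd_card_of_forall fun x hx => by
      obtain ⟨o, h3, h4⟩ := (mem x).1 hx
      exact odd_orderOf_of_pow (odd_orderOf_of_mem h2 h3) (hF.cen _ (by rw [map_pow, ← h4, pw o h3])))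
    fun n hn => H98.mem_normalizer_of_cj_le (by
      rintro _ ⟨x, hx, rfl⟩
      obtain ⟨o, h3, h4⟩ := (mem x).1 hx
      refine (mem _).2 ⟨_, H98.conj_mem_of_mem_normalizer (hN n hn) h3, ?_⟩
      rw [c.ac_conj (w.e_M0 n).1 (h1 h3), w.ac_e, h4, aut_conj]; rfl)
  obtain ⟨x, hx⟩ := hF.inn_odd (odd_orderOf_of_pow (odd_orderOf_of_mem h2 ho) (pw o ho))
  rw [hx, mem_bot.1 (h3.le ((mem x).2 ⟨o, ho, hx⟩)), map_one]

/-- The common part of both statements. -/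
theorem key (hF : F0 X) (g : GW e t c) {S : Subgroup X} (hU : CU e t B S) (D : Subgroup G)
    (hD : IsPGroup 2 D) (ht : t ∈ Ns D) (hM : D ≤ MM t B) (V : Set X)
    (hV : ∀ v ∈ V, v * v = 1 ∧ e v ∈ Ns D) (hC : ∃ a U, SC U ∧ Lnk S U ∧ cjs a U ≤ closure V)
    (hc : ∀ m ∈ Cs D, m ∈ MM t B → cm m t ∈ D) {A N : Subgroup X} (hN : ∀ x ∈ N, e x ∈ Ns D)
    (hA : ∀ m ∈ Cs D, m ∈ M0 t B → ∀ x,
      c.ac m = MulAut.conj x ∨ (c.cj t).ac m = MulAut.conj x → x ∈ A)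
    (hO : ∀ O ≤ A, Odd (Nat.card O) → N ≤ Ns O → O = ⊥) : Cs D ≤ MM t B := by
  have w := g.toCW
  have hP : IsPGroup 2 ↥(D ⊔ zpowers t) :=
    hD.to_sup_of_normal_left' (H9.UF.pg_zp w.tt) (zpowers_le.2 ht)
  have hPN : D ⊔ zpowers t ≤ Ns D := sup_le le_normalizer (zpowers_le.2 ht)
  have hNC : Ns D ≤ Ns (Cs D) := H98.normalizer_le_normalizer_centralizer D
  have dec : ∀ h ∈ Cs D ⊔ (D ⊔ zpowers t), ∃ a ∈ Cs D, ∃ p ∈ D ⊔ zpowers t, h = a * p :=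
    fun h hh => (H98.mem_sup_right_norm (hPN.trans hNC)).1 hh
  have hodd : ∀ h ∈ Cs D ⊔ (D ⊔ zpowers t), Odd (orderOf h) → h ∈ Cs D := fun h hh ho => by
    obtain ⟨a, ha, p, hp, rfl⟩ := dec h hh
    obtain ⟨j, hj⟩ := H67.exists_pow_eq_one_of_mem hP hp
    have hn' : a * p ∈ Ns (Cs D) := mul_mem (le_normalizer ha) (hNC (hPN hp))
    refine H67.mem_of_coprime_pow (y := p) (a := orderOf (a * p)) (b := 2 ^ j)
      (fun x hx => by simpa using H98.conj_mem_of_mem_normalizer (inv_mem hn') hx) ?_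
      (Nat.Coprime.pow_right _ ((Nat.coprime_two_right).2 ho))
      (by rw [pow_orderOf_eq_one]; exact one_mem _) (by rw [hj]; exact one_mem _)
    rw [show (a * p)⁻¹ * p = p⁻¹ * a⁻¹ * p⁻¹⁻¹ by group]
    exact H98.conj_mem_of_mem_normalizer (inv_mem (hNC (hPN hp))) (inv_mem ha)
  have hS : ∀ u, e u ∈ Ns D → e u ∈ Ns (Cs D ⊔ (D ⊔ zpowers t)) := fun u hu =>
    H98.le_normalizer_sup (zpowers_le.2 (hNC hu)) (H98.le_normalizer_sup
      (zpowers_le.2 hu) (zpowers_le.2 (Cs_le_Ns _ (mem_Cs_zpowers.2 (w.b1.comm u))))) (mem_zpowers _)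
  have eM : ∀ u, e u ∈ MM t B := fun u => w.M0_le (w.e_M0 u)
  refine le_trans le_sup_left (jobK10 g.uf (IsConj.refl t) g.uf.mem _ D
    (mem_sup_right (mem_sup_right (mem_zpowers t))) (le_sup_of_le_right le_sup_left)
    (sup_le (Cs_le_Ns D) hPN) hD hodd (fun m hm mM => ?_) (e '' V) ?_ ?_ fun O o1 o2 o3 v hv o ho => ?_)
  · obtain ⟨a, ha, p, hp, rfl⟩ := dec m hm
    have pM : p ∈ MM t B := sup_le hM (zpowers_le.2 g.uf.mem) hp
    have h1 : cm p t ∈ D := by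
      obtain ⟨d, hd, s, hs, rfl⟩ := (H98.mem_sup_right_norm (zpowers_le.2 ht)).1 hp
      have : s * t = t * s := by
        obtain ⟨j, rfl⟩ := mem_zpowers_iff.1 hs
        exact ((Commute.refl t).zpow_left j).eq
      rw [show cm (d * s) t = d * ((s * t) * s⁻¹ * d⁻¹ * t⁻¹) by unfold cm; group, this,
        show t * s * s⁻¹ * d⁻¹ * t⁻¹ = t * d⁻¹ * t⁻¹ by group]
      exact mul_mem hd (H98.conj_mem_of_mem_normalizer ht (inv_mem hd))
    rw [show cm (a * p) t = a * cm p t * a⁻¹ * cm a t by unfold cm; group]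
    exact mul_mem (H98.conj_mem_of_mem_normalizer (Cs_le_Ns D ha) h1)
      (hc a ha (by simpa using mul_mem mM (inv_mem pM)))
  · rintro _ ⟨u, hu, rfl⟩
    exact ⟨by rw [← map_mul, (hV u hu).1, map_one], eM u, hS u (hV u hu).2, w.b1.comm u,
      w.isConj_te (hV u hu).1⟩
  · obtain ⟨a, U, h1, h2, h3⟩ := hC
    intro m hm
    have h4 := hU U h1 h2 (show (e a)⁻¹ * m * e a ∈ Cs (U.map e) by
      rintro _ ⟨u, hu, rfl⟩
      have := hm _ ((MonoidHom.map_closure e V).le ⟨_, h3 (conj_mem_cjs.2 hu), rfl⟩)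
      simp only [map_mul, map_inv] at this
      calc _ = (e a)⁻¹ * (e a * e u * (e a)⁻¹ * m) * e a := by group
        _ = _ := by rw [this]; group)
    simpa [mul_assoc] using mul_mem (mul_mem (eM a) h4) (inv_mem (eM a))
  · obtain ⟨u, hu, rfl⟩ := hv
    have o4 : O ≤ Cs D := fun o ho => hodd o (o1 ho).1 (odd_orderOf_of_mem o2 ho)
    have o5 : O ≤ M0 t B := fun o ho => w.odd_mem (o1 ho).2 (odd_orderOf_of_mem o2 ho)
    have o6 : ∀ x ∈ N, e x ∈ Ns O := fun x hx => o3 ⟨hS x (hN x hx), eM x⟩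
    exact mem_Cz.2 (w.mem_C1 (o5 ho) (odd_triv hF w (o5.trans inf_le_left) o2
      (fun o ho x h => hA o (o4 ho) (o5 ho) x (.inl h)) o6 hO ho) (odd_triv hF w.symm
      (o5.trans inf_le_right) o2 (fun o ho x h => hA o (o4 ho) (o5 ho) x (.inr h)) o6 hO ho) _
      (w.e_mem u))

/-- An element of `M0` centralising `y t` centralises `y`, `y^t` and `t`. -/
theorem fix_d (w : CW e t c) {m y : G} (hm : m ∈ M0 t B) (hy : y ∈ B) (y2 : Is2 y)
    (h : y * t * m = m * (y * t)) :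
    m * y = y * m ∧ m * (t * y * t⁻¹) = t * y * t⁻¹ * m ∧ cm m t = 1 := by
  have dd : e (c.pi y) = y * t * (y * t) := by rw [← w.diag y hy, w.ti]; group
  obtain ⟨h1, h2⟩ := w.fix_lift hm hy y2 (by
    rw [dd]; exact (Commute.mul_left h h).symm)
  refine ⟨h1, h2, H67.SA.cm_eq_one.2 ?_⟩
  rw [← mul_assoc, h1, mul_assoc, mul_assoc, mul_right_inj] at h
  exact h.symm

theorem partA (hF : F0 X) (g : GW e t c) {z : X} {S U₁ U₂ : Subgroup X} (hE : FEd z S U₁ U₂)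
    (hU : CU e t B S) {y : G} (hy : y ∈ B) (yy : Inv2 y) : Cz (y * t) ≤ MM t B := by
  have w := g.toCW
  have y2 : Is2 y := is2_of_sq yy.1
  have y0 : Inv2 (c.pi y) := ⟨by rw [← c.pi_mul _ hy _ hy, yy.1, c.pi_one],
    fun h => yy.2 (c.eq_one_of_is2 hy y2 h)⟩
  have d4 : Is2 (y * t) := Is2.of_pow (k := 1) (by
    rw [pow_one, pow_two, show y * t * (y * t) = y * (t * y * t⁻¹) by rw [w.ti]; group]
    exact y2.mul (y2.conj t) (w.cm12 hy (conj_mem_cjs.2 hy)))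
  have di : t * (y * t) * t⁻¹ = (y * t)⁻¹ := by
    rw [mul_inv_rev, w.ti, inv_eq_of_mul_eq_one_right yy.1, mul_assoc, mul_assoc, w.tt, mul_one]
  have dM : y * t ∈ MM t B := mul_mem (w.M0_le (w.B_le hy)) w.t_mem
  have hN : ∀ x ∈ Cz (c.pi y), e x ∈ Ns (zpowers (y * t)) := fun x hx =>
    Cs_le_Ns _ (mem_Cs_zpowers.2 (by
      rw [mul_assoc, w.b1.comm, ← mul_assoc, ← c.comm_of_ac (w.e_M0 x).1 hy y2 (by
        rw [w.ac_e, MulAut.conj_apply, ← mem_Cz.1 hx, mul_inv_cancel_right]), mul_assoc]))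
  intro m hm
  refine key hF g hU (zpowers (y * t)) d4.zpowers (H98.mem_normalizer_of_cj_le ?_) (zpowers_le.2 dM)
    {v | v ∈ Cz (c.pi y) ∧ v * v = 1} (fun v hv => ⟨hv.2, hN v hv.1⟩) (hE.ya _ y0) (fun m hm mM => ?_)
    hN (fun m hm m0 x hx => ?_) (hF.odd _ y0) (mem_Cs_zpowers.2 (mem_Cz.1 hm))
  · rw [cj_zp', di, zpowers_inv]
  · by_cases h1 : m ∈ Ns B
    · rw [(fix_d w (w.mem_M0 mM h1) hy y2 (mem_Cs_zpowers.1 hm)).2.2]; exact one_mem _
    · have h2 := (fix_d w (w.mul_mem_M0 mM dM h1 fun k => w.ne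
        ((mul_mem_cancel_left (le_normalizer hy)).1 k)) hy y2
        (mem_Cs_zpowers.1 (mul_mem hm (mem_Cs_zpowers.2 rfl)))).2.2
      have h3 : cm (y * t) t ∈ zpowers (y * t) := by
        rw [show cm (y * t) t = y * t * (t * (y * t) * t⁻¹)⁻¹ by unfold cm; group, di]
        exact mul_mem (mem_zpowers _) (inv_mem (inv_mem (mem_zpowers _)))
      rw [show cm (m * (y * t)) t = m * cm (y * t) t * m⁻¹ * cm m t by unfold cm; group,
        mul_eq_one_iff_inv_eq] at h2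
      rw [← h2]
      exact inv_mem (H98.conj_mem_of_mem_normalizer (Cs_le_Ns _ hm) h3)
  · obtain ⟨h1, h2, -⟩ := fix_d w m0 hy y2 (mem_Cs_zpowers.1 hm)
    have h3 : MulAut.conj x (c.pi y) = c.pi y := by
      rcases hx with hx | hx <;> rw [← hx]
      · exact c.ac_of_comm m0.1 hy h1
      · simpa [Cov.cj_pi, mul_assoc] using (c.cj t).ac_of_comm m0.2 (conj_mem_cjs.2 hy) h2
    exact mem_Cz.2 (mul_inv_eq_iff_eq_mul.1 h3).symm

theorem partB (hF : F0 X) (g : GW e t c) {z : X} {S U₁ U₂ : Subgroup X} (hE : FEd z S U₁ U₂)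
    (hU : CU e t B S) {y : G} (hy : y ∈ Up c U₂) :
    Cs (U12 c t (sqs U₂) ⊔ zpowers (y⁻¹ * t)) ≤ MM t B := by
  have w := g.toCW
  have p2 : IsPGroup 2 U₂ := hE.two.to_le hE.lk2.le
  have pq : IsPGroup 2 (sqs U₂) := p2.to_le (sqs_le _)
  obtain ⟨yB, y2, y0⟩ := (mem_Up p2).1 hy
  have iB := inv_mem yB
  have d2 : Is2 (y⁻¹ * t) := Is2.of_pow (k := 1) (by
    rw [pow_one, pow_two, show y⁻¹ * t * (y⁻¹ * t) = y⁻¹ * (t * y⁻¹ * t⁻¹) by rw [w.ti]; group]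
    exact y2.inv.mul (y2.inv.conj t) (w.cm12 iB (conj_mem_cjs.2 iB)))
  have tW := w.t_mem_Ns_U12 (sqs U₂)
  have dW : y⁻¹ * t ∈ Ns (U12 c t (sqs U₂)) := mul_mem (inv_mem (H98.le_normalizer_sup
    (by rw [← sqs_Up p2]; exact le_normalizer.trans (Ns_le_Ns_sqs _))
    (((Up_le c U₂).trans (w.comm.trans (centralizer_le (map_mono (Up_le c _))))).trans (Cs_le_Ns _))
    hy)) tW
  have dD := mem_sup_right (S := U12 c t (sqs U₂)) (mem_zpowers (y⁻¹ * t))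
  have nor : ∀ a ∈ Ns (U12 c t (sqs U₂)), a * (y⁻¹ * t) * a⁻¹ ∈ U12 c t (sqs U₂) ⊔ zpowers (y⁻¹ * t) →
      a ∈ Ns (U12 c t (sqs U₂) ⊔ zpowers (y⁻¹ * t)) := fun a h1 h2 =>
    H98.mem_normalizer_of_cj_le (by
      rw [H98.cj_sup, H98.cj_eq_self_iff.2 h1, cj_zp']
      exact sup_le le_sup_left (zpowers_le.2 h2))
  have hV : ∀ v ∈ Ns (sqs U₂), cm v (c.pi y) ∈ sqs U₂ →
      e v ∈ Ns (U12 c t (sqs U₂) ⊔ zpowers (y⁻¹ * t)) := fun v v1 v2 => by
    refine nor _ (H98.le_normalizer_sup (zpowers_le.2 (w.e_mem_Ns_Up v1))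
      (zpowers_le.2 (cj_Up (c := c) t ▸ w.symm.e_mem_Ns_Up v1)) (mem_zpowers _)) ?_
    have a1 := H98.conj_mem_of_mem_normalizer (w.e_M0 v).1 yB
    have a2 : c.pi (e v * y * (e v)⁻¹) = cm v (c.pi y) * c.pi y := by
      rw [c.ac_pi _ (w.e_M0 v).1 _ yB, w.ac_e, cm, inv_mul_cancel_right]; rfl
    have a3 := mul_mem (inv_mem (mem_Up_of a1 (y2.conj _) (a2 ▸ mul_mem (sqs_le _ v2) y0))) hy
    obtain ⟨b1, b2, -⟩ := (mem_Up p2).1 a3
    rw [show e v * (y⁻¹ * t) * (e v)⁻¹ = (e v * y * (e v)⁻¹)⁻¹ * y * (y⁻¹ * (e v * t * (e v)⁻¹)) by group,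
      w.b1.conj_t]
    refine mul_mem (mem_sup_left (mem_sup_left (mem_Up_of b1 b2 ?_))) dD
    rw [c.pi_mul _ (inv_mem a1) _ yB, c.pi_inv a1, a2, mul_inv_rev]
    simpa using H98.conj_mem_of_mem_normalizer (Ns_le_Ns_sqs _ (le_normalizer (inv_mem y0))) (inv_mem v2)
  refine key hF g hU _ ((w.isPGroup_U12 pq).to_sup_of_normal_left' d2.zpowers (zpowers_le.2 dW))
    (nor t tW ?_) (sup_le ((sup_le_sup (Up_le c _) (map_mono (Up_le c _))).trans le_normalizer)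
      (zpowers_le.2 (mul_mem (w.M0_le (w.B_le iB)) w.t_mem))) _ (fun v hv => ⟨hv.1, hV v hv.2.1 hv.2.2⟩)
    (hE.yb _ y0) (fun m hm mM => ?_) (N := Sy (sqs U₂) (c.pi y))
    ((closure_le ((Ns _).comap e)).2 fun v hv => hV v hv.2.1 hv.2.2) (fun m hm m0 x hx => ?_) (hE.zo _ y0)
  · rw [show t * (y⁻¹ * t) * t⁻¹ = (t * (y * y) * t⁻¹)⁻¹ * ((t * t) * (y⁻¹ * t)⁻¹) by group, w.tt, one_mul]
    exact mul_mem (inv_mem (mem_sup_left (mem_sup_right (conj_mem_cjs.2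
      (sqs_Up (c := c) p2 ▸ sq_mem_sqs hy))))) (inv_mem dD)
  · obtain ⟨l, hl, l1⟩ := (nontrivial_iff_exists_ne_one (Up c (sqs U₂))).1
      (Finite.one_lt_card_iff_nontrivial.1 (by rw [card_Up pq]; have := hE.big; omega))
    obtain ⟨lB, l2, -⟩ := (mem_Up pq).1 hl
    rw [(fix_d w (w.mem_M0_of mM lB l2 l1 (by
      rwa [← hm _ (mem_sup_left (mem_sup_left hl)), mul_inv_cancel_right])) iB y2.inv (hm _ dD)).2.2]
    exact one_mem _
  · have h3 : sqs U₂ ≤ fx (MulAut.conj x) := by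
      rcases hx with hx | hx <;> rw [← hx]
      · exact CW.le_fx pq m0.1 (H98.centralizer_anti (le_sup_left.trans le_sup_left) hm)
      · exact CW.le_fx pq m0.2 (by
          rw [cj_Up]; exact H98.centralizer_anti (le_sup_right.trans le_sup_left) hm)
    exact fun a ha => (mul_inv_eq_iff_eq_mul.1 (h3 ha)).symm

theorem jobW3 : H25.ST.JobW3.{u} := fun _ _ _ _ _ _ _ hF _ _ _ _ _ _ hE g hU =>
  ⟨fun _ => partA hF g hE hU, fun _ => partB hF g hE hU⟩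

end H81.ST3
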