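import Cfsg.Agent.H81.STHeE
import Cfsg.Agent.H38.HeE4
import Cfsg.Agent.H88.HeIso
import Cfsg.Agent.H49.CenCore

/-! STD-S: the endgame facts `FE` for the Held group. -/

set_option autoImplicit false
set_option maxRecDepth 100000
set_option Elab.async false

namespace H81.HeE

open H38.He H49 H71 H25.ST H64.SG Subgroup

theorem tw_of_sat {G : Type*} [Group G] {j : X →* G} {t s : G} (h : Sat 0 8 RH (vG j t s)) :
    TW j t := by
  have tt : t * t = 1 := mul_eq_one_iff_eq_inv.2 (h.hv 6)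
  have k : ∀ (w1 w3 : List ℕ) (l : ℕ) (x y : X), (w1 ++ 6 :: (l :: 6 :: w3) ∈ RH ∧
      (∀ i ∈ w1, i < 6) ∧ (∀ i ∈ w3, i < 6) ∧ l < 6 ∧ vX l = x ∧ evw vX w3 * evw vX w1 * y = 1) →
      t * j x * t⁻¹ = j y := by
    rintro w1 w3 l _ y ⟨h0, h1, h3, h2, rfl, e⟩
    have r := h.hR _ h0
    rw [evw_append, evw_cons, evw_cons, evw_cons, evw_vG h1, evw_vG h3, vG_lt h2] at r
    rw [inv_eq_of_mul_eq_one_right tt, eq_inv_of_mul_eq_one_right e, map_inv, map_mul]
    calc _ = (j (evw vX w1))⁻¹ * (j (evw vX w1) * (t * (j (vX l) * (t * j (evw vX w3))))) *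
          (j (evw vX w3))⁻¹ := by group
      _ = _ := by rw [show j (evw vX w1) * (t * (j (vX l) * (t * j (evw vX w3)))) = 1 from r]; group
  have kc := k [2, 3, 2, 3] [] 2 xc x35 (by decide +kernel)
  refine ⟨tt, .cons (k [0, 1, 0, 1, 3, 2, 1, 0, 1, 3] [] 0 _ _ (by decide +kernel))
    (.cons (k [0, 1, 2, 3, 1, 0] [3, 2, 1] 1 _ _ (by decide +kernel))
    (.cons (k [0, 3, 4, 2, 4, 0, 4, 2, 3] [] 4 _ _ (by decide +kernel)) (.cons kc (.cons ?_ .nil)))), ?_⟩
  · rw [← kc, show t * (t * j xc * t⁻¹) * t⁻¹ = (t * t) * j xc * (t * t)⁻¹ by group, tt]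
    group
  · have r : j xd * (t * (j xd * (t * (j xd * (t * 1))))) = 1 :=
      h.hR [3, 6, 3, 6, 3, 6] (by decide +kernel)
    calc _ = t * (j xd * (t * (j xd * (t * (j xd * (t * 1)))))) * t⁻¹ := by rw [pow_three]; group
      _ = 1 := by rw [r]; group

/-- The model of the Held group. -/
theorem model : ∃ (j : X →* Cfsg.Spor.He) (t : Cfsg.Spor.He), H38.He.Ctx j ∧ I (j xz) ∧ TW j t ∧
    ∀ H : Subgroup Cfsg.Spor.He, (∀ x, j x ∈ H) → t ∈ H → H = ⊤ := by
  have := H71.He.simple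
  have hc := H71.He.card
  have : Finite Cfsg.Spor.He := Nat.finite_of_card_ne_zero (by rw [hc]; norm_num)
  obtain ⟨z, hz, ⟨e⟩⟩ := H88.HeLoc.cent_iso ⟨Matrix.transvection 0 1 1,
    Matrix.det_transvection_of_ne 0 1 (by decide) 1⟩ rfl
  obtain ⟨j₀, h₀, rfl⟩ := ctx_of_equiv rfl (fun r => by rw [r, orderOf_one] at hz; omega) e
  obtain ⟨g, h1, h2⟩ := exists_conj_comm_of_simple hz (by rw [hc]; norm_num)
  obtain ⟨j, t, s, h, o⟩ := h₀.main h1 h2
  have no : ∀ {L : List ℕ} {n : ℕ}, Bd (vG j t s) L n → gen (vG j t s) L = ⊤ → 4030387200 ≤ n :=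
    fun hb ht => by have := hb.2; rwa [ht, card_top, hc] at this
  rcases o with ⟨r, e⟩ | ⟨r, e⟩ | ⟨r | r, e⟩
  · exact absurd (no (bA r) e) (by norm_num)
  · exact absurd (no (bL r) e) (by norm_num)
  · exact absurd (no (bM r) e) (by norm_num)
  refine ⟨j, t, h, ⟨⟨by rw [← map_mul, LS_sq xz (by simp), map_one],
    fun k => absurd (h.inj (k.trans (map_one j).symm)) (by decide +kernel)⟩, ?_⟩, tw_of_sat r,
    fun H h1 h2 => eq_top_iff.2 (e.ge.trans (gen_le fun l hl => ?_))⟩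
  · have e1 : Cz (j xz) = j.range := le_antisymm
      (fun g hg => h.cen g (mem_centralizer_singleton_iff.1 hg)) (by
        rintro _ ⟨x, rfl⟩
        rw [mem_centralizer_singleton_iff, ← map_mul, z_comm, map_mul])
    have e2 := card_mul_index j.range
    rw [← Nat.card_congr (MonoidHom.ofInjective h.inj).toEquiv, card_X, hc] at e2
    rw [e1, show j.range.index = 187425 by omega]
    decide
  · simp only [List.mem_cons, List.not_mem_nil, or_false] at hl
    rcases hl with rfl | rfl | rfl | rfl | rfl | rfl | rfl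
    exacts [h1 _, h1 _, h1 _, h1 _, h1 _, h1 _, h2]

/-- `FE He` from `F0 He` and lemma B. -/
theorem fe (hF : F0 Cfsg.Spor.He) (hB : LB Cfsg.Spor.He) : FE Cfsg.Spor.He := by
  obtain ⟨j, t, h, hI, ht, hg⟩ := model
  exact ⟨_, _, _, _, fed h hF hB hI ht hg⟩

end H81.HeE
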