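import Cfsg.Agent.H26.DP0ASpec
import Cfsg.Agent.H98.DP0CSpec
import Cfsg.Agent.H14.PElem

/-! # S3275, chapter U0, section A: passage to `M / O_{3'}(M)` (job LF). -/

set_option autoImplicit false

namespace H81.DP0LF

open Subgroup Cfsg H98 H48.DP H57.DPC H48.DP2 H26.DA

universe u

variable {G : Type u} [Group G] [Finite G]

/-- a 3-element of `O_{3'}` is trivial. -/
theorem triv {X : Type u} [Group X] [Finite X] {x : X} (hx : x ∈ pPrimeCore 3 X) {k : ℕ}
    (hk : x ^ 3 ^ k = 1) : x = 1 := by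
  have h1 := H2.coprime_orderOf_of_mem_pPrimeCore hx
  have h2 : orderOf x ∣ 3 ^ k := orderOf_dvd_of_pow_eq_one hk
  exact orderOf_eq_one_iff.1 (Nat.Coprime.eq_one_of_dvd (h1.pow_right k) h2)

theorem ord3 {M : Subgroup G} {y : M} (h : orderOf (y : G) = 3) : orderOf (pm M y) = 3 := by
  have : Fact (Nat.Prime 3) := ⟨Nat.prime_three⟩
  have h3 : y ^ 3 = 1 := Subtype.ext (by
    rw [SubmonoidClass.coe_pow, ← h, pow_orderOf_eq_one]; rfl)
  refine orderOf_eq_prime (by rw [← map_pow, h3, map_one]) fun e => ?_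
  have : y = 1 := triv ((QuotientGroup.eq_one_iff y).1 e) (k := 1) (by simpa using h3)
  rw [this] at h
  simp at h

/-- an element whose image has cube `1` can be replaced by a power of 3-power order. -/
theorem lift3 {X Y : Type u} [Group X] [Finite X] [Group Y] (f : X →* Y) (x : X)
    (h : f x ^ 3 = 1) : ∃ w ∈ zpowers x, f w = f x ∧ ∃ k : ℕ, w ^ 3 ^ k = 1 := by
  obtain ⟨k, m, hm, e⟩ := Nat.exists_eq_pow_mul_and_not_dvd (orderOf_pos x).ne' 3 (by norm_num)
  refine ⟨x ^ (m * m), pow_mem (mem_zpowers x) _, ?_, k, ?_⟩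
  · have : m * m % 3 = 1 := by
      have : m % 3 = 1 ∨ m % 3 = 2 := by omega
      rcases this with a | a <;> simp [Nat.mul_mod, a]
    rw [map_pow, ← Nat.div_add_mod (m * m) 3, this, pow_add, pow_mul, h, one_pow, one_mul, pow_one]
  · rw [← pow_mul, show m * m * 3 ^ k = 3 ^ k * m * m by ring, ← e, pow_mul, pow_orderOf_eq_one,
      one_pow]

theorem jobLF : H26.DA.JobLF.{u} := by
  intro str G _ _ M Q P y z h PM yP zP cz y3 z3 yz nU
  have : Fact (Nat.Prime 3) := ⟨Nat.prime_three⟩
  have hM : M ≠ ⊤ := h.no ▸ H98.DP0C.no_ne_top h.toHyp (p := 2) (by rw [← h.o2]; exact isPGroup_pCoreOf M) h.nt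
  have surj : Function.Surjective (pm M) := QuotientGroup.mk'_surjective _
  have cyz : Commute (y : G) z := (mem_centralizer_singleton_iff.1 (cz yP))
  have y1 : (y : G) ^ 3 = 1 := y3 ▸ pow_orderOf_eq_one _
  have z1 : (z : G) ^ 3 = 1 := z3 ▸ pow_orderOf_eq_one _
  refine ⟨str G h.toHyp M _ hM ?_, ?_, mem_map_of_mem _ yP, mem_map_of_mem _ zP, ?_, ord3 y3,
    ord3 z3, fun w w3 wy wz => ?_, ?_⟩
  · rw [O2, pCoreOf_top, eq_bot_iff, ← H2.pPrimeCore_quotient_pPrimeCore 3 M]
    exact H2.pCore_le_pPrimeCore_of_coprime (by norm_num)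
  · have := (isSyl_sylow_of_le P PM).subgroupOf_top.map (pm M)
    rwa [map_top_of_surjective _ surj] at this
  · rintro _ ⟨x, hx, rfl⟩
    refine mem_centralizer_singleton_iff.2 ?_
    rw [← map_mul, ← map_mul]
    exact congrArg _ (Subtype.ext (mem_centralizer_singleton_iff.1 (cz hx)))
  · have hE : IsPGroup 3 ↥(zpowers y ⊔ zpowers z) :=
      (P.isPGroup'.comap_subtype (K := M)).to_le
        (sup_le (zpowers_le.2 yP) (zpowers_le.2 zP))
    have hc := H14.map_centralizer_of_coprime_ker (p := 3) (pm M) surj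
      (by rw [QuotientGroup.ker_mk']; exact H2.coprime_card_pPrimeCore 3 M) hE
    have hm : (zpowers y ⊔ zpowers z).map (pm M) = zpowers (pm M y) ⊔ zpowers (pm M z) := by
      rw [Subgroup.map_sup, MonoidHom.map_zpowers, MonoidHom.map_zpowers]
    have hw : w ∈ centralizer (((zpowers y ⊔ zpowers z).map (pm M) : Subgroup _) : Set _) := by
      rw [hm]
      have : zpowers (pm M y) ⊔ zpowers (pm M z) ≤ centralizer {w} :=
        sup_le (zpowers_le.2 (mem_centralizer_singleton_iff.2 wy.symm))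
          (zpowers_le.2 (mem_centralizer_singleton_iff.2 wz.symm))
      exact fun a ha => mem_centralizer_singleton_iff.1 (this ha)
    rw [← hc] at hw
    obtain ⟨x, hx, rfl⟩ := hw
    obtain ⟨v, hv, e, k, hk⟩ := lift3 (pm M) x w3
    have vc : v ∈ centralizer ((zpowers y ⊔ zpowers z : Subgroup M) : Set M) := zpowers_le.2 hx hv
    have v3 : v ^ 3 = 1 := by
      refine triv (k := k) ((QuotientGroup.eq_one_iff _).1 ?_) ?_
      · change pm M (v ^ 3) = 1
        rw [map_pow, e, w3]
      · rw [← pow_mul, mul_comm, pow_mul, hk, one_pow]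
    have hm' : (zpowers y ⊔ zpowers z).map M.subtype = zpowers (y : G) ⊔ zpowers (z : G) := by
      rw [Subgroup.map_sup, MonoidHom.map_zpowers, MonoidHom.map_zpowers]; rfl
    rw [← e, ← hm]
    refine mem_map_of_mem _ (by_contra fun vn => nU ?_)
    have t := H3.isElementaryAbelian_sup_zpowers cyz y1 z1
    have t3 := H13.isEA_sup_zpowers (x := (v : G)) t
      (by rw [← SubmonoidClass.coe_pow, v3]; rfl) (by
        rw [← hm']
        rintro _ ⟨a, ha, rfl⟩
        exact congrArg Subtype.val (vc a ha))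
    have c2 := H51.elem_card_sup Nat.prime_three t le_sup_right
      (mem_sup_left (mem_zpowers (y : G))) yz
    have c3 := H51.elem_card_sup Nat.prime_three t3 le_sup_left
      (mem_sup_right (mem_zpowers (v : G))) (by
        rw [← hm']
        rintro ⟨a, ha, ea⟩
        exact vn (Subtype.ext ea ▸ ha))
    refine ⟨_, ?_, ⟨t3, ?_⟩, le_sup_left⟩
    · exact sup_le (sup_le (zpowers_le.2 y.2) (zpowers_le.2 z.2)) (zpowers_le.2 v.2)
    · rw [c3, sup_comm, c2, Nat.card_zpowers, z3]
  · obtain ⟨B, BM, hB, c⟩ := h.e27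
    refine ⟨(B.subgroupOf M).map (pm M), ⟨⟨⟨?_⟩⟩, ?_⟩, ?_⟩
    · rintro ⟨_, a, ha, rfl⟩ ⟨_, b, hb, rfl⟩
      refine Subtype.ext ?_
      change pm M a * pm M b = pm M b * pm M a
      rw [← map_mul, ← map_mul]
      refine congrArg _ (Subtype.ext ?_)
      exact congrArg (fun t : B => (t : G)) (hB.1.1.1 (⟨a, ha⟩ : B) ⟨b, hb⟩)
    · rintro _ ⟨a, ha, rfl⟩
      rw [← map_pow, show a ^ 3 = 1 from Subtype.ext (hB.2 a ha), map_one]
    · have inj : Function.Injective ((pm M).subgroupMap (B.subgroupOf M)) := by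
        refine (injective_iff_map_eq_one _).2 fun a ha => Subtype.ext ?_
        refine triv (k := 1) ((QuotientGroup.eq_one_iff _).1 (congrArg Subtype.val ha)) ?_
        exact Subtype.ext (by simpa using hB.2 _ a.2)
      refine c.trans ((Nat.card_congr (subgroupOfEquivOfLe BM).toEquiv).symm.le.trans ?_)
      exact Nat.card_le_card_of_injective _ inj

end H81.DP0LF
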