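/- S3101, chapter REC, job M6: a double cover of `L₄(q)` or `U₄(q)` of 2-rank at least five. -/
import Cfsg.Agent.H27.R7Spec
import Cfsg.Agent.H21.Multiplier
import Cfsg.Agent.H86.CFRank
import Cfsg.Agent.H59.SU
import Cfsg.Agent.H57.SLCard
import Cfsg.Agent.H57.SLGen
import Cfsg.Agent.H56.OrthStd
import Cfsg.Agent.S2086
import Cfsg.Agent.S2089
import Cfsg.Agent.S2090
import Cfsg.Agent.S0302
import Cfsg.Agent.S0303

set_option autoImplicit false

namespace H81.R7M
open Subgroup Cfsg H98 H1.Gold H56 H58 H12.OW Module QuadraticMap H27.R7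
open scoped MatrixGroups

universe u

section pull
variable {P Y M X : Type*} [Group P] [Group Y] [Group M] [Group X]

/-- A perfect double cover. -/
def DC (a : Y →* X) : Prop :=
  Function.Surjective a ∧ commutator Y = ⊤ ∧
    ∃ z : Y, z ≠ 1 ∧ z ∈ center Y ∧ ∀ y, a y = 1 ↔ y = 1 ∨ y = z

/-- The squares have index at most two. -/
def Cy (A : Type*) [CommGroup A] : Prop := ∃ g : A, ∀ a : A, ∃ b, a = b * b ∨ a = g * (b * b)

theorem DC.ker {a : Y →* X} (h : DC a) {y : Y} (hy : a y = 1) : y ∈ center Y ∧ y * y = 1 := by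
  obtain ⟨-, -, z, h1, h2, h3⟩ := h
  rcases (h3 y).1 hy with rfl | rfl
  · exact ⟨one_mem _, mul_one _⟩
  · refine ⟨h2, ((h3 _).1 (by rw [map_mul, hy, mul_one])).resolve_right fun h => h1 ?_⟩
    simpa using h

theorem DC.card [Finite Y] {a : Y →* X} (h : DC a) : Nat.card Y = 2 * Nat.card X := by
  obtain ⟨hs, -, z, h1, h2, h3⟩ := h
  have e := Nat.card_congr (QuotientGroup.quotientKerEquivOfSurjective a hs).toEquiv
  rw [card_eq_card_quotient_mul_card_subgroup a.ker, e, mul_comm]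
  congr 1
  rw [Nat.card_eq_two_iff' (1 : a.ker)]
  refine ⟨⟨z, (h3 z).2 (Or.inr rfl)⟩, fun h => h1 (congrArg Subtype.val h), fun y hy => ?_⟩
  exact Subtype.ext (((h3 y).1 y.2).resolve_left fun h => hy (Subtype.ext h))

theorem DC.comp {X' : Type*} [Group X'] {a : Y →* X} (h : DC a) (e : X ≃* X') :
    DC (e.toMonoidHom.comp a) := by
  obtain ⟨hs, hp, z, h1, h2, h3⟩ := h
  exact ⟨e.surjective.comp hs, hp, z, h1, h2, fun y => by simpa using h3 y⟩

theorem dc_center (hp : commutator Y = ⊤) (hc : Nat.card (center Y) = 2) :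
    DC (QuotientGroup.mk' (center Y)) := by
  obtain ⟨z, hz, hu⟩ := (Nat.card_eq_two_iff' (1 : center Y)).1 hc
  refine ⟨QuotientGroup.mk'_surjective _, hp, z, fun h => hz (Subtype.ext h), z.2, fun y => ?_⟩
  rw [QuotientGroup.mk'_apply, QuotientGroup.eq_one_iff]
  refine ⟨fun hy => ?_, ?_⟩
  · by_cases h1 : y = 1
    · exact Or.inl h1
    · exact Or.inr (congrArg Subtype.val (hu ⟨y, hy⟩ fun h => h1 (congrArg Subtype.val h)))
  · rintro (rfl | rfl)
    exacts [one_mem _, z.2]

theorem half (f : P →* Y) {a : Y →* X} (hf : Function.Surjective f) (ha : DC a) (w : P)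
    (hw : ∀ x ∈ commutator P, a (f x) = 1 → x = 1 ∨ x = w) : Nonempty (commutator P ≃* Y) := by
  obtain ⟨-, hp, z, h1, -, h3⟩ := ha
  have hs : ∀ y, ∃ x ∈ commutator P, f x = y := fun y => by
    have : y ∈ (commutator P).map f := by
      rw [commutator_def, Subgroup.map_commutator, ← MonoidHom.range_eq_map,
        MonoidHom.range_eq_top.2 hf, ← commutator_def, hp]
      trivial
    exact this
  refine ⟨MulEquiv.ofBijective (f.comp (commutator P).subtype)
    ⟨(injective_iff_map_eq_one _).2 fun x hx => ?_, fun y => ?_⟩⟩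
  · have hx' : f x = 1 := hx
    obtain ⟨v, hv, hz⟩ := hs z
    rcases hw x x.2 (by rw [hx', map_one]) with h | h
    · exact Subtype.ext h
    · rcases hw v hv (by rw [hz]; exact (h3 z).2 (Or.inr rfl)) with h' | h'
      · exact absurd (by rw [← hz, h', map_one]) h1
      · exact absurd (by rw [← hz, h', ← h, hx']) h1
  · obtain ⟨x, hx, h⟩ := hs y
    exact ⟨⟨x, hx⟩, h⟩

/-- Two perfect double covers are isomorphic if the multiplier has cyclic Sylow 2-subgroups. -/
theorem pull {A : Type*} [CommGroup A] (hA : HasSchurMultiplier X A) (hc : Cy A) {a : Y →* X}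
    {b : M →* X} (ha : DC a) (hb : DC b) : Nonempty (Y ≃* M) := by
  let R : Subgroup (Y × M) := (a.comp (MonoidHom.fst Y M)).eqLocus (b.comp (MonoidHom.snd Y M))
  let f : R →* Y := (MonoidHom.fst Y M).comp R.subtype
  let g : R →* M := (MonoidHom.snd Y M).comp R.subtype
  have hfg : ∀ x : R, a (f x) = b (g x) := fun x => x.2
  have hf : Function.Surjective f := fun y => by
    obtain ⟨m, hm⟩ := hb.1 (a y)
    exact ⟨⟨(y, m), hm.symm⟩, rfl⟩
  have hg : Function.Surjective g := fun m => by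
    obtain ⟨y, hy⟩ := ha.1 (b m)
    exact ⟨⟨(y, m), hy⟩, rfl⟩
  have hk : ∀ x : R, a (f x) = 1 → x ∈ center R ∧ x * x = 1 := fun x hx => by
    obtain ⟨h1, h2⟩ := ha.ker hx
    obtain ⟨h3, h4⟩ := hb.ker ((hfg x).symm.trans hx)
    refine ⟨mem_center_iff.2 fun y => Subtype.ext (Prod.ext ?_ ?_), Subtype.ext (Prod.ext h2 h4)⟩
    exacts [mem_center_iff.1 h1 (f y), mem_center_iff.1 h3 (g y)]
  obtain ⟨θ, hθ⟩ := H21.multiplier_surj_central hA (a.comp f)
    ⟨ha.1.comp hf, fun x hx => (hk x hx).1⟩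
  obtain ⟨c, hc⟩ := hc
  have hw : ∀ x ∈ commutator R, a (f x) = 1 → x = 1 ∨ x = (θ c : R) := fun x hx h1 => by
    obtain ⟨s, hs⟩ := hθ ⟨x, h1, hx⟩
    obtain ⟨t, ht⟩ := hc s
    have h2 : θ (t * t) = 1 := by
      rw [map_mul]
      exact Subtype.ext (hk _ (θ t).2.1).2
    rcases ht with rfl | rfl
    · exact Or.inl (congrArg Subtype.val (hs.symm.trans h2))
    · rw [map_mul, h2, mul_one] at hs
      exact Or.inr (congrArg Subtype.val hs.symm)
  obtain ⟨e1⟩ := half f hf ha _ hw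
  obtain ⟨e2⟩ := half g hg hb _ fun x hx h => hw x hx ((hfg x).trans h)
  exact ⟨e1.symm.trans e2⟩

theorem cy_zmod (n : ℕ) : Cy (Multiplicative (ZMod n)) := by
  refine ⟨Multiplicative.ofAdd 1, fun a => ?_⟩
  obtain ⟨k, hk⟩ := ZMod.intCast_surjective (Multiplicative.toAdd a)
  refine ⟨Multiplicative.ofAdd ((k / 2 : ℤ) : ZMod n), ?_⟩
  rcases Int.emod_two_eq_zero_or_one k with h | h
  · refine Or.inl (Multiplicative.toAdd.injective ?_)
    rw [← hk, toAdd_mul, toAdd_ofAdd, ← Int.cast_add]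
    congr 1
    omega
  · refine Or.inr (Multiplicative.toAdd.injective ?_)
    rw [← hk, toAdd_mul, toAdd_mul, toAdd_ofAdd, toAdd_ofAdd, ← Int.cast_add, ← Int.cast_one,
      ← Int.cast_add]
    congr 1
    omega

theorem cy_433 : Cy (Multiplicative (ZMod 4 × ZMod 3 × ZMod 3)) :=
  ⟨Multiplicative.ofAdd (1, 0, 0), by decide⟩

end pull

/-- An elementary abelian 2-subgroup of `SL₄` has order at most eight. -/
theorem not_sl {K : Type} [Field K] (h2 : (2 : K) ≠ 0) {G : Type u} [Group G] [Finite G]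
    {M E : Subgroup G} (hE : E ≤ M) (he : ∀ e ∈ E, e * e = 1) (hc : 32 ≤ Nat.card E)
    (j : M →* SL(4, K)) (hj : Function.Injective j) : False := by
  have h1 : ∀ a : E, a * a = 1 := fun a => Subtype.ext (he a a.2)
  have := (H86.card_le_of_det (V := Fin 4 → K) h2 (by simp) (E := E)
    (fun a b => by
      have hi : ∀ c : E, c⁻¹ = c := fun c => inv_eq_of_mul_eq_one_right (h1 c)
      rw [← hi (a * b), mul_inv_rev, hi, hi])
    (fun a => by rw [pow_two, h1])
    ((Matrix.SpecialLinearGroup.toLin'.comp j).comp (inclusion hE))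
    ((Matrix.SpecialLinearGroup.toLin'_injective.comp hj).comp (inclusion_injective hE))
    (fun e => by
      simp only [MonoidHom.comp_apply]
      rw [Matrix.SpecialLinearGroup.toLin'_to_linearMap, LinearMap.det_toLin']
      exact Matrix.SpecialLinearGroup.det_coe _)).1
  simp at this
  omega

theorem num_L {q N : ℕ} (hq : q % 8 = 1) (h1 : 1 < q)
    (h : Nat.gcd 4 (q - 1) * ((q - 1) * N) = ∏ i : Fin 4, (q ^ 4 - q ^ (i : ℕ))) : 2 ^ 8 ∣ N := by
  obtain ⟨k, rfl⟩ : ∃ k, q = 8 * k + 1 := ⟨q / 8, by omega⟩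
  have hk : (k : ℤ) ≠ 0 := by omega
  have hg : Nat.gcd 4 (8 * k + 1 - 1) = 4 := Nat.gcd_eq_left ⟨2 * k, by omega⟩
  rw [hg, Fin.prod_univ_four] at h
  have hp : ∀ i : Fin 4, (8 * k + 1) ^ (i : ℕ) ≤ (8 * k + 1) ^ 4 := fun i =>
    Nat.pow_le_pow_right (by omega) i.2.le
  zify [hp] at h
  have : (N : ℤ) = 2 ^ 8 * (4 * k ^ 3 * (8 * k + 1) ^ 6 * (4 * k + 1) ^ 2 *
      (32 * k ^ 2 + 8 * k + 1) * (64 * k ^ 2 + 24 * k + 3)) := by
    apply mul_left_cancel₀ (a := 32 * (k : ℤ)) (by omega)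
    simp only [Nat.add_sub_cancel, Fin.val_zero, Fin.val_one, Fin.val_two] at h
    rw [show ((3 : Fin 4) : ℕ) = 3 from rfl] at h
    push_cast at h
    linear_combination h
  exact Int.natCast_dvd_natCast.1 ⟨_, by push_cast; exact this⟩

theorem num_U {q N : ℕ} (hq : q % 8 = 7)
    (h : Nat.gcd 4 (q + 1) * ((q + 1) * N) = q ^ (4 * (4 - 1) / 2) *
      ∏ i ∈ Finset.range 4, (if Even i then q ^ (i + 1) + 1 else q ^ (i + 1) - 1)) : 2 ^ 8 ∣ N := by
  obtain ⟨k, rfl⟩ : ∃ k, q = 8 * k + 7 := ⟨q / 8, by omega⟩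
  have hg : Nat.gcd 4 (8 * k + 7 + 1) = 4 := Nat.gcd_eq_left ⟨2 * k + 2, by omega⟩
  rw [hg] at h
  simp only [Finset.prod_range_succ, Finset.prod_range_zero] at h
  rw [if_pos (by decide), if_neg (by decide), if_pos (by decide), if_neg (by decide)] at h
  have hp : ∀ i : ℕ, 1 ≤ (8 * k + 7) ^ i := fun i => Nat.one_le_pow _ _ (by omega)
  zify [hp] at h
  have : (N : ℤ) = 2 ^ 8 * (4 * (k + 1) ^ 3 * (8 * k + 7) ^ 6 * (4 * k + 3) ^ 2 *
      (32 * k ^ 2 + 56 * k + 25) * (64 * k ^ 2 + 104 * k + 43)) := by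
    apply mul_left_cancel₀ (a := 32 * ((k : ℤ) + 1)) (by omega)
    linear_combination h
  exact Int.natCast_dvd_natCast.1 ⟨_, by push_cast; exact this⟩

theorem exists_field {K : Type} [Field K] [Fintype K] {r : ℕ} (h : Fintype.card K = r ^ 2) :
    ∃ (F : Type) (_ : Field F) (_ : Fintype F), Fintype.card F = r := by
  obtain ⟨p, hp⟩ := CharP.exists K
  obtain ⟨n, hp', hn⟩ := FiniteField.card K p
  obtain ⟨m, -, rfl⟩ := (Nat.dvd_prime_pow hp').1
    (show r ∣ p ^ (n : ℕ) from hn ▸ h ▸ Dvd.intro_left r (sq r).symm)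
  have hm : m ≠ 0 := by
    rintro rfl
    have := Fintype.one_lt_card (α := K)
    simp at h
    omega
  have := Fact.mk hp'
  let _ : Fintype (GaloisField p m) := Fintype.ofFinite _
  exact ⟨GaloisField p m, inferInstance, inferInstance, by
    rw [← Nat.card_eq_fintype_card, GaloisField.card p m hm]⟩

section Om
variable {F V : Type} [Field F] [Fintype F] [AddCommGroup V] [Module F V] [FiniteDimensional F V]
  {Q : QuadraticForm F V}

theorem dc_Om (hodd : Odd (Fintype.card F)) (hQ : Q.polarBilin.Nondegenerate)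
    (h6 : finrank F V = 6) (hn : O.negOne Q ∈ Om Q) : DC (QuotientGroup.mk' (center (Om Q))) := by
  refine dc_center ?_ ?_
  · apply map_injective (Om Q).subtype_injective
    rw [commutator_def, Subgroup.map_commutator, ← MonoidHom.range_eq_map, range_subtype]
    exact commutator_perfect_of_five_le hQ (by omega)
  · rw [card_center_commutator hQ (not_isExc_of_finrank (by omega)) (by omega),
      if_pos ⟨two_ne_zero_of_odd_card hodd, hn⟩]

omit [Fintype F] [FiniteDimensional F V] in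
theorem transport {W : Type} [AddCommGroup W] [Module F W] {Q₀ : QuadraticForm F W}
    (g : W ≃ₗ[F] V) (hg : ∀ x, Q (g x) = Q₀ x) (hn : O.negOne Q ∈ Om Q) :
    O.negOne Q₀ ∈ Om Q₀ ∧ Nonempty (POm Q ≃* POm Q₀) := by
  have hs : IsSemisim Q₀ Q g.toAddEquiv (RingEquiv.refl F) 1 :=
    ⟨one_ne_zero, fun a v => map_smul g a v, fun v => by simpa using hg v⟩
  exact ⟨hs.conj_mem_commutator.1 (by rw [hs.conj_negOne]; exact hn), ⟨hs.pconj.symm⟩⟩

theorem pom_plus (h4 : Fintype.card F % 4 = 1) (hQ : Q.polarBilin.Nondegenerate)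
    (h6 : finrank F V = 6) (hn : O.negOne Q ∈ Om Q) : Nonempty (POm Q ≃* PSL(4, F)) := by
  have hodd : Odd (Fintype.card F) := Nat.odd_iff.2 (by omega)
  obtain ⟨a, b, hab⟩ := exists_aniso_pair F
  rcases equiv_plus_or_minus_succ hQ (m := 2) h6 hab with ⟨g, hg⟩ | ⟨g, hg⟩
  · obtain ⟨-, ⟨e⟩⟩ := transport g hg hn
    obtain ⟨e'⟩ := Cfsg.Agent.S0302.result (F := F)
    exact ⟨e.trans ((pOmegaEquiv _ (coe_qPlus 3 F)).symm.trans e')⟩
  · have := (negOne_mem_commutator_qMinus hodd 2 hab).1 (transport g hg hn).1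
    rw [Nat.pow_mod, h4] at this
    simp at this

theorem pom_minus (h4 : Fintype.card F % 4 = 3) (hQ : Q.polarBilin.Nondegenerate)
    (h6 : finrank F V = 6) (hn : O.negOne Q ∈ Om Q) {K : Type} [Field K] [Fintype K]
    (hK : Fintype.card K = Fintype.card F ^ 2) : Nonempty (POm Q ≃* PSU 4 K (Fintype.card F)) := by
  have hodd : Odd (Fintype.card F) := Nat.odd_iff.2 (by omega)
  obtain ⟨a, b, hab⟩ := exists_aniso_pair F
  rcases equiv_plus_or_minus_succ hQ (m := 2) h6 hab with ⟨g, hg⟩ | ⟨g, hg⟩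
  · have := (negOne_mem_commutator_qPlus hodd 3).1 (transport g hg hn).1
    rw [Nat.pow_mod, h4] at this
    simp at this
  · obtain ⟨-, ⟨e⟩⟩ := transport g hg hn
    obtain ⟨e'⟩ := Cfsg.Agent.S0303.result rfl hK a b hab
    exact ⟨e.trans ((pOmegaEquiv _ (coe_qMinus 2 F a b)).symm.trans e')⟩

end Om

theorem jobM6 : JobM6.{u} := by
  intro G _ _ M E z hp hz h1 hc hL hE he h32 h8
  have dc : ∀ {X : Type} [Group X] (π : M →* X), Function.Surjective π →
      (∀ m : M, π m = 1 ↔ (m : G) = 1 ∨ (m : G) = z) → DC π ∧ ¬ 2 ^ 8 ∣ Nat.card X := by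
    intro X _ π hs hk
    have hd : DC π := by
      refine ⟨hs, ?_, ⟨z, hz⟩, fun h => h1 (congrArg Subtype.val h),
        mem_center_iff.2 fun y => Subtype.ext (mem_cen1.1 (hc y.2)), fun y => ?_⟩
      · apply map_injective M.subtype_injective
        rw [commutator_def, Subgroup.map_commutator, ← MonoidHom.range_eq_map, range_subtype, hp]
      · rw [hk, Subtype.ext_iff, Subtype.ext_iff]
        rfl
    refine ⟨hd, fun h => ?_⟩
    have : 2 ^ 9 ∣ Nat.card M := by
      rw [hd.card, pow_succ']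
      exact Nat.mul_dvd_mul_left 2 h
    have := (Nat.prime_two.pow_dvd_iff_le_factorization Nat.card_pos.ne').1 this
    omega
  rcases hL with ⟨K, _, _, hodd, π, hs, hk⟩ | ⟨K, _, _, r, hK, hodd, π, hs, hk⟩
  · obtain ⟨hd, hn⟩ := dc π hs hk
    have h1 := Fintype.one_lt_card (α := K)
    have h2 := Nat.odd_iff.1 hodd
    have hA := Cfsg.Agent.S2086.result (F := K) rfl 4 (by omega) (by omega) (by
      simp only [Set.mem_insert_iff, Set.mem_singleton_iff, Prod.mk.injEq]
      omega)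
    have h4 : Fintype.card K % 4 = 1 := by
      by_contra h4
      obtain ⟨e⟩ := pull hA (cy_zmod _) hd (dc_center
        (H57.sl_commutator_eq_top_of_three_le (ι := Fin 4) (F := K) (by simp)) (by
          rw [H57.card_center_sl, Nat.card_eq_fintype_card, Fintype.card_fin, Nat.gcd_rec,
            show (Fintype.card K - 1) % 4 = 2 by omega]
          rfl))
      exact not_sl (two_ne_zero_of_odd_card hodd) hE he h32 e.toMonoidHom e.injective
    refine ⟨K, inferInstance, inferInstance, Or.inr ?_, fun V _ _ _ Q hQ h6 hm => ?_⟩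
    · by_contra h5
      exact hn (num_L (by omega) h1 (H57.card_psl_fin (by omega)))
    · obtain ⟨e⟩ := pom_plus h4 hQ h6 hm
      exact pull hA (cy_zmod _) ((dc_Om hodd hQ h6 hm).comp e) hd
  · obtain ⟨hd, hn⟩ := dc π hs hk
    have h2 := Nat.odd_iff.1 hodd
    have hA : ∀ {Y : Type} [Group Y] {a : Y →* PSU 4 K r}, DC a → Nonempty (Y ≃* M) := by
      intro Y _ a ha
      by_cases h3 : r = 3
      · subst h3
        exact pull (Cfsg.Agent.S2090.result hK) cy_433 ha hd
      · exact pull (Cfsg.Agent.S2089.result 4 r hK (by omega) (by omega) (by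
          simp only [Set.mem_insert_iff, Set.mem_singleton_iff, Prod.mk.injEq]
          omega)) (cy_zmod _) ha hd
    have h4 : r % 4 = 3 := by
      by_contra h4
      obtain ⟨e⟩ := hA (dc_center (H59.commutator_SU hK (by omega) (by omega)) (by
        rw [H59.card_center_SU hK (by omega), Nat.gcd_rec, show (r + 1) % 4 = 2 by omega]
        rfl))
      exact not_sl (two_ne_zero_of_odd_card (hK ▸ hodd.pow)) hE he h32
        ((SU 4 K r).subtype.comp e.symm.toMonoidHom)
        ((SU 4 K r).subtype_injective.comp e.symm.injective)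
    obtain ⟨F, _, _, rfl⟩ := exists_field hK
    refine ⟨F, inferInstance, inferInstance, Or.inl ?_, fun V _ _ _ Q hQ h6 hm => ?_⟩
    · by_contra h5
      exact hn (num_U (by omega) (H59.card_PSU hK (by omega)))
    · obtain ⟨e⟩ := pom_minus h4 hQ h6 hm hK
      exact hA ((dc_Om hodd hQ h6 hm).comp e)

end H81.R7M
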