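import Cfsg.Agent.H28.TESpec

/-! Tower NF (S1308), chapter TE part 1, job Pt: points are the groups `Ω₁ Z(R)`. -/

set_option autoImplicit false

open Cfsg Subgroup H14 H98 H14.FE H14.NF H28.TE
open scoped commutatorElement

namespace H81.TE1Pt

universe u

variable {G : Type u} [Group G]

theorem oz_cj (g : G) (R : Subgroup G) : cj g (OZ R) = OZ (cj g R) := by
  ext x
  rw [mem_cj, mem_OZ, mem_OZ, mem_cj]
  refine and_congr_right fun _ => and_congr ?_ ?_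
  · change _ ↔ x ∈ centralizer (cj g R : Set G)
    rw [← cj_centralizer, mem_cj]
  · rw [show g⁻¹ * x * g * (g⁻¹ * x * g) = g⁻¹ * (x * x) * g⁻¹⁻¹ by group, conj_eq_one_iff]

theorem jobPt : H28.TE.JobPt.{u} := by
  rintro G _ _ Q zq R hR _ _ ⟨g, rfl, rfl⟩
  refine ⟨⟨g, rfl⟩, card_cj _ _, ⟨cj g R, hR.cj g, oz_cj g R⟩, fun S hS => ?_⟩
  have c : Nat.card (OZ S) = Nat.card (OZ R) := by
    obtain ⟨h, -, rfl⟩ := (hR.cj g).exists_cj_eq hS
    rw [← oz_cj, ← oz_cj, card_cj, card_cj]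
  refine ⟨c, fun le => eq_of_le_of_card_ge (fun e he => ?_) (by rw [c, card_cj])⟩
  have he' : e ∈ OZ (cj g R) := oz_cj g R ▸ he
  refine ⟨le he, fun r hr => commutatorElement_eq_one_iff_mul_comm.1 ?_, he'.2.2⟩
  have h1 := zq _ ⟨g, rfl⟩ _ (hR.cj g) e he' r (hS.le hr)
  have h2 : ⁅r, e⁆ ∈ S :=
    S.mul_mem (S.mul_mem (S.mul_mem hr (le he)) (S.inv_mem hr)) (S.inv_mem (le he))
  obtain ⟨k, hk⟩ := isPGroup_iff_forall.1 hS.isPGroup _ h2
  exact orderOf_eq_one_iff.1 (Nat.Coprime.eq_one_of_dvd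
    (((coprime_card_opp (p := 2) (cj g Q)).coprime_dvd_left
      (Subgroup.orderOf_dvd_natCard _ h1)).pow_right k) (orderOf_dvd_of_pow_eq_one hk))

theorem job : H28.TE.JobPt.{u} := jobPt

end H81.TE1Pt
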