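/- STD-H: `A₇` is a maximal subgroup of `GL₄(2)`. -/
import Cfsg.Agent.H81.WrA7b
import Cfsg.Agent.H99.WrSpecO

set_option autoImplicit false

universe u

namespace H81.A7

open Subgroup H98 H1.Gold H99.Wr

theorem mem_of_pow_seven {A : Type*} [Group A] [Finite A] {K : Subgroup A} (hK : K.index ≤ 4) {a : A}
    (ha : a ^ 7 = 1) : a ∈ K := by
  refine K.normalCore_le (K.normalCore_eq_ker ▸ orderOf_eq_one_iff.1 ?_)
  have h1 := orderOf_dvd_natCard (MulAction.toPermHom A (A ⧸ K) a)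
  rw [Nat.card_perm, ← index_eq_card] at h1
  exact Nat.eq_one_of_dvd_coprimes (by decide : Nat.Coprime 7 (Nat.factorial 4))
    (orderOf_dvd_of_pow_eq_one (by rw [← map_pow, ha, map_one]))
    (h1.trans (Nat.factorial_dvd_factorial hK))

/-- the sixth power -/
noncomputable def p6 (c : ℕ) : ℕ := m4 (m4 c (m4 c c)) (m4 c (m4 c c))

theorem five : ∀ c ∈ [33825, 4702, 4703, 4733, 4749], (allN (fun i => allN (fun j =>
    Nat.beq (ap 4 15 c (Nat.xor i j)) (Nat.xor (ap 4 15 c i) (ap 4 15 c j))) (2 ^ 4)) (2 ^ 4) = true ∧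
    allN (fun i => Nat.beq (ap 4 15 c i) 0 == Nat.beq i 0) (2 ^ 4) = true ∧ m4 (p6 c) c = 33825) ∧
    ∀ d ∈ [33825, 4702, 4703, 4733, 4749], Nat.testBit (msk LA) (m4 (p6 c) d) = true → c = d := by
  decide +kernel

theorem max_a7 {V : Type u} [Group V] [Finite V] (h2 : ∀ x : V, x * x = 1) (hV : Nat.card V = 16)
    {H K : Subgroup (MulAut V)} (hH : Nat.card H = 2520) (h : H ≤ K) :
    K = H ∨ Nat.card K = 20160 := by
  obtain ⟨F, hS⟩ := exists_std h2 hV hH
  have h1 := K.card_mul_index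
  obtain ⟨k, hk⟩ := card_dvd_of_le h
  rw [card_aut h2 hV] at h1
  rw [hH] at hk
  by_cases hi : K.index ≤ 4
  · choose a ha using fun c : {c // c ∈ [33825, 4702, 4703, 4733, 4749]} =>
      F.exists_aut (five c c.2).1.1 (five c c.2).1.2.1
    have r6 : ∀ c, F.Rep (a c ^ 6) (p6 c) := fun c => by
      rw [show a c ^ 6 = a c * (a c * a c) * (a c * (a c * a c)) by
        simp only [pow_succ, pow_zero, one_mul, mul_assoc]]
      exact ((ha c).mul ((ha c).mul (ha c))).mul ((ha c).mul ((ha c).mul (ha c)))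
    have a7 : ∀ c, a c ^ 7 = 1 := fun c => by
      have : F.Rep _ (m4 _ _) := (r6 c).mul (ha c)
      rw [(five c c.2).1.2.2, ← pow_succ] at this
      exact this.ext rep1
    have := Nat.card_le_card_of_injective (fun p : _ × H => (⟨a p.1 * p.2,
      mul_mem (mem_of_pow_seven hi (a7 p.1)) (h p.2.2)⟩ : K)) (by
        rintro ⟨c, x⟩ ⟨d, y⟩ e
        replace e : a c * x = a d * y := congrArg Subtype.val e
        obtain ⟨b, hb, rb⟩ := hS.code _ (mul_mem x.2 (inv_mem y.2))
        rw [show (x * (y : MulAut V)⁻¹ : MulAut V) = a c ^ 6 * a d by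
          rw [← mul_right_inj (a c), ← mul_assoc, e, ← mul_assoc, ← pow_succ', a7]; group] at rb
        obtain rfl : c = d := Subtype.ext ((five c c.2).2 d d.2 (mem_of_msk.2
          ((show b = m4 _ _ from rb.uniq ((r6 c).mul (ha d)) (lt_of_mem hb) (F.mul_lt _ _)) ▸ hb)))
        rw [Subtype.ext (mul_left_cancel e : (x : MulAut V) = y)])
    rw [Nat.card_prod, hH, Nat.card_eq_fintype_card, show Fintype.card _ = 5 by decide] at this
    have : K.index = 1 := by
      rcases Nat.lt_trichotomy K.index 1 with e | e | e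
      · rw [show K.index = 0 by omega] at h1; omega
      · exact e
      · nlinarith
    exact Or.inr (by rw [← h1, this, mul_one])
  · refine Or.inl (eq_of_le_of_card_ge h ?_).symm
    have h3 : k * K.index = 8 := by nlinarith
    have h4 : k ≤ 1 := by nlinarith
    nlinarith

theorem card_autOf {G : Type u} [Group G] {N E : Subgroup G} (hN : N ≤ nor E) :
    Nat.card (autOf N E) = (cen E).relIndex N := by
  let φ : N →* MulAut E := E.normalizerMonoidHom.comp (inclusion hN)
  rw [relIndex, show (cen E).subgroupOf N = φ.ker from ?_, index_ker, show autOf N E = φ.range from ?_]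
  · ext a
    exact ⟨fun ⟨n, hn, h⟩ => ⟨⟨n, hn⟩, MulEquiv.ext fun e => Subtype.ext (h e).symm⟩,
      fun ⟨n, h⟩ => ⟨n, n.2, fun e => h ▸ rfl⟩⟩
  · ext n
    exact ⟨fun h => MulEquiv.ext fun e => Subtype.ext (cj_of_comm (mem_cen.1 h e e.2).symm),
      fun h => mem_cen.2 fun e he =>
        (comm_of_cj (congrArg Subtype.val (DFunLike.congr_fun h (⟨e, he⟩ : E)))).symm⟩

end H81.A7

namespace H81

open A7 Subgroup H99.Wr

theorem jobA7Max : JobA7Max.{u} := by
  intro G _ _ N M E hE hc h1 h2 h3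
  rw [← card_autOf (h1.trans h2)] at h3
  rw [← card_autOf h2]
  refine (max_a7 (fun x : E => Subtype.ext (hE x x.2)) hc h3 (K := autOf M E)
    fun a ⟨n, hn, h⟩ => ⟨n, h1 hn, h⟩).imp (fun e m hm => ?_) fun e => by rw [e]; norm_num
  obtain ⟨n, hn, h⟩ : E.normalizerMonoidHom ⟨m, h2 hm⟩ ∈ autOf N E := e ▸ ⟨m, hm, fun _ => rfl⟩
  rw [← mul_inv_cancel_left n m]
  refine mul_mem_sup hn (mem_cen.2 fun x hx => ?_)
  have : m * x * m⁻¹ = n * x * n⁻¹ := h ⟨x, hx⟩
  calc _ = n⁻¹ * (n * x * n⁻¹) * m := by group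
    _ = _ := by rw [← this]; group

end H81
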