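/- The Schur multiplier of the model of `J2`. -/
import Cfsg.Agent.H81.J2P2
import Cfsg.Agent.H81.J2P3
import Cfsg.Agent.H81.J2P5
import Cfsg.Agent.H81.J2C

set_option autoImplicit false

namespace H81.J2S

theorem main : Cfsg.HasCyclicSchurMultiplier H4.M2.X 2 := by
  have : Finite H4.M2.X := Nat.finite_of_card_ne_zero (by rw [H4.M2.card]; norm_num)
  refine cyclic_of_hasV [(2, 1), (3, 0), (5, 0)]
    (by simpa using ⟨J2P2.main, J2P3.main, J2P5.main⟩) ?_ (by norm_num) (by norm_num) J2C.main.hasV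
  rw [H4.M2.card]
  exact mem_of_sq_dvd (k := 7) [2, 3, 5, 7] [2, 3, 5] (by norm_num) (by norm_num) (by norm_num)

/-- the form needed for the statement. -/
theorem of_equiv {G : Type*} [Group G] (e : H4.M2.X ≃* G) : Cfsg.HasCyclicSchurMultiplier G 2 :=
  H21.multiplier_congr_left main e

end H81.J2S
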