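import Cfsg.Agent.H98.DP0CSpec
/-! The unique component is normal and contains the invariant 2-subgroups. -/
set_option autoImplicit false
open Subgroup Cfsg H98 H48.DP H57.DPC H48.DP2 H98.DP0C
namespace H81.DP0KB2
universe u

theorem jobKB2 : JobKB2.{u} := by
  intro nz X _ _ K y z i b hK zK yC
  have cp := H14.cp_iff.2 hK
  have un : ∀ J : Subgroup X, IsComponentOf J ⊤ → J = K := fun J hJ =>
    ((H14.cp_iff.2 hJ).eq_or_commute cp).resolve_right fun h =>
      nz X J y z b hJ (le_centralizer_iff.1 (commutator_eq_bot_iff_le_centralizer.1 h) zK)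
  have hN : K.Normal := normal_of_top_le_normalizer fun g _ => cj_eq_self_iff.1
    (un _ (H14.cp_iff.1 (cp.cj_of_mem_normalizer (le_normalizer (mem_top g)))))
  refine ⟨hN, un, fun S hS yS s hs => ?_⟩
  have cm := (b.cm K hK).1
  have cz : Ce K ≤ C1 z := fun g hg => mem_centralizer_singleton_iff.2 (hg z zK).symm
  have p2 : IsPGroup 2 ((S ⊔ K) ⊓ Ce K : Subgroup X) := fun ⟨t, ht⟩ => by
    obtain ⟨a, ha, k, hk, rfl⟩ := (mem_sup_left_norm le_normalizer_of_normal).1 ht.1
    obtain ⟨n, hn⟩ := hS ⟨a, ha⟩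
    refine ⟨n, Subtype.ext (mem_bot.1 (cm.sm.cen.le ⟨?_, pow_mem ht.2 _⟩))⟩
    refine (QuotientGroup.eq_one_iff _).1 ?_
    rw [coe_pow, QuotientGroup.mk_pow, QuotientGroup.mk_mul_of_mem a hk, ← QuotientGroup.mk_pow,
      show a ^ 2 ^ n = 1 from congrArg Subtype.val hn, QuotientGroup.mk_one]
  have zT : z ∈ No ((S ⊔ K) ⊓ Ce K) := centralizer_le_normalizer _ fun g hg => (hg.2 z zK).symm
  have hT := b.iz _ (inf_le_right.trans cz) p2 ((nor_shift zT i).1 (zpowers_le.1 (le_normalizer_inf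
    (le_normalizer_sup (zpowers_le.2 yS) le_normalizer_of_normal) le_normalizer_of_normal)))
  have hD : O2 (C1 z) ⊓ Ce K ≤ O2 ⊤ := le_pCoreOf ((isPGroup_pCoreOf _).to_le inf_le_left) le_top
    fun g _ => by
      obtain ⟨l, hl, hc⟩ := cm.inn g (le_normalizer_of_normal (mem_top g))
      rw [← mul_inv_cancel_left l g]
      exact mul_mem (centralizer_le_normalizer _ fun w hw => (hw.2 l hl).symm)
        (le_normalizer_inf (le_normalizer_pCoreOf_of_le cz) le_normalizer hc)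
  obtain ⟨l, hl, hc⟩ := cm.inn s (le_normalizer_of_normal (mem_top s))
  have e : l⁻¹ * s = 1 := mem_bot.1 (b.o2.le (hD ⟨hT ⟨mul_mem (mem_sup_right (inv_mem hl))
    (mem_sup_left hs), hc⟩, hc⟩))
  exact inv_mul_eq_one.1 e ▸ hl

end H81.DP0KB2
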