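import Cfsg.Agent.H67.SAInd
import Cfsg.Agent.H59.AutMat

/-! STD-U (row S3137), piece 1: the group `X = SU₄(q)`, `q = |F| ≥ 4` even, for the antidiagonal form,
inside `SL₄(K)`, `|K| = q²`; its elements, subgroups and relations.  Notes: `blueprints/STDU.md`. -/

set_option autoImplicit false
set_option linter.unusedSectionVars false

namespace H81.SU

open H64.SG (O2 Syl Cz Cs Ns cjs Is2 Inv2 UF IsO2 fx mem_fx)
open H67.SA Matrix H57 Subgroup

/-- `K / F` is a quadratic extension of finite fields with involution `star`, `|F| ≥ 4`. -/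
class Qe (F K : Type) [Field F] [Field K] [Algebra F K] [StarRing K] : Prop where
  fix : ∀ a : K, star a = a ↔ ∃ c : F, algebraMap F K c = a
  card : Nat.card K = Nat.card F ^ 2
  four : 4 ≤ Nat.card F

section Rt

variable {K : Type} [Field K] [CharP K 2] [Finite K]

/-- the square root -/
noncomputable def rt (a : K) : K := (frobeniusEquiv K 2).symm a

theorem rt_sq (a : K) : rt a ^ 2 = a := (frobeniusEquiv K 2).apply_symm_apply a
theorem sq_inj {a b : K} (h : a ^ 2 = b ^ 2) : a = b := (frobeniusEquiv K 2).injective h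
theorem rt_mul (a b : K) : rt (a * b) = rt a * rt b := map_mul (frobeniusEquiv K 2).symm a b
theorem rt_ne {a : K} (h : a ≠ 0) : rt a ≠ 0 := fun e => h (by rw [← rt_sq a, e]; simp)

end Rt

section K

variable (K : Type) [Field K] [StarRing K] [CharP K 2]

/-- `star` as a ring automorphism -/
abbrev sg : RingAut K := starRingAut
/-- the graph-field automorphism `τ₀` -/
def tau : Au 3 K := gam 3 K * slField _ K (sg K)
/-- `SU₄(q)` as a subgroup of `SL₄(K)` -/
abbrev SUs : Subgroup (SLn 3 K) := fx (tau K)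
/-- `X = SU₄(q)` -/
abbrev X : Type := ↥(SUs K)

variable {K}

theorem tau_x (i j : Fin 4) (c : K) : tau K (x i j c) = x j.rev i.rev (star c) := by
  rw [tau, MulAut.mul_apply, slField_x, gam_x]; rfl

theorem tau_mul_self : tau K * tau K = 1 := by
  have : (tau K * tau K).toMonoidHom = MonoidHom.id _ := hom_ext fun i j _ c => by
    change tau K (tau K _) = _
    simp [tau_x]
  exact MulEquiv.toMonoidHom_injective this

theorem tau_tau (s : SLn 3 K) : tau K (tau K s) = s :=
  congrArg (fun f : Au 3 K => f s) tau_mul_self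

theorem mem_SUs {g : SLn 3 K} : g ∈ SUs K ↔ tau K g = g := mem_fx

/-- the entries of `τ₀ g⁻¹` -/
theorem tau_inv_apply (g : SLn 3 K) (i j : Fin 4) :
    (tau K g⁻¹).1 i j = star (g.1 j.rev i.rev) := by
  have h1 : (slGraph _ K (slField _ K (sg K) g⁻¹)).1 = (g.1.map star)ᵀ := by
    rw [map_inv]
    change (((slField _ K (sg K) g)⁻¹)⁻¹).1ᵀ = _
    rw [inv_inv]; rfl
  rw [tau, MulAut.mul_apply, gam, MulAut.mul_apply, MulAut.conj_apply, ← pm_inv, val_mul, val_mul, h1]
  have h2 : ∀ a b : Fin 4, (a = Fin.revPerm b) = (b = a.rev) := by decide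
  have h3 : ∀ a b : Fin 4, (a = Fin.revPerm⁻¹ b) = (a = b.rev) := by decide
  simp only [mul_apply, pm_apply, h2, h3, ite_mul, one_mul, zero_mul, mul_ite, mul_one, mul_zero,
    Finset.sum_ite_eq', Finset.mem_univ, if_true, transpose_apply, map_apply]

/-- `g ∈ X` iff `g⁻¹` is the conjugate anti-transpose of `g`. -/
theorem mem_SUs_iff {g : SLn 3 K} :
    g ∈ SUs K ↔ g.1 * (of fun i j => star (g.1 j.rev i.rev)) = 1 := by
  have h1 : (tau K g⁻¹).1 = of fun i j => star (g.1 j.rev i.rev) := by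
    ext i j; exact tau_inv_apply g i j
  rw [← h1, ← val_mul, mem_SUs, map_inv, eq_comm, ← mul_inv_eq_one]
  exact ⟨fun h => by rw [h, val_one], fun h => Subtype.ext h⟩

/-- the matrix of an element of `X` -/
def mt (g : X K) : Matrix (Fin 4) (Fin 4) K := g.1.1

theorem inv_apply (g : X K) (i j : Fin 4) : mt g⁻¹ i j = star (mt g j.rev i.rev) := by
  change _ = star (g.1.1 _ _)
  rw [← tau_inv_apply, map_inv, mem_SUs.1 g.2]; rfl

theorem X_ext {g h : X K} (e : mt g = mt h) : g = h := Subtype.ext (Subtype.ext e)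
theorem X_mul (g h : X K) : mt (g * h) = mt g * mt h := rfl
theorem X_one : mt (1 : X K) = 1 := rfl
theorem X_det (g : X K) : (mt g).det = 1 := g.1.2
/-- the defining equations of `X` -/
theorem X_form (g : X K) : mt g * (of fun i j => star (mt g j.rev i.rev)) = 1 := mem_SUs_iff.1 g.2
theorem exists_X (M : Matrix (Fin 4) (Fin 4) K) (h : M.det = 1)
    (h' : M * (of fun i j => star (M j.rev i.rev)) = 1) : ∃ g : X K, mt g = M :=
  ⟨⟨⟨M, h⟩, mem_SUs_iff.2 h'⟩, rfl⟩

/-- `x_01(a) x_23(ā)` -/
def xs (a : K) : X K := ⟨x 0 1 a * x 2 3 (star a), mem_SUs.2 (by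
  rw [map_mul, tau_x, tau_x, star_star]; exact x_comm (by decide) (by decide) _ _)⟩
/-- `x_02(b) x_13(b̄)` -/
def xm (b : K) : X K := ⟨x 0 2 b * x 1 3 (star b), mem_SUs.2 (by
  rw [map_mul, tau_x, tau_x, star_star]; exact x_comm (by decide) (by decide) _ _)⟩

theorem tau_pm (π : Equiv.Perm (Fin 4)) (h : ∀ i, π i.rev = (π i).rev) :
    pm π ∈ SUs K := by
  rw [mem_SUs_iff]
  have : (of fun i j => star ((pm (F := K) π).1 j.rev i.rev)) = (pm (F := K) π⁻¹).1 := by
    ext i j
    rw [of_apply, pm_apply, pm_apply, h]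
    by_cases e : j = π i
    · simp [e]
    · rw [if_neg (fun e' => e (Fin.rev_inj.1 e')), if_neg (fun e' => e (by simp [e'])), star_zero]
  rw [this, pm_inv, val_mul_inv]

/-- the Weyl element `(0 1)(2 3)` -/
def ws : X K := ⟨pm (Equiv.swap 0 1 * Equiv.swap 2 3), tau_pm _ (by decide)⟩
/-- the Weyl element `(1 2)` -/
def wn : X K := ⟨pm (Equiv.swap 1 2), tau_pm _ (by decide)⟩
/-- the longest Weyl element `(0 3)(1 2)` -/
def w0 : X K := ⟨pm Fin.revPerm, tau_pm _ (by decide)⟩

variable (K)

/-- `A` -/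
def AX : Subgroup (X K) := (Ml 3 K 2).subgroupOf _
/-- `U` -/
def UX : Subgroup (X K) := (UU 3 K).subgroupOf _
/-- `Q` -/
def QX : Subgroup (X K) := (QQ 3 K).subgroupOf _
/-- `Z` -/
def ZX : Subgroup (X K) := (ZZ 3 K).subgroupOf _
/-- `Q SL₂(q)` -/
def P0X : Subgroup (X K) := UX K ⊔ cjs wn (UX K)
/-- `A SL₂(q²)` -/
def P2X : Subgroup (X K) := UX K ⊔ cjs ws (UX K)

variable [Finite K]

/-- the field automorphisms of `X`; `fld (sg K)` is the graph automorphism -/
def fld : RingAut K →* MulAut (X K) :=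
  H59.autRestrict (slField _ K) _ fun τ g hg => by
    have h1 : tau K * slField _ K τ = slField _ K τ * tau K :=
      MulEquiv.toMonoidHom_injective (hom_ext fun i j _ c => by
        change tau K (slField _ K τ _) = slField _ K τ (tau K _)
        rw [slField_x, tau_x, tau_x, slField_x]
        exact congrArg _ (congrArg (fun f : RingAut K => f c) (ringAut_comm (sg K) τ)))
    rw [mem_SUs] at hg ⊢
    rw [← MulAut.mul_apply, h1, MulAut.mul_apply, hg]

/-- The field part of an automorphism of `X` (facts `FO.outc`, `FO.outf`, `FO.dec`). -/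
noncomputable def oX : MulAut (X K) →* RingAut K :=
  open Classical in if h : ∃ o : MulAut (X K) →* RingAut K,
    (∀ g, o (MulAut.conj g) = 1) ∧ ∀ τ, o (fld K τ) = τ then h.choose else 1

variable {K}

theorem fld_val (τ : RingAut K) (g : X K) : mt (fld K τ g) = (mt g).map τ := rfl

theorem aut_star (τ : RingAut K) (a : K) : τ (star a) = star (τ a) :=
  congrArg (fun f : RingAut K => f a) (ringAut_comm τ (sg K))

end K

section FK

variable {F K : Type} [Field F] [Field K] [Algebra F K] [StarRing K] [CharP K 2] [Qe F K]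

omit [CharP K 2] in
@[simp] theorem star_io (c : F) : star (algebraMap F K c) = algebraMap F K c :=
  (Qe.fix _).2 ⟨c, rfl⟩

omit [CharP K 2] [StarRing K] [Qe F K] in
theorem io_inj {c d : F} (h : algebraMap F K c = algebraMap F K d) : c = d :=
  (algebraMap F K).injective h

variable (F) in
/-- the norm -/
noncomputable def nm (a : K) : F :=
  ((Qe.fix (F := F) (a * star a)).1 (by rw [star_mul', star_star, mul_comm])).choose
variable (F) in
/-- the trace -/
noncomputable def tr (a : K) : F :=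
  ((Qe.fix (F := F) (a + star a)).1 (by rw [star_add, star_star, add_comm])).choose

omit [CharP K 2] in
@[simp] theorem io_nm (a : K) : algebraMap F K (nm F a) = a * star a :=
  ((Qe.fix (F := F) (a * star a)).1 (by rw [star_mul', star_star, mul_comm])).choose_spec
omit [CharP K 2] in
@[simp] theorem io_tr (a : K) : algebraMap F K (tr F a) = a + star a :=
  ((Qe.fix (F := F) (a + star a)).1 (by rw [star_add, star_star, add_comm])).choose_spec

variable (F) in
/-- the norm of a unit -/
noncomputable def nu (y : Kˣ) : Fˣ := Units.mk0 (nm F (y : K)) fun h => by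
  simpa [h] using (io_nm (F := F) (y : K)).symm
variable (K) in
/-- `Fˣ → Kˣ` -/
def iu : Fˣ →* Kˣ := Units.map (algebraMap F K : F →* K)

variable (F K) in
/-- coordinates `(c, b, d)` on `A` -/
abbrev VA : Type := F × K × F

/-- `x_03(c)` -/
def xz (c : F) : X K := ⟨x 0 3 (algebraMap F K c), mem_SUs.2 (by rw [tau_x, star_io]; rfl)⟩
/-- `x_12(d)` -/
def xl (d : F) : X K := ⟨x 1 2 (algebraMap F K d), mem_SUs.2 (by rw [tau_x, star_io]; rfl)⟩
/-- the element of `A` with upper right block `[[b, c], [d, b̄]]` -/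
def xa (v : VA F K) : X K := xz v.1 * xm v.2.1 * xl v.2.2
/-- the quadratic form on `A` -/
noncomputable def dt (v : VA F K) : F := nm F v.2.1 + v.1 * v.2.2
/-- the action of `xs a` on `A` -/
noncomputable def aS (a : K) (v : VA F K) : VA F K :=
  (v.1 + tr F (a * star v.2.1) + nm F a * v.2.2, v.2.1 + a * algebraMap F K v.2.2, v.2.2)
/-- the action of `ht y r` on `A` -/
noncomputable def aH (y : Kˣ) (r : Fˣ) (v : VA F K) : VA F K :=
  (r * nm F (y : K) * v.1, algebraMap F K r * y * v.2.1, r * v.2.2)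
/-- the action of `ws` on `A` -/
def aW (v : VA F K) : VA F K := (v.2.2, star v.2.1, v.1)

variable [Finite K]

/-- the entry `β` of `ht y r`: `β⁴ = r² ȳ / y` -/
noncomputable def hb (y : Kˣ) (r : Fˣ) : K :=
  rt (rt (algebraMap F K r ^ 2 * star (y : K) * ((y⁻¹ : Kˣ) : K)))

theorem hb_pow (y : Kˣ) (r : Fˣ) :
    (hb y r ^ 2) ^ 2 = algebraMap F K r ^ 2 * star (y : K) * ((y⁻¹ : Kˣ) : K) := by
  rw [hb, rt_sq, rt_sq]

theorem hb_ne (y : Kˣ) (r : Fˣ) : hb y r ≠ 0 := rt_ne (rt_ne (by simp))

theorem hb_nm (y : Kˣ) (r : Fˣ) : hb y r * star (hb y r) = algebraMap F K r := by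
  refine sq_inj (sq_inj ?_)
  have h1 := hb_pow y r
  have h2 := congrArg star h1
  have h3 : star (y : K) ≠ 0 := by simp
  simp only [star_pow, star_mul', star_io, star_star, Units.val_inv_eq_inv_val, star_inv₀] at h1 h2
  rw [mul_pow, mul_pow, h1, h2]; field_simp

theorem hb_det (y : Kˣ) (r : Fˣ) : y * hb y r ^ 2 = star (y : K) * star (hb y r) ^ 2 := by
  refine sq_inj ?_
  have h1 := hb_pow y r
  have h2 := congrArg star h1
  have h3 : star (y : K) ≠ 0 := by simp
  simp only [star_pow, star_mul', star_io, star_star, Units.val_inv_eq_inv_val, star_inv₀] at h1 h2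
  rw [mul_pow, mul_pow, h1, h2]; field_simp

theorem diag_mem {a b : K} (ha : a ≠ 0) (hb : b ≠ 0)
    (h : det (diagonal ![a, b, (star b)⁻¹, (star a)⁻¹]) = 1) :
    tau K ⟨_, h⟩ = ⟨_, h⟩ := by
  refine mem_SUs.1 (mem_SUs_iff.2 ?_)
  have : (of fun i j : Fin 4 => star (diagonal ![a, b, (star b)⁻¹, (star a)⁻¹] j.rev i.rev)) =
      diagonal ![a⁻¹, b⁻¹, star b, star a] := by
    ext i j
    by_cases e : i = j
    · subst e; fin_cases i <;> simp [Fin.rev]
    · rw [of_apply, diagonal_apply_ne _ e, diagonal_apply_ne _ (fun e' => e (Fin.rev_inj.1 e').symm),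
        star_zero]
  change diagonal _ * (of fun i j : Fin 4 =>
    star (diagonal ![a, b, (star b)⁻¹, (star a)⁻¹] j.rev i.rev)) = 1
  rw [this, diagonal_mul_diagonal, ← diagonal_one]
  congr 1
  ext i; fin_cases i <;> simp [ha, hb]

/-- The torus element `diag(y β, β, β̄⁻¹, (ȳ β̄)⁻¹)`: `xs a ↦ xs (y a)`, `xa v ↦ xa (aH y r v)`. -/
noncomputable def ht (y : Kˣ) (r : Fˣ) : X K :=
  ⟨⟨diagonal ![y * hb y r, hb y r, (star (hb y r))⁻¹, (star (y * hb y r))⁻¹], by
    have h1 := hb_det y r
    have h2 : star (hb y r) ≠ 0 := by simp [hb_ne]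
    have h3 : star (y : K) ≠ 0 := by simp
    rw [det_diagonal, Fin.prod_univ_four]
    simp only [cons_val_zero, cons_val_one, cons_val, star_mul']
    field_simp
    linear_combination h1⟩, mem_SUs.2 (diag_mem (mul_ne_zero y.ne_zero (hb_ne y r)) (hb_ne y r) _)⟩

variable (F K) in
/-- the Levi subgroup of `N(A)` -/
def Lv : Subgroup (X K) := closure ({g | ∃ a, g = xs a} ∪ {ws} ∪ {g | ∃ y, ∃ r : Fˣ, g = ht y r})

end FK

end H81.SU
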