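import Cfsg.Agent.H63.KgvSpec

/-! # The lifting relation for Gauss sums from the Newton recursion -/

set_option autoImplicit false

namespace H81.KgvHD

open Polynomial Finset H63.Kgv

theorem job : JHD := by
  intro h1 h2 h3 h4 h5 F L _ _ _ _ _ ψ χ hψ
  have hmu := (h3 F).2.1 ψ χ 1
  obtain ⟨a0, hn⟩ := h1 F _ hmu
  obtain ⟨a1, a2⟩ := h5 h3 F ψ χ hψ
  have key : ∀ n : ℕ, sm (lam ψ χ 1) (n + 1) = -(-gaussSum χ ψ) ^ (n + 1) := by
    intro n
    induction n with
    | zero =>
      have := hn 1
      simp only [range_one, sum_singleton, Nat.cast_one, one_mul, zero_add, Nat.sub_self, a0, a1,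
        mul_one] at this
      simp [← this]
    | succ n ih =>
      have := hn (n + 2)
      rw [a2 _ (by omega), mul_zero, sum_range_succ, sum_range_succ,
        sum_eq_zero fun m hm => by rw [a2 _ (by have := mem_range.1 hm; omega), mul_zero],
        show n + 2 - (n + 1) = 1 by omega, show n + 2 - (n + 1 + 1) = 0 by omega, a0, a1, ih] at this
      rw [pow_succ]
      linear_combination -this
  have hpos : 0 < Module.finrank F L := Module.finrank_pos
  obtain ⟨n, hn'⟩ := Nat.exists_eq_succ_of_ne_zero hpos.ne'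
  have := h2 F L _ hmu
  rw [hn', key, ← Nat.succ_eq_add_one, ← hn'] at this
  rw [← neg_neg ((-gaussSum χ ψ) ^ _), ← this]
  congr 1
  refine sum_congr rfl fun a _ => ?_
  rw [h4 h3 F L ψ χ 1 a one_pos, pow_one, mul_comm]

end H81.KgvHD
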