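import Cfsg.Agent.H67.SPIII
import Cfsg.Agent.H72.SPFR

/-! STD-SP (row S3129), chapter III, slot RW: the wreath case. -/

set_option autoImplicit false
set_option linter.unusedSectionVars false

namespace H81.SPW

open H64.SG (Cz Cs Ns cjs mem_Cz mem_Cs Cs_le_Ns)
open Matrix H57 Subgroup H67.UA H67.SP H72.SPF
open H67.SA (la cm mem_cjs conj_mem_cjs cm_eq_one)
open H59.SO (CW)

universe u

section Split

variable {X : Type} [Group X] [Finite X] {G : Type u} [Group G] {e : X →* G} {t : G}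

theorem conj2 (h : t * t = 1) (g : G) : t * (t * g * t⁻¹) * t⁻¹ = g := by
  rw [← mul_assoc, ← mul_assoc, h, mul_assoc, ← _root_.mul_inv_rev, h]; simp

/-- `e X` is diagonal in a commuting product `L L^t`. -/
theorem split (perf : commutator X = ⊤) (mult : H21.multCard X = 1) (inj : Function.Injective e)
    (tt : t * t = 1) (ce : ∀ g, t * e g = e g * t) {L : Subgroup G} (c : L ≤ Cs (cjs t L))
    (h1 : e.range ≤ L ⊔ cjs t L) : ∃ e₁ e₂, CW e t e₁ e₂ := by
  have sw : ∀ {g}, g ∈ cjs t L → t * g * t⁻¹ ∈ L := by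
    rintro _ ⟨g, hg, rfl⟩; exact (conj2 tt g).symm ▸ hg
  have n2 : L ⊔ cjs t L ≤ Ns (cjs t L) := sup_le (c.trans (Cs_le_Ns _)) le_normalizer
  have : ((cjs t L).subgroupOf (L ⊔ cjs t L)).Normal := ⟨fun a ha g =>
    mem_subgroupOf.2 (H98.conj_mem_of_mem_normalizer (n2 g.2) (mem_subgroupOf.1 ha))⟩
  let π := (QuotientGroup.mk' ((cjs t L).subgroupOf (L ⊔ cjs t L))).comp
    (inclusion (le_sup_left : L ≤ L ⊔ cjs t L))
  obtain ⟨φ, hφ⟩ := H21.exists_lift_of_perfect perf mult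
    ((QuotientGroup.mk' ((cjs t L).subgroupOf (L ⊔ cjs t L))).comp
      (e.codRestrict _ fun a => h1 ⟨a, rfl⟩)) (π := π) (fun q => by
      obtain ⟨⟨g, hg⟩, rfl⟩ := QuotientGroup.mk_surjective q
      obtain ⟨l, hl, a, ha, h4⟩ := (H98.mem_sup_left_norm (c.trans (Cs_le_Ns _))).1 hg
      exact ⟨⟨l, hl⟩, QuotientGroup.eq.2 (by
        change l⁻¹ * g ∈ cjs t L
        rwa [h4, inv_mul_cancel_left])⟩)
    (fun l hl => mem_center_iff.2 fun g => Subtype.ext
      (c g.2 _ (mem_subgroupOf.1 ((QuotientGroup.eq_one_iff (inclusion le_sup_left l)).1 hl))).symm)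
  have h4 : ∀ a, ((φ a : L) : G)⁻¹ * e a ∈ cjs t L := fun a =>
    mem_subgroupOf.1 (QuotientGroup.eq (s := (cjs t L).subgroupOf (L ⊔ cjs t L)).1 (hφ a))
  have cc : ∀ a a', ((φ a : L) : G) * (t * φ a' * t⁻¹) = t * φ a' * t⁻¹ * φ a := fun a a' =>
    (c (φ a).2 _ (conj_mem_cjs.2 (φ a').2)).symm
  let f : X →* G := MonoidHom.mk' (fun a => (φ a : G) * (t * φ a * t⁻¹)) fun a a' => by
    simp only [map_mul, coe_mul, ← conj_mul]
    rw [mul_assoc, ← mul_assoc (φ a' : G), cc a' a]; group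
  have cen : ∀ a, ∀ g ∈ L ⊔ cjs t L, Commute (e a * (f a)⁻¹) g := fun a => by
    have h5 := sw (h4 a)
    rw [← conj_mul, ce a, mul_inv_cancel_right] at h5
    have p2 : t * φ a * t⁻¹ ∈ cjs t L := conj_mem_cjs.2 (φ a).2
    have m1 : e a * (f a)⁻¹ ∈ L := by
      have : e a * (f a)⁻¹ = t * (φ a : G)⁻¹ * t⁻¹ * e a * (φ a : G)⁻¹ := by
        calc e a * ((φ a : G) * (t * φ a * t⁻¹))⁻¹ = t * φ a * t⁻¹ * (t * (φ a : G)⁻¹ * t⁻¹ * e a) *
              ((φ a : G) * (t * φ a * t⁻¹))⁻¹ := by group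
          _ = _ := by rw [c h5 _ p2]; group
      exact this ▸ mul_mem h5 (inv_mem (φ a).2)
    have m2 : e a * (f a)⁻¹ ∈ cjs t L := by
      have : e a * (f a)⁻¹ = (φ a : G)⁻¹ * e a * (t * φ a * t⁻¹)⁻¹ := by
        calc e a * ((φ a : G) * (t * φ a * t⁻¹))⁻¹ = φ a * ((φ a : G)⁻¹ * e a) *
              ((φ a : G) * (t * φ a * t⁻¹))⁻¹ := by group
          _ = _ := by rw [← c (φ a).2 _ (h4 a), cc]; group
      exact this ▸ mul_mem (h4 a) (inv_mem p2)
    have k : L ⊔ cjs t L ≤ Cz (e a * (f a)⁻¹) := sup_le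
      (fun g hg => mem_Cz.2 (c hg _ m2)) fun g hg => mem_Cz.2 (c m1 g hg).symm
    exact fun g hg => mem_Cz.1 (k hg)
  have ef : e = f := H67.GA.hom_eq_of_central' perf e f
    (fun a a' => cen a _ (mul_mem_sup (φ a').2 (conj_mem_cjs.2 (φ a').2)))
    fun a a' => cen a _ (h1 ⟨a', rfl⟩)
  refine ⟨L.subtype.comp φ, (MulAut.conj t).toMonoidHom.comp (L.subtype.comp φ),
    (injective_iff_map_eq_one _).2 fun a ha => (injective_iff_map_eq_one _).1 inj a ?_, cc,
    fun a => congrArg (fun g : X →* G => g a) ef, fun _ => rfl⟩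
  have ha : (φ a : G) = 1 := ha
  rw [ef]
  change (φ a : G) * (t * φ a * t⁻¹) = 1
  rw [ha]; simp

end Split

variable {n : ℕ} {F : Type} [Field F] [StarRing F] [TrivialStar F] [CharP F 2] [Finite F] [FV n F]
  {G : Type u} [Group G] {e : XU n F →* G} {τ : Vn n F → G} {δ : F}

variable (e τ) in
/-- the general element of `Q*_u` -/
noncomputable def NN (u y : Vn n F) (d : F) (v : Vn n F) (a : F) : G :=
  e (EE u y d) * sg e τ 0 u v * τ (a • u)

theorem rt_one : rt (1 : F) = 1 := sq_inj (by rw [rt_sq, one_pow])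
theorem rt_zero : rt (0 : F) = 0 := sq_inj (by rw [rt_sq]; simp)
theorem su (a : F) (u : Vn n F) : hf (a • u) u = 0 := by rw [hf_smul_left, hx, mul_zero]
theorem us (a : F) (u : Vn n F) : hf u (a • u) = 0 := by rw [hr, hx, mul_zero]

section P

variable (h : RD e τ δ)
include h

theorem tt (v : Vn n F) : τ v * τ v = 1 := by rw [h.sq, Tc, EE_zero, map_one]

theorem tc {u v : Vn n F} (p : hf u v = 0) : Commute (τ u) (τ v) :=
  cm_eq_one.1 (by rw [h.cmp u v p, zero_smul, qq, EE_zero, map_one])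

theorem sa (a : F) (u : Vn n F) : sg e τ 0 u (a • u) = 1 := by
  rw [h.shift, zero_mul, Tc, EE_zero, map_one]

theorem s0 (u : Vn n F) : sg e τ 0 u 0 = 1 := by simpa using sa h 0 u

theorem As {u y v : Vn n F} (p : hf y u = 0) (q : hf u v = 0) (d : F) :
    Commute (e (EE u y d)) (sg e τ 0 u v) := by
  have k := h.toRA.toR1.toR0.sg_eqv 0 (EE u y d) u v
  rwa [ac_EE_self (FV.ok u y d p), ac_EE_perp (FV.ok u y d p) (hf_symm q),
    h.sadd u v _ ⟨q, us _ _, by rw [hr, hf_symm q, mul_zero]⟩, sa h, mul_one,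
    mul_inv_eq_iff_eq_mul] at k

theorem Az {u y : Vn n F} (p : hf y u = 0) (d a : F) : Commute (e (EE u y d)) (τ (a • u)) :=
  h.toRA.toR1.toR0.fix (by rw [ac_smul, ac_EE_self (FV.ok u y d p)])

theorem zs {u v : Vn n F} (q : hf u v = 0) (a : F) : Commute (τ (a • u)) (sg e τ 0 u v) :=
  h.stau u v _ ⟨q, us _ _, by rw [hr, hf_symm q, mul_zero]⟩

theorem zz (u : Vn n F) (a b : F) : τ (a • u) * τ (b • u) = τ ((a + b) • u) := by
  rw [h.nadd, zero_mul, zero_mul, Tc, EE_zero, map_one, mul_one]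

theorem N_mul {u y y' v v' : Vn n F} (p : hf y u = 0) (p' : hf y' u = 0) (q : hf u v = 0)
    (q' : hf u v' = 0) (d d' a a' : F) : NN e τ u y d v a * NN e τ u y' d' v' a' =
      NN e τ u (y + y') (d + d' + hf y' y + δ * hf v v') (v + v') (rt (hf v v') + (a + a')) := by
  have p2 : hf (y + y') u = 0 := by rw [hf_add_left, p, p', add_zero]
  have q2 : hf u (v + v') = 0 := by rw [hf_add_right, q, q', add_zero]
  have k := h.mul u v v' q q'
  rw [add_zero, one_mul, mul_assoc, ← (Az h (hf_zero_left u) _ _).eq, ← mul_assoc,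
    ← (As h (hf_zero_left u) q2 _).eq] at k
  have k2 := mE' p2 (hf_zero_left u) (d + d' + hf y' y) (δ * hf v v')
  rw [add_zero, hf_zero_left, add_zero] at k2
  calc _ = e (EE u y d) * (sg e τ 0 u v * (τ (a • u) * e (EE u y' d'))) * sg e τ 0 u v' *
        τ (a' • u) := by simp only [NN, mul_assoc]
    _ = e (EE u y d) * e (EE u y' d') * (sg e τ 0 u v * (τ (a • u) * sg e τ 0 u v')) *
        τ (a' • u) := by
      rw [← (Az h p' d' a).eq, ← mul_assoc (sg e τ 0 u v), ← (As h p' q d').eq]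
      simp only [mul_assoc]
    _ = _ := by
      rw [(zs h q' a).eq, ← mul_assoc (sg e τ 0 u v), k, NN, ← k2, ← mE' p p', ← zz h, ← zz h]
      simp only [map_mul, mul_assoc]

theorem N_e (g : XU n F) {u y : Vn n F} (p : hf y u = 0) (d : F) (v : Vn n F) (a : F) :
    e g * NN e τ u y d v a * (e g)⁻¹ = NN e τ (ac g u) (ac g y) d (ac g v) a := by
  rw [NN, NN, ← conj_mul, ← conj_mul, h.toRA.toR1.toR0.sg_eqv, h.eqv, ac_smul, ← jE p, map_mul,
    map_mul, map_inv]

theorem cE {u y x : Vn n F} (p : hf y u = 0) (q : hf u x = 0) (d : F) :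
    τ x * e (EE u y d) * (τ x)⁻¹ = NN e τ u y d (hf x y • x) (hf x y) := by
  have k := h.eqv (EE u y d) x
  rw [ac_EE_perp (FV.ok u y d p) (hf_symm q), ← map_inv, inE p] at k
  have r : hf (hf x y • u) x = 0 := by rw [hf_smul_left, q, mul_zero]
  have k1 : e (EE u y d) * e (EE u y d) = 1 := by rw [← map_mul, sqE p, map_one]
  rw [NN, ← h.sscal _ _ _ q, H67.SP.sg, add_comm _ x, ← k, Tc, Tc, EE_zero, EE_zero, mul_one, map_one, mul_one,
    inv_eq_of_mul_eq_one_right (tt h x), mul_assoc, mul_assoc, mul_assoc, mul_assoc (e _ * _ * _),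
    ← (tc h r).eq, ← mul_assoc (τ (_ • u)), tt h, one_mul, ← mul_assoc, ← mul_assoc, ← mul_assoc,
    ← mul_assoc, k1, one_mul]

end P

variable (e τ) in
/-- `1 + (c + η) v v*` -/
noncomputable def TT' (c : F) (v : Vn n F) : G := e (Tc c v) * τ v
variable (e τ) in
/-- `1 + (c + η)(y u* + u y*)` -/
noncomputable def YY (c : F) (y u : Vn n F) : G := e (qq (c • y) u) * sg e τ 0 u y

section Q

variable (h : RD e τ δ) {c : F} (hc : c ^ 2 + c = δ)
include h

theorem Y_N (c : F) (y u : Vn n F) : YY e τ c y u = NN e τ u (c • y) 0 y 0 := by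
  rw [NN, zero_smul, h.zero, mul_one, YY]

theorem T_N (c : F) (u : Vn n F) : TT' e τ c u = NN e τ u 0 c 0 1 := by
  rw [NN, s0 h, mul_one, one_smul, TT']

theorem Y_sym (c : F) {y u : Vn n F} (p : hf u y = 0) : YY e τ c y u = YY e τ c u y := by
  rw [YY, YY, h.ssym u y p, zero_smul, show qq 0 u = 1 from EE_zero u, map_one, mul_one, qq_smul,
    star_trivial, qq_comm]

include hc

theorem T_Y {x y u : Vn n F} (p : hf u y = 0) (q : hf u x = 0) :
    Commute (TT' e τ (c + 1) x) (YY e τ c y u) := by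
  have p1 : ∀ {z : Vn n F} (a : F), hf u z = 0 → hf (a • z) u = 0 := fun a hz => by
    rw [hf_smul_left, hf_symm hz, mul_zero]
  have k : τ x * YY e τ c y u * (τ x)⁻¹ =
      NN e τ u (c • y + (δ * hf y x) • x) 0 (y + ((c + 1) * hf y x) • x) 0 := by
    rw [YY, ← conj_mul, cE h (p1 c p) q, h.cS u y x p q, ← NN, N_mul h (p1 c p) (p1 _ q)
      (hf_symm (p1 _ q)) (by rw [hf_add_right, p, hr, q, mul_zero, add_zero])]
    simp only [hf_smul_left, hr, hf_add_right, hx, hs x y, mul_zero, add_zero, zero_add]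
    congr 1
    · linear_combination (δ * c * hf y x ^ 2) * two0 F
    · ext i
      simp only [Pi.add_apply, Pi.smul_apply, smul_eq_mul]
      ring
    · refine sq_inj ?_
      rw [CharTwo.add_sq, CharTwo.add_sq, rt_sq, mul_pow, mul_pow, rt_sq]
      linear_combination (hf y x ^ 2) * hc + (δ * hf y x ^ 2) * two0 F
  rw [Commute, SemiconjBy, ← mul_inv_eq_iff_eq_mul]
  calc _ = e (Tc (c + 1) x) * (τ x * YY e τ c y u * (τ x)⁻¹) * (e (Tc (c + 1) x))⁻¹ := by
        rw [TT']; group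
    _ = _ := by
      rw [k, N_e h _ (by rw [hf_add_left, p1 c p, p1 _ q, add_zero]), Y_N h]
      simp only [aT, hf_add_left, hf_smul_left, hx, q, mul_zero, add_zero, zero_smul]
      congr 1
      · ext i
        simp only [Pi.add_apply, Pi.smul_apply, smul_eq_mul]
        linear_combination (hf y x * x i) * hc + (δ * hf y x * x i) * two0 F
      · rw [add_assoc, v_add_self, add_zero]

theorem Y_Y {y y' u : Vn n F} (p : hf u y = 0) (p' : hf u y' = 0) (q : hf y y' = 1) :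
    YY e τ c y u * YY e τ c y' u = YY e τ c (y + y') u * TT' e τ c u := by
  have p1 : ∀ {z : Vn n F} (a : F), hf u z = 0 → hf (a • z) u = 0 := fun a hz => by
    rw [hf_smul_left, hf_symm hz, mul_zero]
  have p2 : hf u (y + y') = 0 := by rw [hf_add_right, p, p', add_zero]
  rw [Y_N h, Y_N h, Y_N h, T_N h, N_mul h (p1 c p) (p1 c p') p p',
    N_mul h (p1 c p2) (hf_zero_left u) p2 (hf_zero_right u)]
  simp only [hf_smul_left, hr, hs y' y, q, hf_zero_left, hf_zero_right, rt_one, rt_zero, mul_zero,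
    add_zero, zero_add, smul_add]
  congr 1
  linear_combination hc + (δ - c) * two0 F

theorem T_T [hp : H67.SP.Par n F] [FW n F] (v w : Vn n F) : Commute (TT' e τ (c + 1) v) (TT' e τ c w) := by
  by_cases h0 : hf v w = 0
  · have f : ∀ (a : F) {x y : Vn n F}, hf y x = 0 → ac (Tc a x) y = y := fun a x y r => by
      rw [aT, r, mul_zero, zero_smul, add_zero]
    refine Commute.mul_left (Commute.mul_right (Commute.map ?_ e)
      (h.toRA.toR1.toR0.fix (f _ (hf_symm h0))))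
      (Commute.mul_right (h.toRA.toR1.toR0.fix (f _ h0)).symm (tc h h0))
    have := jT c w (Tc (c + 1) v)
    rwa [f _ (hf_symm h0), mul_inv_eq_iff_eq_mul] at this
  obtain ⟨g, g1, g2⟩ := FW.wh v ((hf v w)⁻¹ • w) (by rw [hr, inv_mul_cancel₀ h0])
  have g3 : w = hf v w • ac g (ev (la n)) := by rw [g2, smul_smul, mul_inv_cancel₀ h0, one_smul]
  have h5 := hp.five
  have e1 := v1 (n := n) (F := F)
  have k : ∀ i : Fin (n + 1), i.val ≠ 0 → i.val ≠ n →
      hf (ac g (ev i)) v = 0 ∧ hf (ac g (ev i)) w = 0 := fun i i0 i1 => by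
    rw [g3, hr, ← g1, hf_ac, hf_ac, hfe i, hfe i, if_neg (by simpa using i1),
      if_neg (by simpa [la] using i0), mul_zero]
    exact ⟨rfl, rfl⟩
  obtain ⟨a1, a2⟩ := k 1 (by omega) (by omega)
  obtain ⟨b1, b2⟩ := k (1 : Fin (n + 1)).rev (by rw [Fin.val_rev]; omega) (by rw [Fin.val_rev]; omega)
  have k1 : ∀ {y : Vn n F}, hf y v = 0 → hf y w = 0 → Commute (TT' e τ (c + 1) v) (YY e τ c y w) :=
    fun r1 r2 => by rw [Y_sym h c (hf_symm r2)]; exact T_Y h hc r2 r1
  rw [← inv_mul_cancel_left (YY e τ c (ac g (ev 1) + ac g (ev (1 : Fin (n + 1)).rev)) w)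
    (TT' e τ c w), ← Y_Y h hc (hf_symm a2) (hf_symm b2) (by rw [hf_ac, hf_ev, if_pos rfl])]
  exact (k1 (by rw [hf_add_left, a1, b1, add_zero])
    (by rw [hf_add_left, a2, b2, add_zero])).inv_right.mul_right ((k1 a1 a2).mul_right (k1 b1 b2))

end Q

theorem jobRW : JobRW.{u} := by
  intro n F _ _ _ _ _ _ G _ _ e t b _ w τ δ ε h ht hε
  have tc : ∀ v, t * TT' e τ (ε + 1) v * t⁻¹ = TT' e τ ε v := fun v => by
    have k := ht v
    have k1 : ac (TT v) v = v := by rw [aT, hx, mul_zero, zero_smul, add_zero]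
    rw [mul_inv_eq_iff_eq_mul] at k
    have k2 : t * τ v = e (TT v) * τ v * t := by
      rw [mul_assoc, k, ← mul_assoc, ← mul_assoc, ← w.cen, mul_assoc t, ← map_mul,
        sqE (hf_zero_left v), map_one, mul_one]
    rw [TT', TT', ← mul_assoc, w.cen, mul_assoc (e _), k2, ← mul_assoc, ← mul_assoc,
      mul_inv_cancel_right, ← map_mul, mE' (hf_zero_left v) (hf_zero_left v), add_zero, add_assoc ε,
      cc, hf_zero_left, add_zero, add_zero]
  let L := closure {g | ∃ v, g = TT' e τ (ε + 1) v}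
  have mem : ∀ v, TT' e τ (ε + 1) v ∈ L := fun v => subset_closure ⟨v, rfl⟩
  refine split (eq_top_iff.2 FA.ns.perfect) FA.mult w.inj w.tt w.cen (L := L)
    ((closure_le _).2 ?_) ?_
  · rintro _ ⟨v, rfl⟩ _ ⟨g, hg, rfl⟩
    refine (mem_Cz.1 ((closure_le ((Cz (TT' e τ (ε + 1) v)).comap (MulAut.conj t).toMonoidHom)).2
      ?_ hg)).symm
    rintro _ ⟨w, rfl⟩
    refine mem_Cz.2 ?_
    change _ * (t * _ * t⁻¹) = t * _ * t⁻¹ * _
    rw [tc w]
    exact T_T h hε v w
  · rw [MonoidHom.range_eq_map, map_le_iff_le_comap, top_le_iff]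
    refine FW.genT _ fun v => ?_
    have := N_mul h (hf_zero_left v) (hf_zero_left v) (hf_zero_right v) (hf_zero_right v) (ε + 1) ε 1 1
    rw [← T_N h, ← T_N h, ← tc v, NN, add_zero, hf_zero_left, rt_zero, cc, add_zero (0 : F), zero_smul,
      h.zero, s0 h, mul_one, mul_one, mul_zero, add_zero, add_zero, add_right_comm, cc, zero_add] at this
    change e (Tc 1 v) ∈ L ⊔ cjs t L
    rw [← this]
    exact mul_mem_sup (mem v) (conj_mem_cjs.2 (mem v))

end H81.SPW
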