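import Cfsg.Agent.H81.YLB
import Cfsg.Agent.H20.YLLD

/-! STD-SP (row S3129), endgame: the linear models. -/

namespace H81.YL

theorem jobML0 : H64.YE.JobML0 := jobML0' H20.YLLD.jobLD
theorem jobML1 : H64.YE.JobML1 := jobML1' H20.YLLD.jobLD

end H81.YL
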