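import Cfsg.Agent.H81.GAAB
import Cfsg.Agent.H64.SGJB

/-! STD-UM: `H67.GA.JobJB` (port of `H67.SAJB`). -/

set_option autoImplicit false
set_option linter.unusedSectionVars false

namespace H81.GA

open H64.SG (O2 Syl Cz Cs Ns cjs Is2 Inv2 UF IsO2 fx mem_Cs mem_Cz mem_fx Mx Dl is2_of_sq
  isPGroup_iff_is2)
open H57 H98 Subgroup Cfsg H67.GA

universe u

variable {X : Type} [Group X] [Finite X] [Dat X] [Fa X] {G : Type u} [Group G] [Finite G]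
  {e : X →* G} {g t : G} {β : MulAut X}

theorem uniq (h : B0 e t) {k : G} (h1 : k ∈ Cs e.range) (h2 : k * k = 1) (h3 : t * k = k * t) :
    k = 1 ∨ k = t :=
  H64.SG.eq_of_cyclic (h.cyc (zpowers t ⊔ zpowers k) (sup_le (zpowers_le.2 h.cen) (zpowers_le.2 h1))
    (H64.SG.isPGroup_sup_zpowers (is2_of_sq h.inv.1).zpowers
      (H64.SG.Cs_le_Ns _ (H64.SG.mem_Cs_zpowers.2 h3)) (is2_of_sq h2)))
    (mem_sup_left (mem_zpowers t)) (mem_sup_right (mem_zpowers k)) h.inv h2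

/-- An inner involution of `C(t)`. -/
theorem inner (h : B0 e t) {b : G} (h1 : t * b = b * t) (h2 : b * b = 1)
    (hβ : Ind e b β) (h3 : out X β = 1) :
    ∃ s, s * s = 1 ∧ β = MulAut.conj s ∧ (b = e s ∨ b = t * e s) := by
  obtain ⟨s, s1, rfl, k, k1, -, rfl, -⟩ := hβ.inner h.ker h3 (is2_of_sq h2)
  have s2 : s * s = 1 := eq_one_of_center (conj_eq_one.1 (by rw [map_mul, hβ.sq h.ker h2]))
    (s1.mul s1 rfl)
  refine ⟨s, s2, rfl, (uniq h k1 ?_ ?_).imp (fun e => by rw [e, one_mul]) fun e => by rw [e]⟩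
  · rwa [mul_assoc, ← mul_assoc (e s), k1 _ ⟨s, rfl⟩, mul_assoc k, ← map_mul, s2, map_one,
      mul_one] at h2
  · rwa [mul_assoc, ← h.comm, ← mul_assoc, ← mul_assoc, mul_left_inj] at h1

theorem ca2 (h : B0 e t) {P : Subgroup G} (hP : IsSyl 2 P e.range)
    {s : G} (h1 : t * s = s * t) (h2 : s ∈ Cs P) (h3 : s * s = 1) :
    ∃ ζ, (ζ = 1 ∨ Root ζ) ∧ (s = e ζ ∨ s = t * e ζ) := by
  obtain ⟨_, ⟨p, rfl⟩, rfl⟩ := (H64.SG.syl_iff.1 syl_map_UU).exists_cj_eq hP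
  obtain ⟨β, hβ⟩ := exists_ind h.ker (h.cz (mem_Cz.2 h1))
  obtain ⟨ζ, z1, z2⟩ := mem_cI.1 (ctQ _ ((((ind_conj p).inv.mul hβ).mul (ind_conj p)).fix h.ker
    (isP_UU.to_le QQ_le_UU) fun a ha => by
      have := h2 _ (conj_mem_cj (map_mono QQ_le_UU ha))
      calc _ = (e p)⁻¹ * (e p * a * (e p)⁻¹ * s) * e p := by group
        _ = _ := by rw [this]; group))
  have z3 : β = MulAut.conj (p * ζ * p⁻¹) := by rw [map_mul, map_mul, ← z2, map_inv]; group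
  obtain ⟨s', s1, s2, s3⟩ := inner h h1 h3 hβ (z3 ▸ out_conj _)
  obtain rfl := conj_inj (is2_of_sq s1) ((is2_of_UU (ZZ_le_UU z1)).conj p) (s2.symm.trans z3)
  refine ⟨_, ?_, s3⟩
  by_cases hc : ζ = 1
  · left; simp [hc]
  · exact Or.inr ⟨p, ζ, z1, hc, rfl⟩

theorem syl_fx (h : B1 e t) {b : G} (hβ : Ind e b β) (b2 : b * b = 1)
    {P : Subgroup G} (hP : IsSyl 2 P (Cz t ⊓ Cz b)) : ∃ A, Syl A (fx β) ∧ A.map e = P ⊓ e.range ∧
      ∀ s, s ∈ A ↔ Is2 s ∧ e s ∈ P := by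
  obtain ⟨A, a1, a2, a3⟩ := exists_pre h.ker hP.isPGroup
  refine ⟨A, syl_of_map h.ker a1 (fun s hs => (hβ.comm_iff h.ker ((a3 s).1 hs).1).1
    (H64.SG.mem_Cz.1 (hP.le ((a3 s).1 hs).2).2)) ?_, a2, a3⟩
  have h2 := hP.inf_of_le_normalizer (N := e.range ⊓ Cz b) (inf_le_inf_right _ h.range_le)
    (le_normalizer_inf (hP.le.trans (inf_le_left.trans h.cz))
      (H98.le_normalizer_of_le (hP.le.trans inf_le_right)))
  rw [hβ.map_fx h.ker (is2_of_sq (hβ.sq h.ker b2)), a2, H64.SG.syl_iff]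
  rwa [← inf_assoc, inf_eq_left.2 (inf_le_left.trans (hP.le.trans inf_le_right))] at h2

theorem conj_lift {a b : X} (h : IsConj a b) : ∃ l, e l * e a * (e l)⁻¹ = e b := by
  obtain ⟨l, rfl⟩ := isConj_iff.1 h
  exact ⟨l, by simp⟩

theorem jb1 {a a' : G} (h : B0 e a) (nr0 : NR e a)
    (nr : ∀ z, Root z → ¬ IsConj a (a * e z)) {P : Subgroup G}
    (hP : IsPGroup 2 P) (h1 : Dl t P a) (h2 : Dl t P a') (h3 : a ≠ a') :
    ∃ u ∈ e.range, u ∈ Ns P ∧ u ∉ P ∧ u * u ∈ P := by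
  have hPL : P ≤ Ns e.range := fun p hp => h.cz (mem_Cz.2 (h1.2.2 p hp).symm)
  obtain ⟨S, hS, hPS⟩ := exists_isSyl_le hP (le_sup_left : P ≤ P ⊔ e.range)
  have hU := hS.inf_of_le_normalizer le_sup_right (hS.le.trans (sup_le hPL le_normalizer))
  have hc := h1.1.symm.trans h2.1
  have h4 : ¬ S ⊓ e.range ≤ P := fun h4 => by
    obtain ⟨ζ, z3, z4⟩ := ca2 h hU (h2.2.2 a h1.2.1) (centralizer_anti h4 h2.2.2)
      (H9.UF.inv2_conj h.inv hc).1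
    rcases z4 with rfl | rfl <;> rcases z3 with rfl | z3
    · exact (H9.UF.inv2_conj h.inv hc).2 (map_one e)
    · exact nr0 _ z3 hc
    · exact h3 (by simp)
    · exact nr ζ z3 hc
  have h5 : P ≤ Ns (S ⊓ e.range) := le_normalizer_inf (H98.le_normalizer_of_le hPS) hPL
  obtain ⟨s, ⟨s1, s2⟩, s3⟩ := SetLike.exists_of_lt (lt_inf_normalizer
    (hS.isPGroup.to_le (sup_le hPS inf_le_left)) (left_lt_sup.2 h4))
  obtain ⟨p, hp, u, hu, rfl⟩ := (mem_sup_left_norm h5).1 s1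
  obtain ⟨k, k1, k2⟩ := H64.SG.exists_sq_mem (isPGroup_iff_is2.1 hS.isPGroup u hu.1)
    fun h => s3 (mul_mem hp h)
  exact ⟨_, pow_mem hu.2 k, pow_mem ((mul_mem_cancel_left (le_normalizer hp)).1 s2) k, k1, k2⟩

theorem jb3 {a b u : G} {y : X} (h : B0 e a) (nr0 : NR e a)
    (nr : ∀ z, Root z → ¬ IsConj a (a * e z)) {P : Subgroup G} (M : Mx t P)
    (ha : Dl t P a) (hb : Dl t P b) (hab : a ≠ b) (hP : IsSyl 2 P (Cz a ⊓ Cz b)) (hβ : Ind e b β)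
    (h0 : out X β = 1) (y2 : Inv2 y) (y3 : e y ∈ Cs P) (u1 : u ∈ Ns P) (u2 : u ∉ P)
    (u3 : u * u ∈ P) (u4 : u * a * u⁻¹ = a) (u5 : u * e y * u⁻¹ = e y) : e y ∈ O2 (Cz b) := by
  have hc := ha.1.symm.trans hb.1
  have b2 := H9.UF.inv2_conj h.inv hc
  have e1 : a * b = b * a := hb.2.2 a ha.2.1
  obtain ⟨x, x3, rfl, k2⟩ := inner h e1 b2.1 hβ h0
  have x4 : Inv2 x := ⟨x3, by
    rintro rfl
    rcases k2 with k2 | k2
    exacts [b2.2 (by simpa using k2), hab (by simpa using k2.symm)]⟩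
  have x5 : ¬ Root x := fun h1 => k2.elim (fun k => nr0 x h1 (k ▸ hc)) fun k => nr x h1 (k ▸ hc)
  obtain ⟨A, a1, -, a3⟩ := syl_fx h.toB1 hβ b2.1 hP
  rw [H64.SG.fx_conj] at a1
  rcases FJ.a45 _ _ _ x4 x5 y2 a1 fun v hv => (e_comm_iff h.ker (is2_of_sq y2.1)).1
    (y3 _ ((a3 v).1 hv).2) with h3 | h3
  · obtain ⟨l, l2⟩ := conj_lift (e := e) h3
    have l4 := h.conj_t l
    refine absurd (M.mem ha.1 (hb.1.trans (isConj_iff.2 ⟨e l, rfl⟩)) (fun e => hab ?_) ?_ ha.2.2 ?_ u1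
      (H64.SG.is2_of_sq_mem M.1 u3) u4 ?_) u2
    · rw [← l4] at e
      simpa using e
    · nth_rewrite 1 [← l4]
      nth_rewrite 2 [← l4]
      rw [conj_mul, conj_mul, e1]
    · rcases k2 with rfl | rfl
      · rwa [l2]
      · rw [← conj_mul, l2, l4]; exact mul_mem ha.2.2 y3
    · rcases k2 with rfl | rfl
      · rw [l2, u5]
      · rw [← conj_mul (a := a), l2, l4, ← conj_mul, u4, u5]
  · have := mem_map_of_mem e h3
    rw [H64.SG.O2_eq, map_res, ← H64.SG.O2_eq, ← H64.SG.fx_conj,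
      hβ.map_fx h.ker (is2_of_sq (hβ.sq h.ker b2.1))] at this
    exact H64.SG.O2_mono inf_le_right this

theorem jb4 {a b : G} {x y : X} (h : B0 e a)
    (nr : ∀ z, Root z → ¬ IsConj a (a * e z)) {P : Subgroup G} (M : Mx t P)
    (ha : Dl t P a) (hb : Dl t P b) (hab : a ≠ b) (hP : IsSyl 2 P (Cz a ⊓ Cz b))
    (y2 : y * y = 1) (y3 : e y ∈ Cs P) (x1 : Is2 x) (hx : e x = a * b) (g1 : g ∈ Ns P)
    (g2 : g * g ∈ P) (g3 : g * a * g⁻¹ = b) (g4 : g * e y * g⁻¹ = a * b * e y) : False := by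
  have hc := ha.1.symm.trans hb.1
  have b2 := H9.UF.inv2_conj h.inv hc
  have e1 : a * b = b * a := hb.2.2 a ha.2.1
  have g5 : g * b * g⁻¹ = a := by rw [← g3]; exact ha.fix2 g2
  rw [← hx] at g4
  have x0 : b = a * e x := by rw [hx, ← mul_assoc, h.inv.1, one_mul]
  have x2 : Inv2 (e x) := ⟨by
    rw [hx, mul_assoc, ← mul_assoc b, ← e1, mul_assoc, b2.1, mul_one, h.inv.1],
    fun e => hab (by rw [x0, e, mul_one])⟩
  have x3 : Inv2 x := ⟨sq_of_e h.ker x1 x2.1, by rintro rfl; exact x2.2 (map_one e)⟩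
  have x4 : ¬ Root x := fun h1 => nr x h1 (x0 ▸ hc)
  have hβ : Ind e b (MulAut.conj x) := by simpa [← x0] using (ind_one_iff.2 h.cen).mul (ind_conj x)
  obtain ⟨A, a1, -, a3⟩ := syl_fx h.toB1 hβ b2.1 hP
  rw [H64.SG.fx_conj] at a1
  set D := Cz a ⊓ Cz b
  have hD : D ≤ Ns e.range := inf_le_left.trans h.cz
  have xD : ∀ d ∈ D, d * e x * d⁻¹ = e x := fun d hd => by
    rw [hx, ← conj_mul, ← mem_Cz.1 hd.1, ← mem_Cz.1 hd.2]; simp
  have gD : g ∈ Ns D := cj_eq_self_iff.1 (by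
    rw [cj_inf, H64.SG.cj_Cz', H64.SG.cj_Cz', g3, g5, inf_comm])
  have gx : g * e x * g⁻¹ = e x := by rw [hx, ← conj_mul, g3, g5, e1]
  have q1 : y ∈ Cs (pCoreOf 2 (Cz x)) := fun v hv => (e_comm_iff h.ker (is2_of_sq y2)).1
    (y3 _ ((a3 v).1 ((H64.SG.syl_iff.1 a1).pCoreOf_le hv)).2)
  have q2 := (ct _ _ x3 (H64.SG.isO2_pCoreOf _) y q1 (is2_of_sq y2)).1
  have y4 : e y * e y = 1 := by rw [← map_mul, y2, map_one]
  let Y : Set G := (fun d => d * e y * d⁻¹) '' D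
  have Y1 : ∀ v ∈ Y, v ∈ e.range ∧ v * v = 1 ∧ e x * v = v * e x := by
    rintro _ ⟨d, hd, rfl⟩
    refine ⟨conj_mem_of_mem_normalizer (hD hd) ⟨y, rfl⟩, by simp [conj_mul, y4], ?_⟩
    rw [← xD d hd, conj_mul, conj_mul, y3 _ (hx ▸ mul_mem ha.2.1 hb.2.1)]
  have Y2 : ∀ d ∈ D, e y * (d * e y * d⁻¹) = d * e y * d⁻¹ * e y := fun d hd => by
    obtain ⟨α, hα⟩ := exists_ind h.ker (hD hd)
    rw [hα, ← map_mul, ← map_mul, q1 (α y)]
    have d1 := (hα.eq_iff h.ker x1 x1).1 (xD d hd)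
    have d2 : (Cz x).map α.toMonoidHom = Cz x := mem_St_iff_map.1 (mem_St_of_finite fun v hv => by
      rw [mem_Cz, ← d1, ← map_mul, ← map_mul, mem_Cz.1 hv])
    rw [← d2, ← map_pCoreOf_of_injective α.injective]
    exact mem_map_of_mem α.toMonoidHom q2
  have Y3 : ∀ v ∈ insert (e x) Y, ∀ w ∈ insert (e x) Y, v * w = w * v := by
    rintro v (rfl | hv) w (rfl | hw)
    · rfl
    · exact (Y1 w hw).2.2
    · exact (Y1 v hv).2.2.symm
    · obtain ⟨d, hd, rfl⟩ := hv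
      obtain ⟨d', hd', rfl⟩ := hw
      have := congrArg (fun z => d * z * d⁻¹) (Y2 _ (mul_mem (inv_mem hd) hd'))
      simpa [mul_assoc] using this
  obtain ⟨p, p1, p2, p3, -⟩ := H64.SG.exists_prodS (closure (insert (e x) Y))
    ((closure_le _).2 fun v hv => H64.SG.mem_Cs_closure.2 fun w hw => Y3 w hw v hv)
  have Y4 : ∀ v ∈ Y, v ∈ closure (insert (e x) Y) := fun v hv => subset_closure (Or.inr hv)
  have Y5 : e x ∈ closure (insert (e x) Y) := subset_closure (Or.inl rfl)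
  have Y6 : ∀ d ∈ D, ∀ v ∈ Y, d * v * d⁻¹ ∈ Y := by
    rintro d hd _ ⟨d', hd', rfl⟩
    exact ⟨d * d', mul_mem hd hd', by group⟩
  have Y7 : ∀ v ∈ Y, e x * (g * v * g⁻¹) ∈ Y := by
    rintro _ ⟨d, hd, rfl⟩
    have d1 := conj_mem_of_mem_normalizer gD hd
    refine ⟨_, d1, ?_⟩
    calc _ = g * d * g⁻¹ * (e x * (e x * e y)) * (g * d * g⁻¹)⁻¹ := by
          rw [← mul_assoc (e x), x2.1, one_mul]
      _ = _ := by rw [← g4, ← conj_mul, xD _ d1]; group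
  have w1 : p Y ∈ e.range := p1 Y _ fun v hv => (Y1 v hv).1
  have w2 : p Y * p Y = 1 := p2 Y fun v hv => (Y1 v hv).2.1
  have w3 : ∀ d ∈ D, d * p Y * d⁻¹ = p Y := fun d hd => by
    simpa using p3 Y Y4 d (H64.SG.mem_Ns_closure (by
      rintro v (rfl | hv)
      · rwa [xD d hd]
      · exact Y4 _ (Y6 d hd v hv))) 1 (one_mem _) fun v hv => by simpa using Y6 d hd v hv
  have w4 : g * p Y * g⁻¹ = e x * p Y := by
    have h3 := p3 Y Y4 g (H64.SG.mem_Ns_closure (by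
      rintro v (rfl | hv)
      · rwa [gx]
      · exact (mul_mem_cancel_left Y5).1 (Y4 _ (Y7 v hv)))) _ Y5 Y7
    obtain ⟨k, hk⟩ : Odd Y.ncard := by
      rw [← H4.relIndex_cent_eq_ncard]
      exact (H64.SG.syl_iff.2 hP).2.2.of_dvd_nat (relIndex_dvd_of_le_left _
        fun v hv => mem_Cz.2 (y3 v hv).symm)
    rw [hk, pow_succ, pow_mul, pow_two, x2.1, one_pow, one_mul] at h3
    nth_rewrite 2 [← h3]
    rw [← mul_assoc (e x), x2.1, one_mul]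
  generalize p Y = w at *
  have key : ∀ v ∈ e.range, Inv2 v → (∀ d ∈ D, d * v * d⁻¹ = v) → IsConj t (a * v) ∧ a * v ∈ Cs P :=
    fun v v1 v2 v3 => by
      obtain ⟨v, v4, rfl⟩ := exists_sq_range h.ker v1 v2.1
      obtain ⟨l, l2⟩ := conj_lift (e := e) (FJ.g4 _ _ x3 x4 ⟨v4, by
        rintro rfl; exact v2.2 (map_one e)⟩ fun z hz => (e_comm_iff h.ker (is2_of_sq v4)).1
          (mul_inv_eq_iff_eq_mul.1 (v3 _ ⟨h.mem_Cz z, mem_Cz.2 (hβ.comm (by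
            rwa [← mem_fx, H64.SG.fx_conj]))⟩)))
      exact ⟨hb.1.trans (isConj_iff.2 ⟨e l, by rw [x0, ← conj_mul, l2, h.conj_t]⟩),
        mul_mem ha.2.2 fun z hz => mul_inv_eq_iff_eq_mul.1 (v3 z (hP.le hz))⟩
  have w5 : w ≠ 1 := by rintro rfl; exact x2.2 (by simpa using w4.symm)
  have w6 : Inv2 (e x * w) := w4 ▸ H9.UF.inv2_conj ⟨w2, w5⟩ (isConj_iff.2 ⟨g, rfl⟩)
  obtain ⟨k1, k2⟩ := key w w1 ⟨w2, w5⟩ w3
  obtain ⟨k3, k4⟩ := key _ (mul_mem ⟨x, rfl⟩ w1) w6 fun d hd => by rw [← conj_mul, xD d hd, w3 d hd]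
  have e2 := h.cen _ ⟨x, rfl⟩
  have e3 := h.cen w w1
  have e4 : e x * w = w * e x := mul_inv_eq_iff_eq_mul.1 (w3 _ (hP.le (hx ▸ mul_mem ha.2.1 hb.2.1)))
  have h4 := M.mem k1 k3 (fun e => x2.2 (by simpa using e.symm))
    (((Commute.refl a).mul_right ((Commute.symm e2).mul_right (Commute.symm e3))).mul_left
      ((show Commute w a from e3).mul_right ((Commute.symm e4).mul_right (Commute.refl w))))
    k2 k4 g1 (H64.SG.is2_of_sq_mem M.1 g2)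
    (by rw [← conj_mul, g3, w4, x0, mul_assoc, ← mul_assoc (e x), x2.1, one_mul])
    (by rw [← mul_assoc a, ← x0, ← conj_mul, g5, w4, x0, mul_assoc])
  exact hab ((ha.fix h4).symm.trans g3)

theorem jobJB : JobJB.{u} := by
  intro X _ _ _ _ G _ _ e t h ⟨b₀, b1, b2, b3⟩
  by_contra hc
  have B : ∀ a, IsConj t a → ∃ e' : X →* G, B0 e' a ∧ ∀ z, Root z → ¬ IsConj a (a * e' z) :=
    fun a ha => by
    obtain ⟨g, rfl⟩ := isConj_iff.1 ha
    refine ⟨_, h.cje g, ?_⟩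
    rintro _ ⟨p, c, hz, h1, rfl⟩ h2
    exact hc ⟨c, hz, h1, (ha.trans h2).trans (isConj_iff.2 ⟨(g * e p)⁻¹, by
      rw [cje_apply, conj_mul]; nth_rewrite 1 [← h.conj_t p]; simp [mul_assoc]⟩)⟩
  obtain ⟨P, ⟨a, b, a1, b1, hab, e1, p1, p2⟩, hM⟩ := Set.exists_max_image {Q : Subgroup G | ∃ x y,
    IsConj t x ∧ IsConj t y ∧ x ≠ y ∧ x * y = y * x ∧ Q ≤ Cz x ⊓ Cz y ∧ IsPGroup 2 Q}
    (fun Q => Nat.card Q) (Set.toFinite _)
    ⟨⊥, t, b₀, IsConj.refl t, b1, b2.symm, b3.symm, bot_le, IsPGroup.of_bot⟩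
  have M : Mx t P := ⟨p2, fun x y x1 y1 h1 h2 Q q1 q2 => hM Q ⟨x, y, x1, y1, h1, h2, q1, q2⟩⟩
  have hP : IsSyl 2 P (Cz a ⊓ Cz b) := by
    obtain ⟨S, s1, s2⟩ := exists_isSyl_le p2 p1
    exact s1.of_card_ge p2 p1 (M.2 a b a1 b1 hab e1 S s1.le s1.isPGroup)
  have key : ∀ x, IsConj t x → x ∈ Cz a ⊓ Cz b → x ∈ Cs P → Dl t P x := fun x x1 x2 x3 =>
    ⟨x1, hP.le_of_le_normalizer' (is2_of_sq (H9.UF.inv2_conj h.inv x1).1).zpowers (zpowers_le.2 x2)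
      (zpowers_le.2 (H64.SG.Cs_le_Ns P x3)) (mem_zpowers x), x3⟩
  have ha := key a a1 ⟨mem_Cz.2 rfl, mem_Cz.2 e1.symm⟩ fun p hp => (mem_Cz.1 (p1 hp).1).symm
  have hb := key b b1 ⟨mem_Cz.2 e1, mem_Cz.2 rfl⟩ fun p hp => (mem_Cz.1 (p1 hp).2).symm
  obtain ⟨ea, h1, n1⟩ := B a a1
  obtain ⟨eb, h2, n2⟩ := B b b1
  have ab := (jobAB X G ea a).1 h1
  obtain ⟨u, u0, u1, u2, u3⟩ := jb1 h1 ab.nr n1 p2 ha hb hab
  obtain ⟨v, v0, v1, v2, v3⟩ := jb1 h2 (nr h2) n2 p2 hb ha hab.symm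
  have u4 : u * a * u⁻¹ = a := by rw [h1.cen u u0, mul_inv_cancel_right]
  obtain ⟨g, g1, g2, g3⟩ := H64.SG.step2 M ha hb hab u1 u2 u3 u4 v1 v2 v3
    (by rw [h2.cen v v0, mul_inv_cancel_right])
  obtain ⟨p, q1, q2, q3, q4⟩ := H64.SG.exists_prodS (P ⊓ Cs P) fun x hx y hy => hx.2 y hy.1
  have s1 : p {x | Dl t P x} ∈ P ⊓ Cs P := q1 _ _ fun x hx => hx.2
  have s2 := q2 {x | Dl t P x} fun x hx => (H9.UF.inv2_conj h.inv hx.1).1
  have s3 : ∀ n ∈ Ns P, n * p {x | Dl t P x} * n⁻¹ = p {x | Dl t P x} := fun n hn => by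
    simpa using q3 {x | Dl t P x} (fun x hx => hx.2) n (le_normalizer_inf le_rfl
      (normalizer_le_normalizer_centralizer P) hn) 1 (one_mem _)
      fun x hx => by simpa using Dl.conj hx hn
  have s4 := q4 {x | Dl t P x} (fun x hx => hx.2) a ha ea.range (fun x => u * x * u⁻¹) fun x hx x1 =>
    ⟨Dl.conj hx u1, fun e => x1 (by rw [← u4] at e; simpa using e),
      fun e => x1 (M.fix hx ha u1 u2 u3 e u4), Dl.fix2 hx u3,
      by
        have x2 : x ∈ Ns ea.range := h1.cz (mem_Cz.2 (hx.2.2 a ha.2.1))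
        have := mul_mem (conj_mem_of_mem_normalizer x2 u0) (inv_mem u0)
        rwa [inv_eq_of_mul_eq_one_right (H9.UF.inv2_conj h.inv hx.1).1, mul_assoc x, mul_assoc x]
          at this⟩
  generalize p {x | Dl t P x} = σ at *
  rw [h1.inv_eq] at s4
  have e2 := s1.2 a ha.2.1
  have y2 : a * σ * (a * σ) = 1 := by
    rw [mul_assoc, ← mul_assoc σ, ← e2, mul_assoc, s2, mul_one, h1.inv.1]
  have y3 := mul_mem ha.2 s1
  have g4 : g * (a * σ) * g⁻¹ = b * σ := by rw [← conj_mul, g3, s3 g g1]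
  have y4 : a * σ ≠ 1 := fun e => hab (mul_right_cancel (b := σ) (by rw [← g4, e]; simp))
  have g5 : g * b * g⁻¹ = a := by rw [← g3]; exact ha.fix2 g2
  have e3 : a * σ * (b * σ) = a * b := by
    rw [mul_assoc, ← mul_assoc σ, ← s1.2 b hb.2.1, mul_assoc, s2, mul_one]
  have u5 : u * (a * σ) * u⁻¹ = a * σ := by rw [← conj_mul, u4, s3 u u1]
  obtain ⟨y, y5, hy⟩ := exists_sq_range h1.ker s4 y2
  rw [← hy] at y2 y3 g4 y4 e3 u5
  obtain ⟨β, hβ⟩ := exists_ind h1.ker (h1.cz (mem_Cz.2 e1))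
  by_cases h0 : out X β = 1
  · have y6 : b * σ ∈ ea.range := by
      rw [← g4]
      refine ab.ol _ ?_ ((is2_of_sq y2).conj g)
      have := conj_mem_cj (g := g) (jb3 h1 ab.nr n1 M ha hb hab hP hβ h0
        ⟨y5, by rintro rfl; exact y4 (map_one ea)⟩ y3.2 u1 u2 u3 u4 u5)
      rwa [H64.SG.O2_eq, cj_res, ← H64.SG.O2_eq, H64.SG.cj_Cz', g5] at this
    obtain ⟨x, x1, hx⟩ := exists_is2_range (e := ea) (e3 ▸ mul_mem (ea.mem_range.2 ⟨y, rfl⟩) y6)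
      (isPGroup_iff_is2.1 p2 _ (mul_mem ha.2.1 hb.2.1))
    exact jb4 h1 n1 M ha hb hab hP y5 y3.2 x1 hx g1 g2 g3
      (by rw [g4, hy, e1, mul_assoc, ← mul_assoc a, h1.inv.1, one_mul])
  · have f := FF.ff β (hβ.sq h1.ker h2.inv.1) h0
    obtain ⟨A', a2, -, a3⟩ := syl_fx h1.toB1 hβ h2.inv.1 hP
    have h3 := mem_map_of_mem ea (f A' y a2 ((a3 y).2 ⟨is2_of_sq y5, y3.1⟩) (fun v hv =>
      (e_comm_iff h1.ker (is2_of_sq y5)).1 (y3.2 _ ((a3 v).1 hv).2)) y5)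
    rw [map_commutator, hβ.map_fx h1.ker (is2_of_sq (hβ.sq h1.ker h2.inv.1))] at h3
    have h4 := conj_mem_cj (g := g) (commutator_mono inf_le_right inf_le_right h3)
    rw [cj, map_commutator, ← cj, H64.SG.cj_Cz', g5, g4] at h4
    have h5 : Ind ea (b * σ) ((MulAut.conj y)⁻¹ * β) := by
      simpa [← e3] using (ind_conj y).inv.mul ((ind_one_iff.2 h1.cen).mul hβ)
    have h6 := out_of_commutator h1.ker h5 (commutator_mono h1.cz h1.cz h4)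
    rw [map_mul, map_inv, out_conj, inv_one, one_mul] at h6
    exact h0 h6

end H81.GA
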