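import Cfsg.Agent.H81.UAYK
import Cfsg.Agent.H81.GAAB
import Cfsg.Agent.H66.GAW0

/-! STD-UM, slot SF: the Steinberg relations of `SL_(n+1)(K)` from the transvections `Y v u`. -/

set_option autoImplicit false
set_option linter.unusedSectionVars false

namespace H81.UAF

open H64.SG (Cz mem_Cz mem_fx)
open Matrix Subgroup H67 H67.UA H81.UAW
open H67.SA (SLn la cm StR)
open H67.GA (B1 CH CF)

universe u

section Grp

variable {G : Type*} [Group G] {α : Type*}

theorem prod_mul {f g : α → G} (l : List α) (h : ∀ a ∈ l, ∀ b ∈ l, Commute (g a) (f b)) :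
    (l.map fun a => f a * g a).prod = (l.map f).prod * (l.map g).prod := by
  induction l with
  | nil => simp
  | cons a l ih =>
    have c : Commute (g a) (l.map f).prod := Commute.list_prod_right _ _ fun x hx => by
      obtain ⟨b, hb, rfl⟩ := List.mem_map.1 hx
      exact h a (by simp) b (by simp [hb])
    simp only [List.map_cons, List.prod_cons]
    rw [ih fun x hx y hy => h x (by simp [hx]) y (by simp [hy]), mul_assoc, ← mul_assoc (g a), c.eq]
    simp only [mul_assoc]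

theorem conj_prod (A : G) (f : α → G) (l : List α) :
    A * (l.map f).prod * A⁻¹ = (l.map fun a => A * f a * A⁻¹).prod := by
  induction l with
  | nil => simp
  | cons a l ih => simp only [List.map_cons, List.prod_cons]; rw [← ih, conj_mul]

theorem cm_prod {A : G} {f g : α → G} (l : List α) (h : ∀ a ∈ l, cm A (f a) = g a)
    (h' : ∀ a ∈ l, ∀ b ∈ l, Commute (f a) (g b)) : cm A (l.map f).prod = (l.map g).prod := by
  rw [cm, conj_prod, mul_inv_eq_iff_eq_mul, ← prod_mul l h']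
  exact congrArg _ (List.map_congr_left fun a ha => by rw [← h a ha, cm, inv_mul_cancel_right])

theorem comm_prod {A : G} {f : α → G} (l : List α) (h : ∀ a ∈ l, Commute (f a) A) :
    Commute (l.map f).prod A := Commute.list_prod_left _ _ fun x hx => by
  obtain ⟨b, hb, rfl⟩ := List.mem_map.1 hx
  exact h b hb

theorem cm_swap {A B C : G} (h : cm A B = C) (h2 : C * C = 1) : cm B A = C := by
  rw [← inv_eq_of_mul_eq_one_right h2, ← h]; simp only [cm]; group

theorem hall {A B C D E : G} (h1 : Commute A C) (h2 : cm B C = D) (h3 : D * D = 1) (h4 : cm A D = E)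
    (h5 : E * E = 1) (h6 : Commute D (cm A B)) : cm (cm A B) C = E := by
  have e1 : C * B * C⁻¹ = D * B := by
    rw [← inv_eq_of_mul_eq_one_right h3, ← h2]; simp only [cm]; group
  have e2 : C * A * C⁻¹ = A := by rw [← h1.eq, mul_inv_cancel_right]
  calc cm (cm A B) C = cm A B * (cm (C * A * C⁻¹) (C * B * C⁻¹))⁻¹ := by simp only [cm]; group
    _ = cm A B * (cm A D * (D * cm A B) * D⁻¹)⁻¹ := by rw [e1, e2]; simp only [cm]; group
    _ = E := by
      rw [h6.eq, h4]
      generalize cm A B = F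
      rw [show F * (E * (F * D) * D⁻¹)⁻¹ = F * F⁻¹ * E⁻¹ by group, mul_inv_cancel, one_mul,
        inv_eq_of_mul_eq_one_right h5]

end Grp

/-- `r` avoids the pair of `a`. -/
def Av {n : ℕ} (r a : Fin (n + 1)) : Prop := r ≠ a ∧ r ≠ a.rev

theorem exI {n : ℕ} (h : 5 ≤ n) (a b : Fin (n + 1)) : ∃ r : Fin (n + 1), r ≠ r.rev ∧ Av r a ∧ Av r b := by
  by_contra hn
  push Not at hn
  have h0 := hn ⟨0, by omega⟩
  have h1 := hn ⟨1, by omega⟩
  have h2 := hn ⟨2, by omega⟩
  simp only [Av, Ne, Fin.ext_iff, Fin.val_rev] at h0 h1 h2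
  omega

variable {n : ℕ} {K : Type} [Field K] [StarRing K] [CharP K 2] [Finite K]
variable {G : Type u} [Group G] {t : G}

/-- The remaining relations follow from the good ones. -/
theorem str_of (hn : 5 ≤ n) {y : Fin (n + 1) → Fin (n + 1) → K → G}
    (add : ∀ i j, i ≠ j → ∀ a b, y i j (a + b) = y i j a * y i j b)
    (T : ∀ i j, i ≠ j → ∀ a, t * y i j a * t⁻¹ = y j.rev i.rev (star a))
    (G1 : ∀ i j k l, i ≠ j → k ≠ l → j ≠ k → i ≠ l → ¬ (l = j.rev ∧ k = i.rev) → ∀ a b,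
      Commute (y i j a) (y k l b))
    (G2 : ∀ i j k, i ≠ j → j ≠ k → i ≠ k → j ≠ i.rev → k ≠ j.rev → ∀ a b,
      cm (y i j a) (y j k b) = y i k (a * b)) : StR y := by
  have sq : ∀ i j, i ≠ j → ∀ a, y i j a * y i j a = 1 := fun i j h a => by
    have h0 := add i j h 0 0
    rw [add_zero, left_eq_mul] at h0
    rw [← add i j h, CharTwo.add_self_eq_zero, h0]
  have m1 : ∀ i k, i ≠ i.rev → i.rev ≠ k → i ≠ k → ∀ a b,
      cm (y i i.rev a) (y i.rev k b) = y i k (a * b) := fun i k h1 h2 h3 a b => by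
    obtain ⟨r, -, r1, r2⟩ := exI hn i k
    simp only [Av, Ne, Fin.ext_iff, Fin.val_rev] at h1 h2 h3 r1 r2
    have o : ∀ {p : Prop}, (r.val ≠ i.val → p) → p := fun h => h r1.1
    have e := G2 i r i.rev (by grind) (by grind) (by grind) (by grind) (by grind) a 1
    rw [mul_one] at e
    rw [← e]
    refine hall (G1 _ _ _ _ (by grind) (by grind) (by grind) (by grind) (by grind) _ _)
      (G2 _ _ _ (by grind) (by grind) (by grind) (by grind) (by grind) _ _) (sq _ _ (by grind) _)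
      (by rw [G2 _ _ _ (by grind) (by grind) (by grind) (by grind) (by grind), one_mul])
      (sq _ _ (by grind) _) ?_
    rw [e]
    exact G1 _ _ _ _ (by grind) (by grind) (by grind) (by grind) (by grind) _ _
  refine ⟨add, fun i j k l h1 h2 h3 h4 a b => ?_, fun i j k h1 h2 h3 a b => ?_⟩
  · by_cases c : l = j.rev ∧ k = i.rev
    · obtain ⟨rfl, rfl⟩ := c
      obtain ⟨r, -, r1, r2⟩ := exI hn i j
      simp only [Av, Ne, Fin.ext_iff, Fin.val_rev] at h1 h2 h3 h4 r1 r2
      have e := G2 i r j (by grind) (by grind) (by grind) (by grind) (by grind) a 1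
      rw [mul_one] at e
      have c1 := G1 i r i.rev j.rev (by grind) (by grind) (by grind) (by grind) (by grind) a b
      have c2 := G1 r j i.rev j.rev (by grind) (by grind) (by grind) (by grind) (by grind) 1 b
      rw [← e]
      exact ((c1.mul_left c2).mul_left c1.inv_left).mul_left c2.inv_left
    · exact G1 i j k l h1 h2 h3 h4 c a b
  · by_cases c : j = i.rev
    · subst c; exact m1 i k h1 h2 h3 a b
    by_cases c' : k = j.rev
    · subst c'
      have e := cm_swap (m1 j i.rev h2 (Fin.rev_injective.ne h1.symm) c (star b) (star a))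
        (sq _ _ c _)
      apply (MulAut.conj t).injective
      simp only [cm, map_mul, map_inv, MulAut.conj_apply, T _ _ h1, T _ _ h2, T _ _ h3, Fin.rev_rev]
      rw [star_mul]
      exact e
    · exact G2 i j k h1 h2 h3 c c' a b

variable {e : XU n K →* G} {Y : Vn n K → Vn n K → G}

section YK

variable (h : YK e t Y)
include h

theorem Y0 {u : Vn n K} (hu : Iso u) : Y 0 u = 1 := by
  have p : Pp u 0 := ⟨hu, by simp [Iso], by simp⟩
  have := h.add u 0 0 p p (pp_self p.r)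
  rwa [add_zero, left_eq_mul] at this

theorem Ysq {u v : Vn n K} (p : Pp u v) : Y v u * Y v u = 1 := by
  rw [← h.add u v v p p (pp_self p.r), v_add_self, Y0 h p.l]

theorem c2 {u v w x : Vn n K} (p : Pp u v) (q : Pp w x) (a1 : hf x u = 0) (a2 : hf v w = 0)
    (a3 : hf v x = 0) : Commute (Y v u) (Y x w) := by
  have := h.c1 v u x w p.symm q.symm (hf_symm a2) (hf_symm a1) a3
  rw [← h.tc _ _ p, ← h.tc _ _ q, conj_mul, conj_mul] at this
  show Y v u * Y x w = Y x w * Y v u
  simpa using this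

theorem R_add {v : Vn n K} {l : List (Vn n K)} (hl : ∀ u ∈ l, Pp u v) (a b : K) :
    (l.map (Y ((a + b) • v))).prod = (l.map (Y (a • v))).prod * (l.map (Y (b • v))).prod := by
  rw [← prod_mul l fun x hx y hy => c2 h (pp_smul (hl x hx) b) (pp_smul (hl y hy) a)
    (pp_smul (hl x hx) a).symm.p (pp_smul (hl y hy) b).symm.p ((pp_self (hl x hx).r).smul _ _).p]
  exact congrArg _ (List.map_congr_left fun u hu => by
    rw [add_smul, h.add _ _ _ (pp_smul (hl u hu) a) (pp_smul (hl u hu) b)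
      ((pp_self (hl u hu).r).smul _ _)])

theorem R_sq {v : Vn n K} {l : List (Vn n K)} (hl : ∀ u ∈ l, Pp u v) (a : K) :
    (l.map (Y (a • v))).prod * (l.map (Y (a • v))).prod = 1 := by
  have h0 := R_add h hl 0 0
  rw [add_zero, left_eq_mul] at h0
  rw [← R_add h hl, CharTwo.add_self_eq_zero, h0]

theorem R_zero {v : Vn n K} {l : List (Vn n K)} (hl : ∀ u ∈ l, Pp u v) (h0 : l.sum = 0) {g : XU n K}
    {κ m : K} (hκ : nm κ = 1) (gv : ac g v = κ • v) (gu : ∀ u ∈ l, ac g u = m • u)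
    (h1 : star m * κ ≠ 1) (b : K) : (l.map (Y (b • v))).prod = 1 := by
  have k : ∀ a : K, (l.map (Y ((star m * κ * a) • v))).prod = (l.map (Y (a • v))).prod := fun a => by
    have := h.zc (a • v) l g κ (fun u hu => pp_smul (hl u hu) a) h0 hκ (by rw [ac_smul, gv, smul_comm])
    rw [← mul_inv_eq_iff_eq_mul, conj_prod] at this
    rw [← this]
    exact congrArg _ (List.map_congr_left fun u hu => by
      rw [h.ec _ _ _ (pp_smul (hl u hu) a), ac_smul, gv, gu u hu, smul_smul, mul_assoc, mul_smul,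
        h.scal _ _ _ (pp_smul (hl u hu) _), star_star, mul_comm])
  have s0 : star m * κ + 1 ≠ 0 := fun e => h1 (by linear_combination e - two0 K)
  rw [show b = star m * κ * ((star m * κ + 1)⁻¹ * b) + (star m * κ + 1)⁻¹ * b by field_simp,
    R_add h hl, k, R_sq h hl]

end YK

/-- Isotropic vectors with sum `e_μ`. -/
def ls (η : K) (μ r : Fin (n + 1)) : List (Vn n K) := [ev μ + ev r + η • ev r.rev, ev r, η • ev r.rev]

theorem ls_sum (η : K) (μ r : Fin (n + 1)) : (ls η μ r).sum = ev μ := by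
  simp only [ls, List.sum_cons, List.sum_nil, add_zero]
  rw [add_assoc (ev μ), add_assoc, v_add_self, add_zero]

theorem ls_pp {η : K} (hη : tr η = 1) {μ r k : Fin (n + 1)} (hμ : μ = μ.rev) (hr : r ≠ r.rev)
    (hk : k ≠ k.rev) (h : Av r k) : ∀ u ∈ ls η μ r, Pp u (ev k) := by
  have a1 : μ ≠ r.rev := fun e => hr (by grind)
  have a2 : r ≠ μ.rev := fun e => hr (by grind)
  have a3 : k ≠ μ.rev := fun e => hk (by grind)
  have a4 : k ≠ r.rev := fun e => h.2 (by grind)
  have a5 : r.rev ≠ μ.rev := fun e => hr (by grind)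
  have a6 : μ ≠ r := fun e => hr (by grind)
  have i1 : Iso (ev r.rev : Vn n K) := ev_iso (by simpa using hr.symm)
  simp only [ls, List.forall_mem_cons, List.not_mem_nil, false_imp_iff, implies_true, and_true]
  refine ⟨⟨?_, ev_iso hk, ?_⟩, ⟨ev_iso hr, ev_iso hk, ?_⟩, i1.smul _, ev_iso hk, ?_⟩
  · simp only [Iso, hf_add_left, hf_add_right, hf_smul_left, hf_smul_right, hf_ev, Fin.rev_rev, a1, a2,
      a5, a6, hr, hr.symm, if_pos hμ, if_true, if_false, mul_zero, add_zero, zero_add, mul_one]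
    linear_combination hη + two0 K
  all_goals simp [hf_add_left, hf_smul_left, hf_ev, a3, a4, h.1.symm]

theorem dd_mid {i : Fin (n + 1)} (h : i = i.rev) (l : K) : ∏ k, dd i l k = l := by
  simp [dd, ← h]

theorem R_ind [hp : Par n K] [FQ K] [FV n K] (h : YK e t Y) {η : K} (hη : tr η = 1)
    {μ i r s : Fin (n + 1)} (hμ : μ = μ.rev) (hi : i ≠ i.rev) (hr : r ≠ r.rev) (hs : s ≠ s.rev)
    (h1 : Av r i) (h2 : Av s i) (a : K) :
    ((ls η μ r).map (Y (a • ev i))).prod = ((ls η μ s).map (Y (a • ev i))).prod := by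
  suffices key : ∀ r s : Fin (n + 1), r ≠ r.rev → s ≠ s.rev → Av r i → Av s i → Av s r →
      ((ls η μ r).map (Y (a • ev i))).prod = ((ls η μ s).map (Y (a • ev i))).prod by
    by_cases c : Av s r
    · exact key r s hr hs h1 h2 c
    obtain ⟨p, p1, p2, p3⟩ := exI hp.five i r
    rw [key r p hr p1 h1 p2 p3, key s p hs p1 h2 p2 (by unfold Av at *; grind)]
  intro r s hr hs h1 h2 h3
  obtain ⟨ξ, x1, x2⟩ := FQ.n7 (K := K)
  have x0 : ξ ≠ 0 := fun e => by simp [e] at x1
  have x3 : star ξ = ξ⁻¹ := eq_inv_of_mul_eq_one_right x1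
  have n2 : nm (ξ ^ 2) = 1 := by rw [nm, star_pow, ← mul_pow, show ξ * star ξ = 1 from x1, one_pow]
  have n5 : nm (ξ⁻¹ ^ 5) = 1 := by
    rw [nm, star_pow, star_inv₀, ← mul_pow, ← mul_inv, show ξ * star ξ = 1 from x1]; simp
  obtain ⟨g, -, -, hg⟩ := FV.diag (n := n)
    (fun k => dd i (ξ⁻¹ ^ 5) k * dd r (ξ ^ 2) k * dd s (ξ ^ 2) k * dd μ (ξ ^ 2) k) (fun k => by
      simp only [star_mul']
      calc _ = dd i (ξ⁻¹ ^ 5) k * star (dd i (ξ⁻¹ ^ 5) k.rev) * (dd r (ξ ^ 2) k * star (dd r (ξ ^ 2) k.rev))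
          * (dd s (ξ ^ 2) k * star (dd s (ξ ^ 2) k.rev)) * (dd μ (ξ ^ 2) k * star (dd μ (ξ ^ 2) k.rev)) := by
            ring
        _ = 1 := by rw [dd_nm _ n5, dd_nm _ n2, dd_nm _ n2, dd_nm _ n2]; simp) (by
      simp only [Finset.prod_mul_distrib, dd_prod hi, dd_prod hr, dd_prod hs, dd_mid hμ]
      field_simp)
  have g1 : ∀ k, ac g (ev k) =
      (dd i (ξ⁻¹ ^ 5) k * dd r (ξ ^ 2) k * dd s (ξ ^ 2) k * dd μ (ξ ^ 2) k) • ev k := fun k =>
    funext fun a => by
      rw [hg, Pi.smul_apply, ev_apply]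
      split_ifs with e <;> simp [e]
  have g2 : ∀ k, k = μ ∨ k = r ∨ k = r.rev ∨ k = s ∨ k = s.rev → ac g (ev k) = ξ ^ 2 • ev k :=
    fun k hk => by
      rw [g1]
      unfold Av at *
      unfold dd
      split_ifs <;> first | (exfalso; grind) | simp
  have := R_zero h (v := ev i) (l := ls η μ r ++ ls η μ s) (List.forall_mem_append.2
    ⟨ls_pp hη hμ hr hi h1, ls_pp hη hμ hs hi h2⟩) (by rw [List.sum_append, ls_sum, ls_sum, v_add_self])
    (g := g) (m := ξ ^ 2) n5 (by
      rw [g1]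
      unfold Av at *
      unfold dd
      split_ifs <;> first | (exfalso; grind) | simp) (by
      simp [ls, ac_add, ac_smul, g2, smul_comm η]) (fun e => x2 (by
      rw [star_pow, x3, ← pow_add, inv_pow, inv_eq_one] at e; exact e)) a
  rw [List.map_append, List.prod_append] at this
  rw [eq_inv_of_mul_eq_one_left this, inv_eq_of_mul_eq_one_right (R_sq h (ls_pp hη hμ hs hi h2) a)]

variable (t Y) in
/-- The root elements. -/
def yy (η : K) (ρ : Fin (n + 1) → Fin (n + 1)) (i j : Fin (n + 1)) (a : K) : G :=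
  if j = j.rev then ((ls η j (ρ i)).map (Y (a • ev i))).prod
  else if i = i.rev then t * ((ls η i (ρ j.rev)).map (Y (star a • ev j.rev))).prod * t⁻¹
  else Y (a • ev i) (ev j.rev)

theorem ppi {i j : Fin (n + 1)} (hi : i ≠ i.rev) (hj : j ≠ j.rev) (h : i ≠ j) (a : K) :
    Pp (ev j.rev) (a • ev i : Vn n K) :=
  pp_smul (pp_ev (by simpa using hj.symm) hi (by simpa using h)) a

theorem hfe {i j : Fin (n + 1)} (h : j ≠ i.rev) (a : K) : hf (a • ev i : Vn n K) (ev j) = 0 := by
  rw [hf_smul_left, hf_ev, if_neg h, mul_zero]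

section Rel

variable [hp : Par n K] [FQ K] [FV n K] (h : YK e t Y) (tt : t * t = 1) {η : K} (hη : tr η = 1)
  {ρ : Fin (n + 1) → Fin (n + 1)} (hρ : ∀ i, ρ i ≠ (ρ i).rev ∧ Av (ρ i) i)

omit hp in
theorem yy_iso {i j : Fin (n + 1)} (hi : i ≠ i.rev) (hj : j ≠ j.rev) (a : K) :
    yy t Y η ρ i j a = Y (a • ev i) (ev j.rev) := by rw [yy, if_neg hj, if_neg hi]

include h hη hρ

theorem yy_mid {i μ r : Fin (n + 1)} (hi : i ≠ i.rev) (hμ : μ = μ.rev) (hr : r ≠ r.rev) (h1 : Av r i)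
    (a : K) : yy t Y η ρ i μ a = ((ls η μ r).map (Y (a • ev i))).prod := by
  rw [yy, if_pos hμ, R_ind h hη hμ hi (hρ i).1 hr (hρ i).2 h1]

include tt

theorem yy_T (i j : Fin (n + 1)) (hij : i ≠ j) (a : K) :
    t * yy t Y η ρ i j a * t⁻¹ = yy t Y η ρ j.rev i.rev (star a) := by
  by_cases hj : j = j.rev
  · have hi : i ≠ i.rev := by grind
    rw [yy, if_pos hj, yy, if_neg (by grind), if_pos (by grind), star_star, Fin.rev_rev, ← hj]
  by_cases hi : i = i.rev
  · rw [yy, if_neg hj, if_pos hi, conj2 tt, yy, if_pos (by grind), ← hi]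
  · rw [yy_iso hi hj, yy_iso (by grind) (by grind), h.tc _ _ (ppi hi hj hij a), Fin.rev_rev,
      h.scal _ _ _ (by simpa using (ppi hi hj hij (1 : K)).symm), star_star]

theorem yy_add (i j : Fin (n + 1)) (hij : i ≠ j) (a b : K) :
    yy t Y η ρ i j (a + b) = yy t Y η ρ i j a * yy t Y η ρ i j b := by
  by_cases hj : j = j.rev
  · simp only [yy, if_pos hj]
    exact R_add h (ls_pp hη hj (hρ i).1 (by grind) (hρ i).2) a b
  by_cases hi : i = i.rev
  · simp only [yy, if_neg hj, if_pos hi]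
    rw [star_add, R_add h (ls_pp hη hi (hρ _).1 (by grind) (hρ _).2), conj_mul]
  · simp only [yy_iso hi hj]
    rw [add_smul, h.add _ _ _ (ppi hi hj hij a) (ppi hi hj hij b) ((pp_self (ev_iso hi)).smul _ _)]

theorem yy_G1 (i j k l : Fin (n + 1)) (h1 : i ≠ j) (h2 : k ≠ l) (h3 : j ≠ k) (h4 : i ≠ l)
    (h5 : ¬ (l = j.rev ∧ k = i.rev)) (a b : K) : Commute (yy t Y η ρ i j a) (yy t Y η ρ k l b) := by
  have A : ∀ i j k l : Fin (n + 1), i ≠ j → k ≠ l → j ≠ k → i ≠ l → ¬ (l = j.rev ∧ k = i.rev) →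
      j = j.rev → ∀ a b, Commute (yy t Y η ρ i j a) (yy t Y η ρ k l b) := by
    intro i j k l h1 h2 h3 h4 h5 hj a b
    have hi : i ≠ i.rev := by grind
    have hk : k ≠ k.rev := by grind
    by_cases hl : l = l.rev
    · obtain ⟨r, r0, r1, r2⟩ := exI hp.five i k
      rw [yy_mid h hη hρ hi hj r0 r1, yy_mid h hη hρ hk hl r0 r2]
      refine comm_prod _ fun u hu => (comm_prod _ fun w hw => ?_).symm
      exact c2 h (pp_smul (ls_pp hη hl r0 hk r2 w hw) b) (pp_smul (ls_pp hη hj r0 hi r1 u hu) a)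
        (pp_smul (ls_pp hη hl r0 hi r1 w hw) a).symm.p (pp_smul (ls_pp hη hj r0 hk r2 u hu) b).symm.p
        ((pp_ev hk hi (by grind)).smul b a).p
    rw [yy_iso hk hl]
    by_cases c : k = i.rev
    · obtain ⟨r, r0, r1, r2⟩ := exI hp.five i l
      rw [yy_mid h hη hρ hi hj r0 r1]
      exact comm_prod _ fun u hu => h.c1 _ _ _ _ (pp_smul (ls_pp hη hj r0 hi r1 u hu) a)
        (ppi hk hl h2 b) (pp_smul (ls_pp hη hj r0 hk (by unfold Av at *; grind) u hu) b).symm.p
        (hfe (by grind) a) (ls_pp hη hj r0 (by grind) (by unfold Av at *; grind) u hu).p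
    · obtain ⟨r, r0, r1, r2⟩ := exI hp.five i k
      rw [yy_mid h hη hρ hi hj r0 r1]
      exact comm_prod _ fun u hu => c2 h (pp_smul (ls_pp hη hj r0 hi r1 u hu) a)
        (ppi hk hl h2 b) (pp_smul (ls_pp hη hj r0 hk r2 u hu) b).symm.p
        (hfe (by grind) a) ((pp_ev hi hk c).smul a b).p
  have B : ∀ i j k l : Fin (n + 1), i ≠ j → k ≠ l → j ≠ k → i ≠ l → ¬ (l = j.rev ∧ k = i.rev) →
      i = i.rev → ∀ a b, Commute (yy t Y η ρ i j a) (yy t Y η ρ k l b) := by
    intro i j k l h1 h2 h3 h4 h5 hi a b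
    have := A j.rev i.rev l.rev k.rev (by grind) (by grind) (by grind) (by grind) (by grind)
      (by grind) (star a) (star b)
    rw [← yy_T h tt hη hρ _ _ h1, ← yy_T h tt hη hρ _ _ h2] at this
    exact (Commute.conj_iff t).1 this
  by_cases hj : j = j.rev
  · exact A i j k l h1 h2 h3 h4 h5 hj a b
  by_cases hi : i = i.rev
  · exact B i j k l h1 h2 h3 h4 h5 hi a b
  by_cases hl : l = l.rev
  · exact (A k l i j h2 h1 h4.symm h3.symm (by grind) hl b a).symm
  by_cases hk : k = k.rev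
  · exact (B k l i j h2 h1 h4.symm h3.symm (by grind) hk b a).symm
  rw [yy_iso hi hj, yy_iso hk hl]
  by_cases c : k = i.rev
  · exact h.c1 _ _ _ _ (ppi hi hj h1 a) (ppi hk hl h2 b) (hfe (by grind) b) (hfe (by grind) a)
      (by rw [hf_ev, if_neg (by grind)])
  · exact c2 h (ppi hi hj h1 a) (ppi hk hl h2 b) (hfe (by grind) b) (hfe (by grind) a)
      ((pp_ev hi hk c).smul a b).p

theorem yy_G2 (i j k : Fin (n + 1)) (h1 : i ≠ j) (h2 : j ≠ k) (h3 : i ≠ k) (h4 : j ≠ i.rev)
    (h5 : k ≠ j.rev) (a b : K) :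
    cm (yy t Y η ρ i j a) (yy t Y η ρ j k b) = yy t Y η ρ i k (a * b) := by
  have hb : ∀ (j : Fin (n + 1)) (b : K), hf (b • ev j : Vn n K) (ev j.rev) = b := fun j b => by
    rw [hf_smul_left, hf_ev, if_pos rfl, mul_one]
  have A : ∀ i j k : Fin (n + 1), i ≠ j → j ≠ k → i ≠ k → j ≠ i.rev → k = k.rev → ∀ a b,
      cm (yy t Y η ρ i j a) (yy t Y η ρ j k b) = yy t Y η ρ i k (a * b) := by
    intro i j k h1 h2 h3 h4 hk a b
    have hi : i ≠ i.rev := by grind
    have hj : j ≠ j.rev := by grind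
    obtain ⟨r, r0, r1, r2⟩ := exI hp.five i j
    have pi := ls_pp hη hk r0 hi r1
    have pj := ls_pp hη hk r0 hj r2
    rw [yy_iso hi hj, yy_mid h hη hρ hj hk r0 r2, yy_mid h hη hρ hi hk r0 r1]
    refine cm_prod _ (fun w hw => ?_) fun u hu w hw => c2 h (pp_smul (pj u hu) b) (pp_smul (pi w hw) _)
      (pp_smul (pi u hu) _).symm.p (pp_smul (pj w hw) b).symm.p ((pp_ev hi hj h4).symm.smul _ _).p
    rw [h.m1 _ _ _ _ (ppi hi hj h1 a) (pp_smul (pj w hw) b) (pp_smul (pi w hw) a).symm.p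
      (ls_pp hη hk r0 (by grind) (by unfold Av at *; grind) w hw).symm.p ((pp_ev hi hj h4).smul a b).p,
      hb, smul_smul, mul_comm]
  by_cases hk : k = k.rev
  · exact A i j k h1 h2 h3 h4 hk a b
  by_cases hi : i = i.rev
  · have e1 := A k.rev j.rev i.rev (by grind) (by grind) (by grind) (by grind) (by grind) (star b) (star a)
    have e2 := yy_add h tt hη hρ k.rev i.rev (by grind) 0 0
    rw [add_zero, left_eq_mul] at e2
    have e3 := cm_swap e1 (by
      rw [← yy_add h tt hη hρ _ _ (by grind), CharTwo.add_self_eq_zero, e2])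
    apply (MulAut.conj t).injective
    simp only [cm, map_mul, map_inv, MulAut.conj_apply, yy_T h tt hη hρ _ _ h1, yy_T h tt hη hρ _ _ h2,
      yy_T h tt hη hρ _ _ h3]
    rw [star_mul]
    exact e3
  by_cases hj : j = j.rev
  · obtain ⟨r, r0, r1, r2⟩ := exI hp.five i k
    have hk' : k.rev ≠ k.rev.rev := by grind
    have pi := ls_pp hη hj r0 hi r1
    have pk := ls_pp hη hj r0 hk' (by unfold Av at *; grind)
    have p0 := ppi (K := K) hi hk h3
    have e1 : yy t Y η ρ j k b = ((ls η j r).map fun x => Y (b • x) (ev k.rev)).prod := by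
      rw [← star_star b, ← Fin.rev_rev k, hj, ← yy_T h tt hη hρ _ _ (by grind), Fin.rev_rev,
        yy_mid h hη hρ hk' hj r0 (by unfold Av at *; grind), conj_prod, ← hj, star_star]
      exact congrArg _ (List.map_congr_left fun x hx => by
        rw [h.tc _ _ (pp_smul (pk x hx) _), h.scal _ _ _ (pk x hx).symm])
    have s1 : ∀ (l : List (Vn n K)) (f : Vn n K → K),
        (l.map fun x => Y (f x • ev i) (ev k.rev)).prod = Y ((l.map f).sum • ev i) (ev k.rev) :=
      fun l f => by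
        induction l with
        | nil => simpa using (Y0 h (p0 1).l).symm
        | cons x l ih =>
          simp only [List.map_cons, List.prod_cons, List.sum_cons]
          rw [ih, add_smul, h.add _ _ _ (p0 _) (p0 _) ((pp_self (ev_iso hi)).smul _ _)]
    have e2 : ∀ u ∈ ls η j r, cm (yy t Y η ρ j k b) (Y (a • ev i) u) =
        Y ((a * b * hf (ev j) u) • ev i) (ev k.rev) := fun u hu => by
      refine cm_swap ?_ (Ysq h (p0 _))
      rw [e1, cm_prod (g := fun x => Y ((hf (b • x) u * a) • ev i) (ev k.rev)) _ (fun x hx => by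
          rw [h.m1 _ _ _ _ (pp_smul (pi u hu) a) (pp_smul (pk x hx).symm b) (p0 a).symm.p (pk u hu).p
            ((pi x hx).symm.smul a b).p, smul_smul])
        fun x hx x' _ => h.c1 _ _ _ _ (pp_smul (pk x hx).symm b) (p0 _) (p0 _).symm.p
          (pp_smul (pk x hx).symm b).symm.p (p0 1).l, s1]
      rw [show hf (ev j : Vn n K) u = hf (ls η j r).sum u by rw [ls_sum]]
      simp only [ls, List.map_cons, List.map_nil, List.sum_cons, List.sum_nil, hf_add_left, hf_smul_left,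
        hf_zero_left]
      congr 2; ring
    rw [yy_mid h hη hρ hi hj r0 r1, yy_iso hi hk]
    refine cm_swap ?_ (Ysq h (p0 _))
    rw [cm_prod _ e2 fun u hu x _ => c2 h (pp_smul (pi u hu) a) (p0 _) (pp_smul (pi u hu) _).symm.p
      (p0 a).symm.p ((pp_self (ev_iso hi)).smul _ _).p, s1]
    have e3 : hf (ev j : Vn n K) (ls η j r).sum = 1 := by rw [ls_sum, hf_ev, if_pos hj]
    simp only [ls, List.map_cons, List.map_nil, List.sum_cons, List.sum_nil, hf_add_right,
      hf_zero_right] at e3 ⊢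
    congr 2
    linear_combination a * b * e3
  · rw [yy_iso hi hj, yy_iso hj hk, yy_iso hi hk, h.m1 _ _ _ _ (ppi hi hj h1 a) (ppi hj hk h2 b)
      (hfe (by grind) a) (by rw [hf_ev, if_neg (by grind)]) ((pp_ev hi hj h4).smul a b).p, hb,
      smul_smul, mul_comm]

end Rel

theorem jobSF : JobSF.{u} := by
  intro n K _ _ _ _ hp _ _ _ _ _ _ G _ _ e t b Y h
  have h5 := hp.five
  obtain ⟨η, hη⟩ := FQ.eta (K := K)
  choose ρ h1 h2 _ using fun i : Fin (n + 1) => exI h5 i i
  have hρ := fun i => And.intro (h1 i) (h2 i)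
  have T := yy_T h b.inv.1 hη hρ
  obtain ⟨Φ, hΦ⟩ := (str_of h5 (yy_add h b.inv.1 hη hρ) T (yy_G1 h b.inv.1 hη hρ)
    (yy_G2 h b.inv.1 hη hρ)).exists_hom (by omega)
  have act : ∀ s, t * Φ s * t⁻¹ = Φ (tau n K s) := fun s =>
    congrArg (fun f : SLn n K →* G => f s) (SA.hom_ext (e := (MulAut.conj t).toMonoidHom.comp Φ)
      (e' := Φ.comp (tau n K).toMonoidHom) fun i j hij c => by
        change t * Φ _ * t⁻¹ = Φ (tau n K _)
        rw [tau_x, hΦ _ _ hij, hΦ _ _ (Fin.rev_injective.ne hij.symm), T _ _ hij])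
  have ker : Φ.ker ≤ center (SLn n K) := by
    refine (SA.normal_le_center_or (by omega) Φ.ker).resolve_right fun e0 => ?_
    let i1 : Fin (n + 1) := ⟨1, by omega⟩
    have a0 : (0 : Fin (n + 1)) ≠ (0 : Fin (n + 1)).rev := by rw [Ne, Fin.ext_iff]; simp; omega
    have a1 : i1 ≠ i1.rev := by rw [Ne, Fin.ext_iff]; simp [i1]; omega
    have a2 : (0 : Fin (n + 1)) ≠ i1 := by rw [Ne, Fin.ext_iff]; simp [i1]
    have a3 : (0 : Fin (n + 1)) ≠ i1.rev := by rw [Ne, Fin.ext_iff]; simp [i1]; omega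
    have p := ppi (K := K) a0 a1 a2 1
    have e1 : Y ((1 : K) • ev 0) (ev i1.rev) = 1 := by
      rw [← yy_iso (t := t) (Y := Y) (η := η) (ρ := ρ) a0 a1, ← hΦ _ _ a2]
      exact (e0 ▸ mem_top _ : _ ∈ Φ.ker)
    have e2 := h.res _ _ p
    rw [← h.tc _ _ p, e1] at e2
    obtain ⟨c, hc⟩ := (FV.cen _).1 (b.ker (show e _ = 1 from e2.symm.trans (by simp)))
    have e3 := congrFun (hc (ev i1)) 0
    rw [ac_qq p] at e3
    simp [ev_apply, hf_ev, a2, a3] at e3
  refine ⟨Φ, ker, act, H66.GAW.range_eq_of_le b.ker (fun s hs => (FV.cen' s).2 (ker hs))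
    (H81.GA.pf b.ce.b0 ?_ GA.range_perfect)⟩
  rintro _ ⟨s, rfl⟩
  refine mem_Cz.2 (mul_inv_eq_iff_eq_mul.1 ?_)
  change t * Φ s.1 * t⁻¹ = Φ s.1
  rw [act, mem_fx.1 s.2]

end H81.UAF
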