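import Cfsg.Agent.H81.UASW

/-! STD-UM, slot YK: the transvections of the big group in the field case. -/

set_option autoImplicit false
set_option linter.unusedSectionVars false

namespace H81.UAW

open Matrix Subgroup H67 H67.UA
open H67.SA (SLn la cm)
open H67.GA (B1 CH)

universe u

variable {n : ℕ} {K : Type} [Field K] [StarRing K] [CharP K 2] [Finite K]
variable {G : Type u} [Group G] {e : XU n K →* G} {t : G} {τ : Vn n K → G} {δ : K}

theorem not_li {u w : Vn n K} (h : ¬ Li u w) : u = 0 ∨ ∃ a : K, w = a • u := by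
  simp only [Li, not_forall] at h
  obtain ⟨a, b, h1, h2⟩ := h
  by_cases hb : b = 0
  · subst hb
    exact .inl ((smul_eq_zero.1 (by simpa using h1)).resolve_left fun e => h2 ⟨e, rfl⟩)
  · refine .inr ⟨b⁻¹ * a, ?_⟩
    ext i
    have := congrFun h1 i
    simp only [Pi.add_apply, Pi.smul_apply, smul_eq_mul, Pi.zero_apply] at this ⊢
    field_simp
    linear_combination this - a * u i * two0 K

theorem pp_self {u : Vn n K} (h : Iso u) : Pp u u := ⟨h, h, h⟩
theorem pp_smul {u v : Vn n K} (h : Pp u v) (a : K) : Pp u (a • v) := by simpa using h.smul 1 a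

theorem t_τ (b : B1 e t) (h : T1 e t τ) {v : Vn n K} (hv : Iso v) :
    t * τ v * t⁻¹ = e (TT v) * τ v := by
  have h1 := h.tt v hv
  rw [mul_inv_eq_iff_eq_mul] at h1
  rw [b.inv_eq, mul_assoc, h1, ← mul_assoc, ← mul_assoc, b.inv.1, one_mul]

theorem e_sig (h : T1 e t τ) {g : XU n K} {u v : Vn n K} (p : Pp u v) (h1 : ac g u = u)
    (h2 : ac g v = v) : Commute (e g) (sig τ v u) := by
  have := sig_conj h g p
  rwa [h1, h2, mul_inv_eq_iff_eq_mul] at this

theorem t_sig (b : B1 e t) (h : T1 e t τ) {u v : Vn n K} (p : Pp u v) :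
    t * sig τ v u * t⁻¹ = e (qq v u) * sig τ v u := by
  have f : ∀ {x y : Vn n K}, Pp x y → Commute (e (TT x)) (τ y) := fun q =>
    e_τ h q.r (ac_EE_fix (ok_zero q.l (star_one K)) q.symm.p (by simp))
  have p1 := pp_add p (pp_self p.l) p.symm
  have p2 := pp_add p p (pp_self p.r)
  rw [sig, ← conj_mul, ← conj_mul, t_τ b h p.iso_add, t_τ b h p.l, t_τ b h p.r, qq_eq_TT p, map_mul,
    map_mul]
  calc _ = e (TT (u + v)) * (τ (u + v) * e (TT u)) * (τ u * e (TT v)) * τ v := by group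
    _ = e (TT (u + v)) * e (TT u) * (τ (u + v) * e (TT v)) * τ u * τ v := by
      rw [← (f p1.symm).eq, ← (f p.symm).eq]; group
    _ = _ := by rw [← (f p2.symm).eq]; group

theorem sig_sq (h : TA e t τ) {u v : Vn n K} (p : Pp u v) : sig τ v u * sig τ v u = 1 := by
  have p1 := pp_add p (pp_self p.l) p.symm
  have p2 := pp_add p p (pp_self p.r)
  have c1 : Commute (τ (u + v)) (τ u) := h.comm _ _ p1
  have c2 : Commute (τ (u + v) * τ u) (τ v) := Commute.mul_left (h.comm _ _ p2) (h.comm _ _ p)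
  rw [sig, ← sq, c2.mul_pow, c1.mul_pow, sq, sq, sq, h.sq _ p.iso_add, h.sq _ p.l, h.sq _ p.r]
  simp

section P

variable (h : P3 e t τ δ) {c : K}
include h

theorem YY_sw {x w : Vn n K} (p : Pp w x) : YY e τ c x w = YY e τ (star c) w x := by
  rw [YY, YY, sig_comm h.ta.toT1 p, qq_smul, qq_comm]

theorem YY_zero {x : Vn n K} (p : Iso x) : YY e τ c x 0 = 1 := by
  rw [YY, sig, qq, EE_zero_left, map_one, zero_add, h.ta.zero, mul_one, one_mul, h.ta.sq _ p]

theorem YY_zero' {x : Vn n K} (p : Iso x) : YY e τ c 0 x = 1 := by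
  rw [YY_sw h ⟨p, by simp [Iso], by simp⟩, YY_zero h p]

theorem zt_zero (u : Vn n K) : zt e τ u 0 0 = 1 := by
  rw [zt, rt_zero, zero_smul, h.ta.zero, Tc, EE_zero, map_one, mul_one]

theorem InZ_inv {u : Vn n K} (hu : Iso u) {z : G} (hz : InZ e τ u z) : InZ e τ u z⁻¹ :=
  (inv_eq_of_mul_eq_one_right (InZ_sq h hu hz)).symm ▸ hz

theorem same {u : Vn n K} (u0 : u ≠ 0) (hu : Iso u) {k k' : G} {y₁ y₂ : Vn n K}
    (c1 : Cl e t τ u k y₁ y₂) (c2 : Cl e t τ u k' y₁ y₂) : InZ e τ u (k * k'⁻¹) :=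
  h.cl.rigid _ _ u0 hu (by simpa using h.cl.mul _ _ _ _ _ _ _ hu c1 (h.cl.inv _ _ _ _ hu c2))

theorem YY_act {u x w : Vn n K} (u0 : u ≠ 0) (p : Pp w x) (px : Pp u x) (pw : Pp u w) {k : G}
    {y₁ y₂ : Vn n K} (ck : Cl e t τ u k y₁ y₂) :
    Cl e t τ u (YY e τ c x w * k * (YY e τ c x w)⁻¹)
      (y₁ + (δ * hf y₂ x + star c * hf y₁ x) • w + (δ * hf y₂ w + c * hf y₁ w) • x)
      (y₂ + (hf y₁ x + hf y₂ x + star c * hf y₂ x) • w + (hf y₁ w + hf y₂ w + c * hf y₂ w) • x) := by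
  have p' := pp_smul p c
  have k1 := h.cl.conj_e (qq (c • x) w) _ _ _ _ px.l (h.cc _ _ _ _ _ u0 (pp_add p pw.symm px.symm).symm
    (h.cc _ _ _ _ _ u0 pw (h.cc _ _ _ _ _ u0 px ck)))
  rw [ac_EE_fix p'.ok pw.p (by rw [hf_smul_right, px.p, mul_zero]), ac_qq p', ac_qq p'] at k1
  have x0 : hf x x = 0 := p.r
  have w0 : hf w w = 0 := p.l
  simp only [hf_add_left, hf_add_right, hf_smul_left, hf_smul_right, x0, w0, p.p, p.symm.p, mul_zero,
    add_zero] at k1
  convert k1 using 1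
  · rw [YY, sig]; group
  · ext i
    simp only [Pi.add_apply, Pi.smul_apply, smul_eq_mul]
    linear_combination -(δ * hf y₂ x * x i + δ * hf y₂ w * w i) * two0 K
  · ext i
    simp only [Pi.add_apply, Pi.smul_apply, smul_eq_mul]
    linear_combination -((hf y₁ x + hf y₂ x) * x i + (hf y₁ w + hf y₂ w) * w i) * two0 K

variable {η : K} (h1 : η ^ 2 + η = δ) (h2 : star η = η + 1)
include h2

omit h in
theorem st1 : star (η + 1) = η := by
  rw [star_add, h2, star_one]; linear_combination two0 K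

theorem cl_row {u v : Vn n K} (p : Pp u v) : Cl e t τ v (YY e τ (η + 1) v u) (η • u) u := by
  rw [YY_sw h p, st1 h2]; exact YY_cl h p.symm

include h1

theorem act_col {u x w y : Vn n K} (u0 : u ≠ 0) (p : Pp w x) (px : Pp u x) (pw : Pp u w) {k : G}
    (ck : Cl e t τ u k ((η + 1) • y) y) : Cl e t τ u (YY e τ (η + 1) x w * k * (YY e τ (η + 1) x w)⁻¹)
      ((η + 1) • (y + hf y w • x)) (y + hf y w • x) := by
  convert YY_act h u0 p px pw ck using 1 <;> ext i <;>
    simp only [hf_smul_left, st1 h2, Pi.add_apply, Pi.smul_apply, smul_eq_mul]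
  · linear_combination (hf y x * w i + hf y w * x i) * h1 -
      ((η ^ 2 + η) * hf y x * w i + (η ^ 2 + η) * hf y w * x i) * two0 K
  · linear_combination -((η + 1) * hf y x * w i + (η + 1) * hf y w * x i) * two0 K

theorem act_row {u x w y : Vn n K} (u0 : u ≠ 0) (p : Pp w x) (px : Pp u x) (pw : Pp u w) {k : G}
    (ck : Cl e t τ u k (η • y) y) : Cl e t τ u (YY e τ (η + 1) x w * k * (YY e τ (η + 1) x w)⁻¹)
      (η • (y + hf y x • w)) (y + hf y x • w) := by
  convert YY_act h u0 p px pw ck using 1 <;> ext i <;>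
    simp only [hf_smul_left, st1 h2, Pi.add_apply, Pi.smul_apply, smul_eq_mul]
  · linear_combination (hf y x * w i + hf y w * x i) * h1 -
      (η ^ 2 * hf y x * w i + (η ^ 2 + η) * hf y w * x i) * two0 K
  · linear_combination -(η * hf y x * w i + (η + 1) * hf y w * x i) * two0 K

theorem yk_c1 {u v w x : Vn n K} (p : Pp u v) (q : Pp w x) (a1 : hf x u = 0) (a2 : hf v w = 0)
    (a3 : hf u w = 0) : YY e τ (η + 1) v u * YY e τ (η + 1) x w = YY e τ (η + 1) x w * YY e τ (η + 1) v u := by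
  by_cases u0 : u = 0
  · rw [u0, YY_zero h p.r, one_mul, mul_one]
  by_cases w0 : w = 0
  · rw [w0, YY_zero h q.r, one_mul, mul_one]
  have ux : Pp u x := ⟨p.l, q.r, hf_symm a1⟩
  refine SA.cm_eq_one.1 ?_
  by_cases li : Li u w
  · have k1 := act_col h h1 h2 u0 q ux ⟨p.l, q.l, a3⟩ (YY_cl h p)
    have k2 := act_col h h1 h2 w0 p ⟨q.l, p.r, hf_symm a2⟩ ⟨q.l, p.l, hf_symm a3⟩ (YY_cl h q)
    rw [a2, zero_smul, add_zero] at k1
    rw [a1, zero_smul, add_zero] at k2
    refine h.cl.zdis u w _ p.l q.l li ?_ (same h w0 q.l k2 (YY_cl h q))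
    convert InZ_inv h p.l (same h u0 p.l k1 (YY_cl h p)) using 1
    simp only [cm]; group
  · obtain ⟨a, rfl⟩ := (not_li li).resolve_left u0
    rw [← star_star a, ← YY_smul h _ ux, h.cb _ _ _ _ _ _ _ u0 p.l (YY_cl h p) (YY_cl h (pp_smul ux _)),
      ← zt_zero h u]
    generalize star a • x = y
    simp only [hf_smul_left, hf_smul_right, st1 h2, tr, star_mul', h2]
    congr 1
    · linear_combination (hf v y + star (hf v y)) * h1 + δ * (hf v y + star (hf v y)) * two0 K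
    · linear_combination (η + 1) * (hf v y + star (hf v y)) * two0 K

theorem yk_m1 {u v w x : Vn n K} (p : Pp u v) (q : Pp w x) (a1 : hf v w = 0) (a2 : hf u w = 0)
    (a3 : hf v x = 0) : cm (YY e τ (η + 1) v u) (YY e τ (η + 1) x w) = YY e τ (η + 1) (hf x u • v) w := by
  by_cases v0 : v = 0
  · rw [v0, smul_zero, YY_zero' h p.l, YY_zero' h q.l]; simp [cm]
  by_cases w0 : w = 0
  · rw [w0, YY_zero h q.r, YY_zero h (p.r.smul _)]; simp [cm]
  have wv : Pp w v := ⟨q.l, p.r, hf_symm a1⟩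
  have vx : Pp v x := ⟨p.r, q.r, a3⟩
  by_cases li : Li v w
  · have k1 := h.cl.mul _ _ _ _ _ _ _ q.l (act_col h h1 h2 w0 p wv ⟨q.l, p.l, hf_symm a2⟩ (YY_cl h q))
      (h.cl.inv _ _ _ _ q.l (YY_cl h (c := η + 1) q))
    have k2 := h.cl.mul _ _ _ _ _ _ _ p.r (cl_row h h2 p) (h.cl.inv _ _ _ _ p.r
      (act_row h h1 h2 v0 q vx wv.symm (cl_row h h2 p)))
    rw [← smul_add, add_right_comm, v_add_self, zero_add] at k1
    rw [← smul_add, ← add_assoc, v_add_self, zero_add] at k2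
    have k3 := cl_row h h2 (pp_smul wv.symm (hf u x)).symm
    rw [← star_hf x u, ← YY_smul h _ wv, star_hf] at k3
    refine mul_inv_eq_one.1 (h.cl.zdis v w _ p.r q.l li ?_ (same h w0 q.l k1 (YY_cl h (pp_smul wv _))))
    convert same h v0 p.r k2 k3 using 2
    simp only [cm]; group
  · obtain ⟨a, rfl⟩ := (not_li li).resolve_left v0
    have f1 : star (η + 1) = η := st1 h2
    rw [← star_star a, ← YY_smul h _ vx, ← YY_smul h _ (pp_smul (pp_self p.r) _), smul_smul,
      ← hf_smul_left, h.cb _ _ _ _ _ _ _ v0 p.r (cl_row h h2 p) (YY_cl h (pp_smul vx _))]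
    generalize star a • x = y
    rw [YY, h.cl.sig_self _ _ p.r, smul_smul, qq_self, zt, zt, show Tc 0 v = 1 from EE_zero v,
      map_one, one_mul, ← star_hf u y]
    simp only [hf_smul_left, hf_smul_right, f1, tr, star_mul', h2, star_star]
    congr 3
    · linear_combination -(hf u y + star (hf u y)) * h1 +
        (η ^ 2 * hf u y + (η ^ 2 + η) * star (hf u y)) * two0 K
    · congr 1
      linear_combination (η * hf u y + (η + 1) * star (hf u y)) * two0 K

omit h1 in
theorem yk_zc (v : Vn n K) (l : List (Vn n K)) (g : XU n K) (κ : K) (hl : ∀ u ∈ l, Pp u v)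
    (h0 : l.sum = 0) (hκ : nm κ = 1) (hg : ac g v = κ • v) :
    e g * (l.map (YY e τ (η + 1) v)).prod = (l.map (YY e τ (η + 1) v)).prod * e g := by
  by_cases v0 : v = 0
  · rw [List.prod_eq_one, one_mul, mul_one]
    intro a ha
    obtain ⟨u, hu, rfl⟩ := List.mem_map.1 ha
    rw [v0, YY_zero' h (hl u hu).l]
  cases l with
  | nil => simp
  | cons u₀ l₀ =>
  have hv := (hl u₀ (by simp)).r
  have key : ∀ l : List (Vn n K), (∀ u ∈ l, Pp u v) →
      Cl e t τ v (l.map (YY e τ (η + 1) v)).prod (η • l.sum) l.sum := fun l hl => by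
    induction l with
    | nil => simpa using h.cl.zcl v 1 hv ⟨0, 0, star_zero K, star_zero K, (zt_zero h v).symm⟩
    | cons a l ih =>
      simpa using h.cl.mul _ _ _ _ _ _ _ hv (cl_row h h2 (hl a (by simp)))
        (ih fun u hu => hl u (by simp [hu]))
  have k := key _ hl
  rw [h0, smul_zero] at k
  obtain ⟨a, b, ha, hb, e1⟩ := h.cl.rigid _ _ v0 hv k
  have e2 := h.cl.zconj g v a b hv ha
  rwa [hg, h.cl.zsmul _ _ _ _ hv hb, hκ, one_mul, one_mul, ← e1, mul_inv_eq_iff_eq_mul] at e2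

end P

theorem jobYK : JobYK.{u} := by
  intro n K _ _ _ _ _ _ _ _ _ _ _ G _ _ e t b τ δ h η h1 h2
  have key : ∀ u v (c c' : K), Pp u v → e (qq (c • v) u) * e (qq (c' • v) u) = e (qq ((c + c') • v) u) :=
    fun u v c c' p => by
      rw [← map_mul, add_smul, qq_add (pp_smul p c) (pp_smul p c') ((pp_self p.r).smul _ _).p]
  refine ⟨YY e τ (η + 1), fun u v w => YY_add h, fun a u v => YY_smul h a, fun u v p => ?_,
    fun g u v => YY_conj h g, fun u v p => ?_, fun u v w x => yk_c1 h h1 h2,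
    fun u v w x => yk_m1 h h1 h2, yk_zc h h2⟩
  · rw [YY_sw h p.symm, st1 h2, YY, YY, ← conj_mul, b.conj_eq, t_sig b.toB1 h.ta.toT1 p, ← mul_assoc]
    nth_rewrite 2 [← one_smul K v]
    rw [key _ _ _ _ p, add_assoc, CharTwo.add_self_eq_zero, add_zero]
  · have q := pp_smul p η
    rw [YY_sw h p.symm, st1 h2, YY, YY, mul_assoc, ← mul_assoc (sig τ v u),
      ← (e_sig h.ta.toT1 p (ac_EE_self q.ok) (ac_EE_fix q.ok p.symm.p
        (pp_smul (pp_self p.r) η).p)).eq, mul_assoc, sig_sq h.ta p, mul_one, key _ _ _ _ p,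
      add_right_comm, CharTwo.add_self_eq_zero, zero_add, one_smul]

end H81.UAW
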