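import Cfsg.Agent.H20.DGSpec

/-! Tower DG (S3579), job J2: the two cycles. -/

set_option autoImplicit false

namespace H81.DGJ2

open Subgroup MulAction Cfsg H98 H20.DG

universe u v

theorem jobJ2 : H20.DG.JobJ2.{u, v} := by
  intro fx G Ω _ _ _ _ p q P A O ω g hy h hA hω hg hR
  have inO : ∀ a ∈ O, ∀ k ∈ A, k • a ∈ O := fun a ha k hk =>
    (h.orb a ha _).2 ⟨k, h.le hk, rfl⟩
  have ab : ∀ (B : Subgroup G), El p B → A ⊓ stabilizer G ω ≤ B → ∀ a : Ω,
      A ⊓ stabilizer G ω ≤ stabilizer G a → ∀ k ∈ B, A ⊓ stabilizer G ω ≤ stabilizer G (k • a) :=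
    fun B hB hl a ha k hk r hr => by
      rw [mem_stabilizer_iff, ← mul_smul, hB.1 r (hl hr) k hk, mul_smul, mem_stabilizer_iff.1 (ha hr)]
  have fixQ : ∀ a : Ω, g⁻¹ • a ∉ O → cj g A ≤ stabilizer G a := fun a ha r hr => by
    have := mem_stabilizer_iff.1 ((h.fix _).2 ha (mem_cj.1 hr))
    rw [mul_smul, smul_inv_smul, mul_smul, smul_left_cancel_iff] at this
    exact this
  have obF : ∀ a ∈ Ob A ω, A ⊓ stabilizer G ω ≤ stabilizer G a := by
    rintro _ ⟨k, hk, rfl⟩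
    exact ab A h.el inf_le_left ω inf_le_right k hk
  have c1 : (Ob A ω).ncard = p := by rw [ncard_Ob, h.inO ω hω]
  have e1 : {b : Ω | A ⊓ stabilizer G ω ≤ stabilizer G b} = Oᶜ ∪ Ob A ω := by
    ext b
    refine ⟨fun hb => ?_, fun hb => hb.elim (fun k => inf_le_left.trans ((h.fix b).2 k)) (obF b)⟩
    by_cases k : b ∈ O
    · exact .inr (fx G Ω p q P A O hy h hA ω hω b k hb)
    · exact .inl k
  have e2 : {b : Ω | A ⊓ stabilizer G ω ≤ stabilizer G b} =
      (fun b => g • b) '' Oᶜ ∪ Oc A O ω g := by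
    ext b
    refine ⟨fun hb => ?_, fun hb => hb.elim ?_ fun k => k.1⟩
    · by_cases k : g⁻¹ • b ∈ O
      · exact .inr ⟨hb, k⟩
      · exact .inl ⟨_, k, smul_inv_smul g b⟩
    · rintro ⟨a, ha, rfl⟩
      exact hR.trans (fixQ _ (by rwa [inv_smul_smul]))
  have c2 : (Oc A O ω g).ncard = p := by
    have d1 : Disjoint Oᶜ (Ob A ω) := Set.disjoint_left.2 (by
      rintro _ ha ⟨k, hk, rfl⟩
      exact ha (inO ω hω k hk))
    have d2 : Disjoint ((fun b => g • b) '' Oᶜ) (Oc A O ω g) := Set.disjoint_left.2 (by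
      rintro _ ⟨a, ha, rfl⟩ hb
      exact ha (by simpa using hb.2))
    have := congrArg Set.ncard (e1.symm.trans e2)
    rw [Set.ncard_union_eq d1, Set.ncard_union_eq d2,
      Set.ncard_image_of_injective _ (MulAction.injective g), c1] at this
    omega
  refine ⟨c1, c2, isOr_Ob A ω, fun a ha b => ?_, fun a ha hn => (h.fix a).2 fun k =>
    hn (fx G Ω p q P A O hy h hA ω hω a k ha.1), fun a ha hn => fixQ a fun k => hn ⟨obF a ha, k⟩⟩
  have sub : Ob (cj g A) a ⊆ Oc A O ω g := by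
    rintro _ ⟨k, hk, rfl⟩
    refine ⟨ab _ (h.el.cj g) hR a ha.1 k hk, ?_⟩
    have := inO _ ha.2 _ (mem_cj.1 hk)
    rwa [mul_smul, smul_inv_smul, mul_smul] at this
  have im : (fun b => g • b) '' Ob A (g⁻¹ • a) ⊆ Ob (cj g A) a := by
    rintro _ ⟨_, ⟨k, hk, rfl⟩, rfl⟩
    exact ⟨g * k * g⁻¹, ⟨k, hk, rfl⟩, by rw [mul_smul, mul_smul]⟩
  have le := Set.ncard_le_ncard im
  rw [Set.ncard_image_of_injective _ (MulAction.injective g), ncard_Ob, h.inO _ ha.2, ← c2] at le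
  rw [← Set.eq_of_subset_of_ncard_le sub le]
  rfl

end H81.DGJ2
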