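/- The Schur multiplier of the Harada–Norton group is trivial. -/
import Cfsg.Agent.H81.CEx
import Cfsg.Agent.H81.HNSP2
import Cfsg.Agent.H81.HNSP3
import Cfsg.Agent.H81.HNSP5
set_option maxRecDepth 100000
set_option autoImplicit false
namespace H81.HNMu
open H71 H73 H15.RepHN H90 Subgroup Cfsg
open scoped commutatorElement

theorem triv {Q : Type*} [Group Q] {v : ℕ → Q} (h : Sat 6 7 HNs.RC v)
    (c : Commute (v 0) (v 2)) : v 0 = 1 ∧ v 2 = 1 := by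
  have v1 : v 1 = (v 0)⁻¹ := h.hv 0
  have v3 : v 3 = (v 2)⁻¹ := h.hv 2
  have r := h.hR
  simp only [HNs.RC, List.forall_mem_cons, evw_cons, evw_nil, mul_one, v1, v3] at r
  generalize v 0 = X at *
  generalize v 2 = Y at *
  generalize v 6 = Z at *
  obtain ⟨r1, -, -, r2, r3, r4, r5, r6, r7, r8, -⟩ := r
  have m : ∀ g, Y * (X * g) = X * (Y * g) := fun g => by rw [← mul_assoc, ← c.eq, mul_assoc]
  simp only [m, inv_mul_cancel_left] at r2 r3 r4
  have y1 : Y ^ 6 = 1 := by simpa only [pow_succ, pow_zero, one_mul, mul_assoc] using r1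
  have y2 : Y ^ 15 = 1 := by simpa only [pow_succ, pow_zero, one_mul, mul_assoc] using r2
  have y3 : X ^ 8 * Y ^ 8 = 1 := by simpa only [pow_succ, pow_zero, one_mul, mul_assoc] using r3
  have y4 : X ^ 8 * Y ^ 8 * Y ^ 8 = 1 := by
    simpa only [pow_succ, pow_zero, one_mul, mul_assoc] using r4
  rw [y3, one_mul] at y4
  obtain rfl : Y = 1 := by
    calc Y = Y ^ 15 * (Y ^ 6)⁻¹ * (Y ^ 8)⁻¹ := by group
      _ = 1 := by rw [y1, y2, y4]; group
  refine ⟨?_, rfl⟩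
  have zz : ∀ g, Z * (Z * g) = g := fun g => by rw [← mul_assoc, r5, one_mul]
  have k' : ∀ g, Z * (X⁻¹ * g) = X * (Z * g) := fun g => by
    calc _ = Z * (Z * (X * (Z * X)) * (X⁻¹ * g * g⁻¹ * X * X⁻¹ * X * X⁻¹ * g)) := by
          rw [r6]; group
      _ = Z * (Z * (X * (Z * g))) := by group
      _ = _ := zz _
  have k : ∀ g, Z * (X * g) = X⁻¹ * (Z * g) := fun g => by
    rw [eq_inv_mul_iff_mul_eq, ← k', inv_mul_cancel_left]
  simp only [inv_one, one_mul, mul_one, k, k', zz, inv_mul_cancel_left,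
    mul_inv_cancel_left, mul_inv_cancel] at r7 r8
  calc X = X * (X * (X * (X * X))) * (X * (X * (X * X)))⁻¹ := by group
    _ = 1 := by rw [r8, r7]; group

/-- the double cover of `HS` inside `HN` -/
noncomputable abbrev Pm : Subgroup Spor.HN := P.map H0.subtype

theorem P_le : P ≤ ⁅P, P⁆ := by
  let f := QuotientGroup.mk' ⁅P, P⁆
  let v : ℕ → H0 := mkVal [x0, y0, 1] [z0]
  have zz : z0 * z0 = 1 := Subtype.ext (HNs.sat.sq (l := 6) le_rfl)
  have S : Sat 6 7 HNs.RC v := ⟨mkVal_inv _ _ (by simpa using zz), rfl, fun r hr => Subtype.ext <| by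
    rw [show ((evw v r : H0) : Spor.HN) = _ from map_evw H0.subtype v r]
    refine Eq.trans ?_ (HNs.sat.hR r (List.mem_of_mem_take (i := 10) hr))
    refine congrArg List.prod (List.map_congr_left fun l hl => ?_)
    have := (by decide : ∀ r ∈ HNs.RC, ∀ l ∈ r, l ∈ [0, 1, 2, 3, 6]) r hr l hl
    simp only [List.mem_cons, List.not_mem_nil, or_false] at this
    rcases this with rfl | rfl | rfl | rfl | rfl <;> rfl⟩
  obtain ⟨fx, fy⟩ := triv (S.map f) (commutatorElement_eq_one_iff_commute.1 (by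
    rw [← map_commutatorElement]
    exact (QuotientGroup.eq_one_iff _).2 (commutator_mem_commutator χx χy)))
  replace fx : f x0 = 1 := fx
  replace fy : f y0 = 1 := fy
  have fz : f z0 * f z0 = 1 := by rw [← map_mul, zz, map_one]
  have key : ∀ g (hg : g ∈ H0), (f ⟨g, hg⟩ = 1 ∧ χ ⟨g, hg⟩ = 1) ∨
      (f ⟨g, hg⟩ = f z0 ∧ χ ⟨g, hg⟩ = -1) := fun g hg => by
    induction hg using closure_induction with
    | mem g hg =>
      obtain ⟨l, hl, rfl⟩ := hg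
      simp only [Set.mem_ofPred_eq, List.mem_cons, List.not_mem_nil, or_false] at hl
      rcases hl with rfl | rfl | rfl | rfl | rfl
      exacts [.inl ⟨fx, χx⟩, .inl ⟨(map_inv f x0).trans (by rw [fx, inv_one]), χ_val 1 (by decide)⟩,
        .inl ⟨fy, χy⟩, .inl ⟨(map_inv f y0).trans (by rw [fy, inv_one]), χ_val 3 (by decide)⟩,
        .inr ⟨rfl, χz⟩]
    | one => exact .inl ⟨map_one f, map_one χ⟩
    | mul a b ha hb h1 h2 =>
      rw [show (⟨a * b, mul_mem ha hb⟩ : H0) = ⟨a, ha⟩ * ⟨b, hb⟩ from rfl, map_mul, map_mul]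
      rcases h1 with ⟨h1, h3⟩ | ⟨h1, h3⟩ <;> rcases h2 with ⟨h2, h4⟩ | ⟨h2, h4⟩ <;>
        simp [h1, h2, h3, h4, fz]
    | inv a ha h1 =>
      rw [show (⟨a⁻¹, inv_mem ha⟩ : H0) = (⟨a, ha⟩ : H0)⁻¹ from rfl, map_inv, map_inv]
      rcases h1 with ⟨h1, h3⟩ | ⟨h1, h3⟩
      · simp [h1, h3]
      · exact .inr ⟨by rw [h1, inv_eq_of_mul_eq_one_right fz], by rw [h3]; rfl⟩
  intro g hg
  rcases key g.1 g.2 with h | h
  · exact (QuotientGroup.eq_one_iff _).1 h.1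
  · exact absurd (h.2.symm.trans hg) (by decide)

theorem Pm_perf : ⁅Pm, Pm⁆ = Pm := by
  rw [← map_commutator]
  exact congrArg _ (le_antisymm (commutator_le_left _ _) P_le)

theorem Pm_conj {w : Spor.HN} (hw : w ∈ H0) : ∀ g ∈ Pm, w * g * w⁻¹ ∈ Pm := by
  rintro _ ⟨g, hg, rfl⟩
  exact ⟨_, (MonoidHom.normal_ker χ).conj_mem g hg ⟨w, hw⟩, rfl⟩

theorem inj {Γ : Type} [Group Γ] {σ : Γ →* Spor.HN} (h : CE σ) {a : Γ} (ha : a ∈ dl σ Pm)
    (h1 : σ a = 1) : a = 1 := by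
  obtain ⟨A, _, hA, hd⟩ := exists_mult_dvd (B := Gb) [(2, 1), (3, 0), (5, 0)]
    (by simpa using ⟨HNSP2.main, HNSP3.main, HNSP5.main⟩) (by
      rw [card]
      exact mem_of_sq_dvd (k := 9) [2, 3, 5, 7, 11] [2, 3, 5] (by norm_num) (by norm_num)
        (by norm_num))
  let e := P.equivMapOfInjective H0.subtype H0.subtype_injective
  refine dl_inj h Pm_perf (τ0.rangeRestrict.comp e.symm.toMonoidHom)
    (τ0.rangeRestrict_surjective.comp e.symm.surjective) (fun k hk => ?_) hA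
    ((Nat.le_of_dvd (by norm_num) hd).trans ?_) ha h1
  · obtain ⟨k, rfl⟩ := e.surjective k
    refine mem_center_iff.2 fun g => ?_
    obtain ⟨g, rfl⟩ := e.surjective g
    rw [← map_mul, ← map_mul]
    rcases τ0_ker (k := k) (by simpa using congrArg Subtype.val hk) with rfl | rfl
    · simp
    · exact congrArg e (Subtype.ext (t0_comm _))
  · refine Finite.one_lt_card_iff_nontrivial.2 ⟨⟨⟨e ⟨t0, t0_mem⟩, ?_⟩, 1, fun h => ?_⟩⟩
    · refine Subtype.ext ?_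
      show τ0 (e.symm (e _)) = 1
      rw [e.symm_apply_apply]; exact congrArg Subtype.val ψ_t0
    · exact t_ne (congrArg (fun g => (g.1.1 : Spor.HN)) h)

section
variable {Γ : Type*} [Group Γ]

theorem adjT {X T : Γ} (ha : ∀ g, g * (X⁻¹ * T * X * T ^ 2) = X⁻¹ * T * X * T ^ 2 * g)
    (hb : ∀ g, g * T ^ 5 = T ^ 5 * g) :
    ∃ k ∈ closure {X⁻¹ * T * X * T ^ 2, T ^ 5}, (T * k) ^ 5 = 1 ∧
      X⁻¹ * (T * k) * X * (T * k) ^ 2 = 1 := by
  have e1 : X⁻¹ * T * X = (T ^ 2)⁻¹ * (X⁻¹ * T * X * T ^ 2) := by rw [ha]; group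
  have e2 : (X⁻¹ * T * X) ^ 5 = T ^ 5 := by
    rw [show X⁻¹ * T * X = X⁻¹ * T * X⁻¹⁻¹ by rw [inv_inv], conj_pow, hb]; group
  generalize hA : X⁻¹ * T * X * T ^ 2 = a at ha e1 ⊢
  have ca : ∀ g, Commute g a := ha
  have cb : ∀ g, Commute g (T ^ 5) := hb
  have e4 : a ^ 5 = (T ^ 5) ^ 3 := by
    rw [e1, (ca _).mul_pow, inv_pow, inv_mul_eq_iff_eq_mul] at e2
    rw [e2]; group
  have ck : ∀ g, Commute g ((a ^ 2)⁻¹ * T ^ 5) := fun g =>
    ((ca g).pow_right 2).inv_right.mul_right (cb g)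
  have s1 : a ∈ closure {a, T ^ 5} := subset_closure (by simp)
  have s2 : T ^ 5 ∈ closure {a, T ^ 5} := subset_closure (by simp)
  refine ⟨(a ^ 2)⁻¹ * T ^ 5, mul_mem (inv_mem (pow_mem s1 2)) s2, ?_, ?_⟩
  · rw [(ck T).mul_pow, (cb _).mul_pow, ← cb]
    calc _ = ((a ^ 5) ^ 2)⁻¹ * ((T ^ 5) ^ 3) ^ 2 := by group
      _ = 1 := by rw [e4, inv_mul_cancel]
  · have e5 : a * ((a ^ 2)⁻¹ * T ^ 5) ^ 3 = 1 := by
      rw [(cb _).mul_pow, ← e4]; group
    generalize (a ^ 2)⁻¹ * T ^ 5 = k at *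
    calc _ = X⁻¹ * T * (k * (X * T ^ 2)) * k ^ 2 := by rw [(ck T).mul_pow]; group
      _ = a * k ^ 3 := by rw [← (ck _).eq, ← hA]; group
      _ = 1 := e5

theorem commYT {Y T : Γ} (hd : ∀ g, g * (T⁻¹ * Y⁻¹ * T * Y) = T⁻¹ * Y⁻¹ * T * Y * g)
    (h5 : T ^ 5 = 1) (h6 : Y ^ 6 = 1) : T⁻¹ * Y⁻¹ * T * Y = 1 := by
  have e1 : Y⁻¹ * T * Y⁻¹⁻¹ = T * (T⁻¹ * Y⁻¹ * T * Y) := by group
  have e2 : T⁻¹ * Y⁻¹ * T⁻¹⁻¹ = Y⁻¹ * (T⁻¹ * Y⁻¹ * T * Y) := by rw [hd]; group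
  generalize T⁻¹ * Y⁻¹ * T * Y = d at *
  have c : ∀ g, Commute g d := hd
  have a := congrArg (· ^ 5) e1
  have b := congrArg (· ^ 6) e2
  simp only [conj_pow, (c _).mul_pow, inv_pow, h5, h6, inv_one, mul_one, one_mul,
    mul_inv_cancel] at a b
  rw [pow_succ, ← a, one_mul] at b
  exact b.symm

theorem adjZ {ξ Z T : Γ} (hc : ∀ g, g * (Z * T) ^ 3 = (Z * T) ^ 3 * g)
    (he : ∀ g, g * (Z * Z) = Z * Z * g) (h1 : ξ * Z * ξ⁻¹ = Z) (h2 : ξ * T * ξ⁻¹ = T⁻¹) :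
    ∃ m ∈ closure {(Z * T) ^ 3, Z * Z}, Z * m * (Z * m) = 1 ∧ (Z * m * T) ^ 3 = 1 := by
  have e1 : (Z * T⁻¹) ^ 3 = (Z * T) ^ 3 := by
    rw [← h2, ← h1, conj_mul, h1, conj_pow, hc]; group
  have e2 : (T * Z) ^ 3 = (Z * T) ^ 3 := by
    rw [show T * Z = Z⁻¹ * (Z * T) * Z⁻¹⁻¹ by group, conj_pow, hc]; group
  have e3 : (Z * T⁻¹)⁻¹ = T * Z * (Z * Z)⁻¹ := by group
  generalize hC : (Z * T) ^ 3 = c at hc e1 e2 ⊢
  generalize hE : Z * Z = ε at he e3 ⊢
  have cc : ∀ g, Commute g c := hc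
  have ce : ∀ g, Commute g ε := he
  have e4 : ε ^ 3 = c ^ 2 := by
    have := congrArg (· ^ 3) e3
    simp only [(ce _).inv_right.mul_pow, inv_pow, e1, e2] at this
    rw [eq_mul_inv_iff_mul_eq, inv_mul_eq_iff_eq_mul] at this
    rw [this, pow_two]
  have cm : ∀ g, Commute g (c⁻¹ * ε) := fun g => (cc g).inv_right.mul_right (ce g)
  refine ⟨c⁻¹ * ε, mul_mem (inv_mem (subset_closure (by simp))) (subset_closure (by simp)), ?_, ?_⟩
  · rw [← pow_two, (cm Z).mul_pow, (ce _).mul_pow, pow_two Z, hE, ← (ce _).eq]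
    calc _ = (c ^ 2)⁻¹ * ε ^ 3 := by group
      _ = 1 := by rw [e4, inv_mul_cancel]
  · rw [mul_assoc, ← (cm T).eq, ← mul_assoc, (cm _).mul_pow, hC, (ce _).mul_pow, e4]; group

theorem word_mem {D : Subgroup Γ} {v : ℕ → Γ} (h1 : ∀ l < 4, v l ∈ D) (h2 : v 6 * v 6 = 1)
    (h3 : ∀ a ∈ D, v 6 * a * (v 6)⁻¹ ∈ D) (w : List ℕ) (hw : ∀ l ∈ w, l < 4 ∨ l = 6) :
    (evw πS w = 1 → evw v w ∈ D) ∧ (evw πS w = -1 → v 6 * evw v w ∈ D) := by
  induction w with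
  | nil => exact ⟨fun _ => one_mem _, fun h => absurd h (by decide)⟩
  | cons l w ih =>
    obtain ⟨i1, i2⟩ := ih fun l hl => hw l (List.mem_cons_of_mem _ hl)
    rw [evw_cons, evw_cons]
    rcases hw l List.mem_cons_self with h | rfl
    · rw [show πS l = 1 from if_neg (by omega), one_mul]
      refine ⟨fun e => mul_mem (h1 l h) (i1 e), fun e => ?_⟩
      simpa [mul_assoc] using mul_mem (h3 _ (h1 l h)) (i2 e)
    · rw [show πS 6 = -1 from rfl, ← mul_assoc, h2, one_mul]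
      exact ⟨fun e => i2 (by simpa [neg_eq_iff_eq_neg] using e), fun e => i1 (by simpa using e)⟩

end

theorem split (Γ : Type) [Group Γ] (σ : Γ →* Spor.HN) (h : CE σ) :
    ∃ θ : Spor.HN →* Γ, ∀ g, σ (θ g) = g := by
  obtain ⟨X, hX, eX⟩ := dl_lift h Pm_perf (g := x) ⟨x0, χx, rfl⟩
  obtain ⟨Y, hY, eY⟩ := dl_lift h Pm_perf (g := y) ⟨y0, χy, rfl⟩
  obtain ⟨T0, eT⟩ := h.surj s
  obtain ⟨Z0, eZ⟩ := h.surj z
  have R := HNs.sat.hR
  simp only [HNs.R, List.forall_mem_cons, evw_cons, evw_nil, mul_one, v1, v3, v5] at R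
  obtain ⟨r1, -, -, -, -, -, r7, -, -, -, -, -, r13, r14, -⟩ := R
  have k1 : σ (X⁻¹ * T0 * X * T0 ^ 2) = 1 := by
    simp only [map_mul, map_inv, map_pow, eX, eT, xs]; rw [← pow_add, s5]
  have k2 : σ (T0 ^ 5) = 1 := by rw [map_pow, eT, s5]
  obtain ⟨k, hk, t5, tx⟩ := adjT (h.cen _ k1) (h.cen _ k2)
  have eT' : σ (T0 * k) = s := by
    rw [map_mul, eT, show σ k = 1 from (closure_le σ.ker).2 (by
      rintro _ (rfl | rfl); exacts [k1, k2]) hk, mul_one]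
  generalize T0 * k = T at t5 tx eT'
  have y6 : Y ^ 6 = 1 := inj h (pow_mem hY 6) (by
    rw [map_pow, eY]; simpa only [pow_succ, pow_zero, one_mul, mul_assoc] using r1)
  have ty := commYT (Y := Y) (T := T) (h.cen _ (by
    simpa only [map_mul, map_inv, eY, eT', mul_assoc] using r13)) t5 y6
  have k3 : σ ((Z0 * T) ^ 3) = 1 := by
    simpa only [map_mul, eZ, eT', pow_succ, pow_zero, one_mul, mul_assoc] using r14
  have k4 : σ (Z0 * Z0) = 1 := by rw [map_mul, eZ, r7]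
  have xx := mul_mem hX hX
  obtain ⟨m, hm, zz, zt⟩ := adjZ (ξ := (X * X)⁻¹) (h.cen _ k3) (h.cen _ k4) (by
      have := inj h (mul_mem (inv_mem xx) (dl_conj (w := Z0) (eZ ▸ Pm_conj z_mem) xx)) (by
        simp only [map_mul, map_inv, eX, eZ]
        rw [mem_H0.1 z_mem]; group)
      rwa [inv_inv, ← mul_inv_eq_one, mul_assoc _ Z0, mul_assoc]) (by
      have e : X⁻¹ * T * X⁻¹⁻¹ = (T ^ 2)⁻¹ := by rw [inv_inv, eq_inv_iff_mul_eq_one, tx]
      calc _ = X⁻¹ * (X⁻¹ * T * X⁻¹⁻¹) * X⁻¹⁻¹ := by simp only [mul_inv_rev, inv_inv, mul_assoc]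
        _ = ((T ^ 2)⁻¹ ^ 2)⁻¹ := by
          nth_rw 1 [e]; rw [← conj_inv, ← conj_pow, e]
        _ = T ^ 5 * T⁻¹ := by group
        _ = _ := by rw [t5, one_mul])
  have eZ' : σ (Z0 * m) = z := by
    rw [map_mul, eZ, show σ m = 1 from (closure_le σ.ker).2 (by
      rintro _ (rfl | rfl); exacts [k3, k4]) hm, mul_one]
  generalize Z0 * m = Z at zz zt eZ'
  let v : ℕ → Γ := mkVal [X, Y, T] [Z]
  have ev : ∀ l < 7, σ (v l) = HNs.val l := fun l hl => by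
    interval_cases l
    exacts [eX, (map_inv σ X).trans (eX ▸ v1.symm), eY, (map_inv σ Y).trans (eY ▸ v3.symm), eT',
      (map_inv σ T).trans (eT' ▸ v5.symm), eZ']
  have S : Sat 6 7 HNs.R v := ⟨mkVal_inv _ _ (by simpa using zz), rfl, fun r hr => by
    rw [show HNs.R = HNs.RC ++ [[4, 4, 4, 4, 4], [1, 4, 0, 4, 4], [5, 3, 4, 2], [6, 4, 6, 4, 6, 4]]
      from rfl, List.mem_append] at hr
    rcases hr with hr | hr
    · obtain ⟨h1, h2⟩ := (by decide : ∀ r ∈ HNs.RC, (∀ l ∈ r, l < 4 ∨ l = 6) ∧ evw πS r = 1) r hr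
      refine inj h ((word_mem (v := v) (fun l hl => ?_) zz
        (fun a => dl_conj (w := Z) (eZ' ▸ Pm_conj z_mem)) r h1).1 h2) ?_
      · interval_cases l
        exacts [hX, inv_mem hX, hY, inv_mem hY]
      · rw [map_evw]
        refine Eq.trans ?_ (HNs.sat.hR r (List.mem_of_mem_take (i := 10) hr))
        exact congrArg List.prod (List.map_congr_left fun l hl => ev l (by have := h1 l hl; omega))
    · simp only [List.mem_cons, List.not_mem_nil, or_false] at hr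
      rcases hr with rfl | rfl | rfl | rfl
      all_goals simp only [pow_succ, pow_zero, one_mul, mul_assoc] at t5 tx ty zt
      all_goals simp only [evw_cons, evw_nil, mul_one]
      exacts [t5, tx, ty, zt]⟩
  refine ⟨HNs.hom S, fun a => DFunLike.congr_fun (MonoidHom.eq_of_eqOn_dense HNs.top
    (f := σ.comp (HNs.hom S)) (g := MonoidHom.id _) ?_) a⟩
  rintro _ ⟨l, hl, rfl⟩
  simp only [Set.mem_ofPred_eq, List.mem_cons, List.not_mem_nil, or_false] at hl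
  rcases hl with rfl | rfl | rfl | rfl
  exacts [(congrArg σ (HNs.hom_val S .x)).trans eX, (congrArg σ (HNs.hom_val S .y)).trans eY,
    (congrArg σ (HNs.hom_val S .t)).trans eT', (congrArg σ (HNs.hom_val S .z)).trans eZ']

theorem multiplier : HasCyclicSchurMultiplier Spor.HN 1 :=
  mult_one_of_split fun Γ _ _ σ h => split Γ σ h

end H81.HNMu
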