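/- The model of `J2` on 100 points as a group of permutation matrices. -/
import Cfsg.Agent.H81.Zeta
import Cfsg.Agent.H81.CoM
import Cfsg.Agent.H4.JA6

set_option autoImplicit false
set_option maxRecDepth 100000

namespace H81

open H71 H49 Finset

noncomputable section

/-- the matrix of a map. -/
def pmat (n : ℕ) : Function.End (Fin n) →* Matrix (Fin n) (Fin n) (ZMod 2) where
  toFun f := Matrix.of fun i j => if f j = i then 1 else 0
  map_one' := by
    ext i j
    simp only [Matrix.one_apply, Matrix.of_apply, eq_comm (a := i)]; rfl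
  map_mul' f g := by
    ext i j
    rw [Matrix.mul_apply, sum_eq_single (g j)]
    · simp only [Matrix.of_apply, if_true, mul_one]; rfl
    · intro k _ hk
      rw [Matrix.of_apply, Matrix.of_apply, if_neg (c := g j = k) fun e => hk e.symm, mul_zero]
    · simp

theorem pmat_inj (n : ℕ) : Function.Injective (pmat n) := fun f g h => funext fun j => by
  have := congrFun (congrFun h (f j)) j
  simp only [pmat, MonoidHom.coe_mk, OneHom.coe_mk, Matrix.of_apply, if_true] at this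
  by_contra e
  rw [if_neg fun e' => e e'.symm] at this
  exact one_ne_zero this

/-- `c` is the code of the matrix of the packed map `g`. -/
def chkU (W mk n g c : ℕ) : Bool :=
  frc g fun g => allN (fun i => frc (Nat.shiftRight c (n * i)) fun r =>
    allN (fun j => Nat.testBit r j == Nat.beq (pap W mk g j) i) n) n

theorem pmat_code {W mk n g c : ℕ} (hg : pcan W mk n g = true) (h : chkU W mk n g c = true) :
    pmat n (pdec W mk n g) = H73.dec2 n c := by
  ext i j
  rw [chkU, frc_eq] at h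
  have h0 := of_allN h i i.2
  rw [frc_eq] at h0
  have h1 := beq_iff_eq.1 (of_allN h0 j j.2)
  show (if pdec W mk n g j = i then 1 else 0) = H73.b2z (Nat.testBit c (n * i + j))
  rw [← Nat.testBit_shiftRight, show (c >>> (n * i)).testBit j = _ from h1, ← pdec_val hg]
  by_cases e : pdec W mk n g j = i
  · rw [if_pos e, e, Nat.beq_refl]; rfl
  · rw [if_neg e, Bool.eq_false_iff.2 fun h => e (Fin.ext (Nat.eq_of_beq_eq_true h))]; rfl

/-- a test along two lists. -/
def all2 {α β : Type} (f : α → β → Bool) (A : List α) : List β → Bool :=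
  List.rec (motive := fun _ => List β → Bool) (fun _ => true) (fun a _ ih l =>
    List.rec (motive := fun _ => Bool) false (fun b l' _ => band (f a b) (ih l')) l) A

theorem of_all2 {α β : Type} {f : α → β → Bool} {A : List α} :
    ∀ {B : List β}, all2 f A B = true → ∀ a ∈ A, ∃ b, f a b = true := by
  induction A with
  | nil => simp
  | cons a A ih =>
    intro B h
    cases B with
    | nil => exact absurd h Bool.false_ne_true
    | cons b B =>
      obtain ⟨h1, h2⟩ := band_iff.1 h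
      intro x hx
      rcases List.mem_cons.1 hx with rfl | hx
      exacts [⟨b, h1⟩, ih h2 x hx]

namespace J2M

open H4.M2

def cm : ℕ := geo 100 100
def rm : ℕ := 2 ^ 100 - 1
def one : ℕ := geo 101 100

/-- the codes. -/
def C : Cd (Matrix (Fin 100) (Fin 100) (ZMod 2)) := cd2 100 cm rm one (by decide +kernel)

theorem can : C.Can := can_cd2 _

/-- the embedding. -/
def ι : X →* Matrix (Fin 100) (Fin 100) (ZMod 2) :=
  (pmat 100).comp ((Units.coeHom _).comp (UG.toUnits CA))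

theorem ι_inj : Function.Injective ι :=
  (pmat_inj 100).comp (Units.val_injective.comp UG.toUnits_inj)

theorem ι_code (x : X) {c : ℕ} (h : chkU 7 127 100 x.c c = true) : ι x = C.dec c :=
  pmat_code (Bool.and_eq_true_iff.1 x.ok.1).1 h

theorem good {ca ca' cb cb' : ℕ}
    (hc : band (band (chkU 7 127 100 (g * h).c ca) (Nat.beq (C.mul ca ca') C.one))
      (band (chkU 7 127 100 (a * y).c cb) (Nat.beq (C.mul cb cb') C.one)) = true) :
    GoodM C ι ⊤ [cb, cb', ca, ca'] := by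
  obtain ⟨h1, h2⟩ := band_iff.1 hc
  exact GoodM.pair (GoodM.pair GoodM.nil ⟨_, Subgroup.mem_top _, ι_code _ (band_iff.1 h1).1⟩
    (band_iff.1 h1).2) ⟨_, Subgroup.mem_top _, ι_code _ (band_iff.1 h2).1⟩ (band_iff.1 h2).2

/-- words for the generators of the model. -/
def WG : List (List ℕ) := [[0, 1, 1, 1, 1, 0, 1, 0, 1, 0, 0, 1, 1, 1, 1, 1, 0, 1, 1, 0, 0], [1, 1, 1, 0, 1, 0, 1, 0, 0, 1, 1, 1, 1, 1, 0, 1, 0, 0, 1, 0, 0], [1, 0, 1, 1, 1, 0, 0, 1, 1, 0, 0, 1, 1, 1, 1, 1, 0, 1], [0, 0, 1, 1, 0, 1, 1, 0, 1, 0, 1, 0, 1, 1, 0, 0, 1, 1, 0, 0], [1, 1, 0, 1, 1, 0, 1, 0, 1, 0, 1, 1, 0, 0, 1, 1, 0], [1, 0, 1, 1, 1, 1, 0, 0, 1, 0, 1, 0, 0, 1, 1, 0, 0, 1, 0, 0, 1], [0, 1, 1, 0, 1, 1, 0, 1, 0, 1, 0, 1, 1, 0, 0, 1, 1], [1, 1, 1, 0, 0, 1, 1, 0, 0, 1, 1, 1, 1, 1, 0, 1, 1, 0], [1, 1, 1, 0, 1, 0, 1, 0, 0, 1, 1, 1, 1, 1, 0, 1, 0, 0, 1, 0], [0, 0, 1, 1, 1, 0, 1, 0, 1, 0, 0, 1, 1, 1, 1, 1, 0, 1, 0, 1, 0, 0]]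

theorem gen {ca cb : ℕ} (hc : all2 (fun (x : X) w => mw C.mul (nthD [cb, ca] C.one) w
    (chkU 7 127 100 x.c) C.one) gens WG = true) (B : Subgroup X) (hB : GoodM C ι B [cb, ca]) :
    B = ⊤ := by
  rw [eq_top_iff, ← gens_top, Subgroup.closure_le]
  intro x hx
  obtain ⟨w, hw⟩ := of_all2 hc x hx
  obtain ⟨c, h1, h2⟩ := mw_sound C _ _ hw
  obtain ⟨k, hk, e⟩ := hB.prod w
  rw [C.dec_one, one_mul, ← e, ← ι_code x h1] at h2
  exact ι_inj h2 ▸ hk

end J2M

end

end H81
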