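import Cfsg.Agent.H81.Fam
import Cfsg.Agent.H81.M22G
set_option maxRecDepth 1000000
set_option Elab.async false
namespace H81.M22C3
open H71
noncomputable def cm : ℕ := geo 12 12
noncomputable def rm : ℕ := 2 ^ 12 - 1
noncomputable def one : ℕ := geo 13 12
noncomputable def C : CdA (Matrix (Fin 12) (Fin 12) (ZMod 2)) := cda2 12 cm rm one (by decide +kernel)
noncomputable def m1 : ℕ := 0x5fdfabb5a6f59ef79a34c2c82d81b403402c
noncomputable def m1i : ℕ := 0xfeba96736e2de2b91602c01801b036de5b9f
noncomputable def m0 : ℕ := 0x25a1f582f41a09907717d3eb0410c300400c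
noncomputable def m0i : ℕ := 0x6ebd9688444c423c12cdf8ba00300242fc1a
noncomputable def y : ℕ := 0xc008003002000c008003002000c008003002
noncomputable def z : ℕ := one
noncomputable def tab : List ℕ := [m1, m1i, m0, m0i, y, z]
noncomputable def Ps : List ℕ := [0xa7005700d50033002600360018002800bf008900750008000700d7000c0044007100380055003500b9003f001b003900540059008c004d00c4004300a000ab00a40077001e00ad0096001a0017005f004a00c3008a0023009f00b700b40037001900210094003d00d000ac00050012006d003c004e00a5007400bd008b001f00d60079004200a9009a0087000200d2005b0045002e0000001c008300880067003b00b5006800cc00b80086008400690006006a00c600560093001600610001005e00b3004f0048003e00900034009b00d900b600d10092007d008000c9001d009c005a006f009500af00460003003a006c006500bc009d0015005c00de002700a100850072002d00e5001100dc0070007800c2004000970066005d0013005000dd00c700b200e100ca00e2007a007e0020009800910073002400d400e3000e00d3006000510064003200820010001400c000c100b1009e002c00ba00da00df007c00630047000f006e004100a3005200ae007f00e400a8000b00cf002900cd008100be0053002b00d800e60030002a008d0062000d0031007600c500cb00ce00580022002500bb004c00c80099008f004900b0002f0009008e004b000a000400a200db00aa007b00e0006b00a6,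 0, 0xc5005d00dc004f0015004400d000ba0004002400c700880061008e002b007500d5002300a1002d00010027005400af006e00c000aa00430071008a0017008700cc0042005b006a009c009100e100d8009a004600d3001400130051006d00c9009600940068007b00cb000c00810070006c005f00b90002003400d7003e0079004100a4004e0056003000be0064002000d9004900c3002900dd004500b1002f00b400ce008b005500d4007a00d100b6006b00cd000500b800b300c8000d000b00900026009f000600a300ad005a007e0012004b00a70011000e009d009800670060005c0073000f00ae00d200630037007600a200bf003d0082003300e000db0035001d00a6001f00400058002c000300df007f00ab0018004700b70074004d001b00360089009900570048001c00b200ac003a005300b0003c00da00c400a8004a0039006f00e5009700920010005e002a001e007d0065000000e4009e00bc00b500c100660083008d003f0016008000090032008400de00e6005900e30038007800a500a0002e009b002200500085008600720095001a00bb004c0025008f0093007700c2008c002800210031007c000700ca00cf00190052000a006900c600a90062003b00bd000800e200d6]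
noncomputable def π (l x : ℕ) : ℕ := Nat.land (Nat.shiftRight (nthD Ps 0 l) (Nat.shiftLeft x 4)) 65535
noncomputable def z1 : ℕ := 0xc008003002000c008003002000c008003002
noncomputable def Z : List ℕ := [one, z1]
noncomputable def sprd (x : ℕ) (L : List (ℕ × ℕ)) : ℕ :=
  List.rec (motive := fun _ => ℕ) x (fun q _ y => Nat.lor (Nat.xor y (Nat.land y q.1)) (Nat.shiftLeft (Nat.land y q.1) q.2)) L
noncomputable def sa : List (ℕ × ℕ) := []
noncomputable def sb0 : ℕ := (2 ^ 2 - 1) * 2 ^ 2 * geo 24 6
noncomputable def sb1 : ℕ := (2 ^ 4 - 1) * 2 ^ 4 * geo 48 3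
noncomputable def sb2 : ℕ := (2 ^ 8 - 1) * 2 ^ 8 * geo 96 2
noncomputable def sb3 : ℕ := (2 ^ 16 - 1) * 2 ^ 16 * geo 192 1
noncomputable def sb : List (ℕ × ℕ) := [(sb0, 10), (sb1, 20), (sb2, 40), (sb3, 80)]
noncomputable def lo : ℕ := 2 ^ 24 - 1
noncomputable def t0 : ℕ := 0x9e0970cf28a1
noncomputable def t1 : ℕ := 0xee70779ee79
noncomputable def t2 : ℕ := 0x6bb6dbb9dde
noncomputable def t3 : ℕ := 0x6ddd7d696
noncomputable def t4 : ℕ := 0x60b60d6a5bfa
noncomputable def t5 : ℕ := 0x9ee779320210
noncomputable def t6 : ℕ := 0xd60ddd334118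
noncomputable def t7 : ℕ := 0xe7777780e409
noncomputable def t8 : ℕ := 0x600dbdc2d436
noncomputable def t9 : ℕ := 0xbb6d77d996
noncomputable def t10 : ℕ := 0x9e9a5a5f5
noncomputable def t11 : ℕ := 0xbbb0dd11d226
noncomputable def t12 : ℕ := 0xe707b5a6f5
noncomputable def t13 : ℕ := 0x9077097bee69
noncomputable def t14 : ℕ := 0xe7090934a2c5
noncomputable def t15 : ℕ := 0x90e0979fa7a5
noncomputable def t16 : ℕ := 0xbdb6ddd516a2
noncomputable def t17 : ℕ := 0x9e00794b6c6d
noncomputable def t18 : ℕ := 0xe09800400
noncomputable def t19 : ℕ := 0xe070770c608d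
noncomputable def t20 : ℕ := 0x9097e7636d2d
noncomputable def t21 : ℕ := 0xb6bddd9d5e6a
noncomputable def t22 : ℕ := 0xe7770308204
noncomputable def t23 : ℕ := 0x6660d09adef6
noncomputable def t24 : ℕ := 0xe7797ddabb5
noncomputable def t25 : ℕ := 0x7770e9eea995
noncomputable def t26 : ℕ := 0x77e9795e7f9
noncomputable def t27 : ℕ := 0x6bbd0d221332
noncomputable def t28 : ℕ := 0x9e7905a0f5
noncomputable def t29 : ℕ := 0x7990073a625d
noncomputable def t30 : ℕ := 0xbbbbdd1d1262
noncomputable def t31 : ℕ := 0x7970008b8464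
noncomputable def t32 : ℕ := 0x970770832421
noncomputable def t33 : ℕ := 0xe779011633d
noncomputable def t34 : ℕ := 0x907909736e2d
noncomputable def t35 : ℕ := 0x6b066d990ee0
noncomputable def t36 : ℕ := 0x70e079c22811
noncomputable def t37 : ℕ := 0x907085a4f5
noncomputable def t38 : ℕ := 0x60dbbd214328
noncomputable def t39 : ℕ := 0xe77e778c2481
noncomputable def t40 : ℕ := 0xbd01f525a
noncomputable def t41 : ℕ := 0x707009478ce4
noncomputable def t42 : ℕ := 0xe00007f4eac9
noncomputable def t43 : ℕ := 0xb6dbdc3541a
noncomputable def t44 : ℕ := 0x7977981a435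
noncomputable def t45 : ℕ := 0xd06d6db05d0a
noncomputable def t46 : ℕ := 0x97e099532f21
noncomputable def t47 : ℕ := 0xe77997a98574
noncomputable def t48 : ℕ := 0xe7797788644d
noncomputable def t49 : ℕ := 0x99077783a425
noncomputable def t50 : ℕ := 0x900e97ea0950
noncomputable def t51 : ℕ := 0x6bd6db31d12
noncomputable def t52 : ℕ := 0x97097512f31
noncomputable def t53 : ℕ := 0xe70999da7b5
noncomputable def t54 : ℕ := 0xe9777080640d
noncomputable def t55 : ℕ := 0x709715a3f5
noncomputable def t56 : ℕ := 0x9979e91603d0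
noncomputable def t57 : ℕ := 0x6ddddfc4548
noncomputable def t58 : ℕ := 0xd60d0d20d306
noncomputable def t59 : ℕ := 0xe9779c528f1
noncomputable def t60 : ℕ := 0x977909607d
noncomputable def t61 : ℕ := 0x70e779c668dd
noncomputable def t62 : ℕ := 0xee99905cef89
noncomputable def t63 : ℕ := 0xee70700ce089
noncomputable def t64 : ℕ := 0xe9eee7e429c1
noncomputable def t65 : ℕ := 0x779909bea695
noncomputable def t66 : ℕ := 0x707008c8484
noncomputable def t67 : ℕ := 0x9ee9975f2fa1
noncomputable def t68 : ℕ := 0x7eee90af85a4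
noncomputable def t69 : ℕ := 0xdb060da4df86
noncomputable def t70 : ℕ := 0x7990d5abf5
noncomputable def t71 : ℕ := 0x7e9e07ba2651
noncomputable def t72 : ℕ := 0xbdd0bd815c2a
noncomputable def t73 : ℕ := 0xbddbbd8d9c6e
noncomputable def t74 : ℕ := 0xe0e009cd88b4
noncomputable def t75 : ℕ := 0xdd00ef575a
noncomputable def t76 : ℕ := 0x909e7a565fd
noncomputable def t77 : ℕ := 0x9e0770c7a8e5
noncomputable def t78 : ℕ := 0x9990e723a125
noncomputable def t79 : ℕ := 0x999009460cd0
noncomputable def t80 : ℕ := 0x709090c8084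
noncomputable def t81 : ℕ := 0xd6000d24938e
noncomputable def t82 : ℕ := 0xee9770758ef4
noncomputable def t83 : ℕ := 0x79099792e719
noncomputable def t84 : ℕ := 0xbb06d3f915e
noncomputable def t85 : ℕ := 0xd0d6dd18d2c6
noncomputable def t86 : ℕ := 0xe07e70c82841
noncomputable def t87 : ℕ := 0xbb660de1d726
noncomputable def t88 : ℕ := 0xb0bbdd599aee
noncomputable def t89 : ℕ := 0x7009901aa355
noncomputable def t90 : ℕ := 0x60b6d0b50da0
noncomputable def t91 : ℕ := 0xee07b9667d
noncomputable def t92 : ℕ := 0xb6d06dd646b8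
noncomputable def t93 : ℕ := 0x9797e7eba965
noncomputable def t94 : ℕ := 0x9797000680d4
noncomputable def t95 : ℕ := 0x790099da6b5d
noncomputable def t96 : ℕ := 0xe909f96a7d
noncomputable def t97 : ℕ := 0xbd6d7f595a
noncomputable def t98 : ℕ := 0x9e0e7d48bc4
noncomputable def t99 : ℕ := 0xbbb6d0d596ae
noncomputable def t100 : ℕ := 0x97e990d76bed
noncomputable def t101 : ℕ := 0x79e97002e019
noncomputable def t102 : ℕ := 0x9e97600d00
noncomputable def t103 : ℕ := 0xb06b0da11f22
noncomputable def t104 : ℕ := 0x77ee70cae859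
noncomputable def t105 : ℕ := 0xbd6bdd3a41f8
noncomputable def t106 : ℕ := 0xe79997d4abc5
noncomputable def t107 : ℕ := 0x7e09995e6f9d
noncomputable def t108 : ℕ := 0xd6d6d01852ca
noncomputable def t109 : ℕ := 0x70e990678de4
noncomputable def t110 : ℕ := 0xdddf565a
noncomputable def t111 : ℕ := 0x70e074c8c84
noncomputable def t112 : ℕ := 0xdbdbde40780
noncomputable def t113 : ℕ := 0x90e079fa0a50
noncomputable def t114 : ℕ := 0xe7e97d16b3d
noncomputable def t115 : ℕ := 0x97ee995baf65
noncomputable def t116 : ℕ := 0x99ee79b606d0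
noncomputable def t117 : ℕ := 0x977e09ffeaa9
noncomputable def t118 : ℕ := 0xee9090502f01
noncomputable def t119 : ℕ := 0xee9e9058af45
noncomputable def t120 : ℕ := 0xe7e7e960ed09
noncomputable def t121 : ℕ := 0xee0700f02a01
noncomputable def t122 : ℕ := 0x9907704f6cad
noncomputable def t123 : ℕ := 0x90ee9e569fd
noncomputable def t124 : ℕ := 0x997089647d
noncomputable def t125 : ℕ := 0xe7e901da3b5
noncomputable def t126 : ℕ := 0x7090d96b7d
noncomputable def t127 : ℕ := 0xd6606d7859ca
noncomputable def t128 : ℕ := 0xee9e979467cd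
noncomputable def t129 : ℕ := 0xbbdbbd41d826
noncomputable def t130 : ℕ := 0xe0eee9e4e9c9
noncomputable def t131 : ℕ := 0x997745acf5
noncomputable def t132 : ℕ := 0xee7e902581f4
noncomputable def t133 : ℕ := 0x909009028014
noncomputable def t134 : ℕ := 0x9799e7e32921
noncomputable def t135 : ℕ := 0x970e790760ed
noncomputable def t136 : ℕ := 0x90e090536f2d
noncomputable def t137 : ℕ := 0x606d900e00
noncomputable def t138 : ℕ := 0x6000bdc694be
noncomputable def t139 : ℕ := 0xbb066dbd1d62
noncomputable def t140 : ℕ := 0x9e097703e029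
noncomputable def t141 : ℕ := 0x790079fb8a64
noncomputable def t142 : ℕ := 0xb6b6dd919e2e
noncomputable def t143 : ℕ := 0x7e990072ae15
noncomputable def t144 : ℕ := 0x97990912731
noncomputable def t145 : ℕ := 0x9e907f9aa75
noncomputable def t146 : ℕ := 0x979975defb9
noncomputable def t147 : ℕ := 0xe7e909498c74
noncomputable def t148 : ℕ := 0x9999e96b2d61
noncomputable def t149 : ℕ := 0x7e009716e3d9
noncomputable def t150 : ℕ := 0x799719637d
noncomputable def t151 : ℕ := 0xd60d2f535a
noncomputable def t152 : ℕ := 0x7e09797f8ea4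
noncomputable def t153 : ℕ := 0xb0bdd09dde66
noncomputable def t154 : ℕ := 0x606b0d850ca0
noncomputable def t155 : ℕ := 0x7909905e2f91
noncomputable def t156 : ℕ := 0x790e9796a7d5
noncomputable def t157 : ℕ := 0xdd60da79f9e
noncomputable def t158 : ℕ := 0x6d0b6d510a20
noncomputable def t159 : ℕ := 0x9e7909bf26a1
noncomputable def t160 : ℕ := 0x709e92d61bd
noncomputable def t161 : ℕ := 0xe90778524f1
noncomputable def t162 : ℕ := 0x9e7709b7a6e5
noncomputable def t163 : ℕ := 0x77099d92b71
noncomputable def t164 : ℕ := 0xee7777c468cd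
noncomputable def t165 : ℕ := 0xd6060d2c1342
noncomputable def t166 : ℕ := 0x907000f72ae1
noncomputable def t167 : ℕ := 0x6d00027539a
noncomputable def t168 : ℕ := 0xdbd6dd5c5a4a
noncomputable def t169 : ℕ := 0x990799e609d0
noncomputable def t170 : ℕ := 0xe90e09fcaa85
noncomputable def t171 : ℕ := 0x66bdddb94de8
noncomputable def t172 : ℕ := 0x6dbbddf545a8
noncomputable def t173 : ℕ := 0x97ee773e0290
noncomputable def t174 : ℕ := 0x70ee778ee499
noncomputable def t175 : ℕ := 0xe9a9657d
noncomputable def t176 : ℕ := 0x79990972ee19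
noncomputable def t177 : ℕ := 0x7779055eff9
noncomputable def t178 : ℕ := 0xb0dbbd0550aa
noncomputable def t179 : ℕ := 0x66006d1942e8
noncomputable def t180 : ℕ := 0xee7e5a9f5
noncomputable def t181 : ℕ := 0xbd6b0d29d3e6
noncomputable def t182 : ℕ := 0x7e7007cf88a4
noncomputable def t183 : ℕ := 0xb0600daddf66
noncomputable def t184 : ℕ := 0x700997d66bdd
noncomputable def t185 : ℕ := 0xe7797044acc5
noncomputable def t186 : ℕ := 0x777e07838424
noncomputable def t187 : ℕ := 0x779955aff5
noncomputable def t188 : ℕ := 0xe0e7e9e82941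
noncomputable def t189 : ℕ := 0xdb66dfb55da
noncomputable def t190 : ℕ := 0xe79e901c2381
noncomputable def t191 : ℕ := 0xb000d884cc8
noncomputable def t192 : ℕ := 0x79e977ce2891
noncomputable def t193 : ℕ := 0x9790a00500
noncomputable def t194 : ℕ := 0xeee0e7646dcd
noncomputable def t195 : ℕ := 0xe0e9e9e0a905
noncomputable def t196 : ℕ := 0x99e09017e3e9
noncomputable def t197 : ℕ := 0xbd6d00ed976e
noncomputable def t198 : ℕ := 0x7990e71b8364
noncomputable def t199 : ℕ := 0x6bbd8f5c5a
noncomputable def t200 : ℕ := 0xe7779b80640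
noncomputable def t201 : ℕ := 0x6bd06d7a99fe
noncomputable def t202 : ℕ := 0xe99e9958ef49
noncomputable def t203 : ℕ := 0x6d66dd1a12f2
noncomputable def t204 : ℕ := 0x9ee770ba8654
noncomputable def t205 : ℕ := 0x970997668dd4
noncomputable def t206 : ℕ := 0x7e99596f7d
noncomputable def t207 : ℕ := 0x6dd06db6ddb6
noncomputable def t208 : ℕ := 0xe977774cac85
noncomputable def t209 : ℕ := 0xe009f5aaf5
noncomputable def t210 : ℕ := 0x666dd09e9e7e
noncomputable def t211 : ℕ := 0xbb0d6db1dd26
noncomputable def t212 : ℕ := 0xe00ee7dd8bb4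
noncomputable def t213 : ℕ := 0x9e99e9e3e929
noncomputable def t214 : ℕ := 0x9970093b2261
noncomputable def t215 : ℕ := 0xddd0d0545a8a
noncomputable def t216 : ℕ := 0x9999200100
noncomputable def t217 : ℕ := 0xe7979b08604
noncomputable def t218 : ℕ := 0x97799112331
noncomputable def t219 : ℕ := 0x77797992771
noncomputable def t220 : ℕ := 0x77999d5ebf9
noncomputable def t221 : ℕ := 0xe09e991c638d
noncomputable def t222 : ℕ := 0x99ee901f63ad
noncomputable def t223 : ℕ := 0xe007003c628d
noncomputable def t224 : ℕ := 0xee09073462cd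
noncomputable def t225 : ℕ := 0x77e997238124
noncomputable def t226 : ℕ := 0xe99079718e34
noncomputable def t227 : ℕ := 0x997900bf66ad
noncomputable def t228 : ℕ := 0x7e79e9a6e5d9
noncomputable def t229 : ℕ := 0x606ddd9e1e72
noncomputable def t230 : ℕ := 0xb0bd05bdad6
noncomputable def TT : Tr := (.node (.node (.node (.node (.node (.node (.node (.node (.leaf t0) (.leaf t128)) (.node (.leaf t64) (.leaf t192))) (.node (.node (.leaf t32) (.leaf t160)) (.node (.leaf t96) (.leaf t224)))) (.node (.node (.node (.leaf t16) (.leaf t144)) (.node (.leaf t80) (.leaf t208))) (.node (.node (.leaf t48) (.leaf t176)) (.leaf t112)))) (.node (.node (.node (.node (.leaf t8) (.leaf t136)) (.node (.leaf t72) (.leaf t200))) (.node (.node (.leaf t40) (.leaf t168)) (.leaf t104))) (.node (.node (.node (.leaf t24) (.leaf t152)) (.node (.leaf t88) (.leaf t216))) (.node (.node (.leaf t56) (.leaf t184)) (.leaf t120))))) (.node (.node (.node (.node (.node (.leaf t4) (.leaf t132)) (.node (.leaf t68) (.leaf t196))) (.node (.node (.leaf t36) (.leaf t164)) (.node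 (.leaf t100) (.leaf t228)))) (.node (.node (.node (.leaf t20) (.leaf t148)) (.node (.leaf t84) (.leaf t212))) (.node (.node (.leaf t52) (.leaf t180)) (.leaf t116)))) (.node (.node (.node (.node (.leaf t12) (.leaf t140)) (.node (.leaf t76) (.leaf t204))) (.node (.node (.leaf t44) (.leaf t172)) (.leaf t108))) (.node (.node (.node (.leaf t28) (.leaf t156)) (.node (.leaf t92) (.leaf t220))) (.node (.node (.leaf t60) (.leaf t188)) (.leaf t124)))))) (.node (.node (.node (.node (.node (.node (.leaf t2) (.leaf t130)) (.node (.leaf t66) (.leaf t194))) (.node (.node (.leaf t34) (.leaf t162)) (.node (.leaf t98) (.leaf t226)))) (.node (.node (.node (.leaf t18) (.leaf t146)) (.node (.leaf t82) (.leaf t210))) (.node (.node (.leaf t50) (.leaf t178)) (.leaf t114)))) (.node (.node (.node (.node (.leaf t10) (.leaf t138)) (.node (.leaf t74) (.leaf t202))) (.node (.node (.leaf t42) (.leaf t170)) (.leaf t106))) (.node (.node (.node (.leaf t26) (.leaf t154)) (.node (.leaf t90) (.leaf t218))) (.node (.node (.leaf t58) (.leaf t186)) (.leaf t122))))) (.node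 (.node (.node (.node (.node (.leaf t6) (.leaf t134)) (.node (.leaf t70) (.leaf t198))) (.node (.node (.leaf t38) (.leaf t166)) (.node (.leaf t102) (.leaf t230)))) (.node (.node (.node (.leaf t22) (.leaf t150)) (.node (.leaf t86) (.leaf t214))) (.node (.node (.leaf t54) (.leaf t182)) (.leaf t118)))) (.node (.node (.node (.node (.leaf t14) (.leaf t142)) (.node (.leaf t78) (.leaf t206))) (.node (.node (.leaf t46) (.leaf t174)) (.leaf t110))) (.node (.node (.node (.leaf t30) (.leaf t158)) (.node (.leaf t94) (.leaf t222))) (.node (.node (.leaf t62) (.leaf t190)) (.leaf t126))))))) (.node (.node (.node (.node (.node (.node (.node (.leaf t1) (.leaf t129)) (.node (.leaf t65) (.leaf t193))) (.node (.node (.leaf t33) (.leaf t161)) (.node (.leaf t97) (.leaf t225)))) (.node (.node (.node (.leaf t17) (.leaf t145)) (.node (.leaf t81) (.leaf t209))) (.node (.node (.leaf t49) (.leaf t177)) (.leaf t113)))) (.node (.node (.node (.node (.leaf t9) (.leaf t137)) (.node (.leaf t73) (.leaf t201))) (.node (.node (.leaf t41) (.leaf t169)) (.leaf t105)))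 (.node (.node (.node (.leaf t25) (.leaf t153)) (.node (.leaf t89) (.leaf t217))) (.node (.node (.leaf t57) (.leaf t185)) (.leaf t121))))) (.node (.node (.node (.node (.node (.leaf t5) (.leaf t133)) (.node (.leaf t69) (.leaf t197))) (.node (.node (.leaf t37) (.leaf t165)) (.node (.leaf t101) (.leaf t229)))) (.node (.node (.node (.leaf t21) (.leaf t149)) (.node (.leaf t85) (.leaf t213))) (.node (.node (.leaf t53) (.leaf t181)) (.leaf t117)))) (.node (.node (.node (.node (.leaf t13) (.leaf t141)) (.node (.leaf t77) (.leaf t205))) (.node (.node (.leaf t45) (.leaf t173)) (.leaf t109))) (.node (.node (.node (.leaf t29) (.leaf t157)) (.node (.leaf t93) (.leaf t221))) (.node (.node (.leaf t61) (.leaf t189)) (.leaf t125)))))) (.node (.node (.node (.node (.node (.node (.leaf t3) (.leaf t131)) (.node (.leaf t67) (.leaf t195))) (.node (.node (.leaf t35) (.leaf t163)) (.node (.leaf t99) (.leaf t227)))) (.node (.node (.node (.leaf t19) (.leaf t147)) (.node (.leaf t83) (.leaf t211))) (.node (.node (.leaf t51) (.leaf t179)) (.leaf t115)))) (.node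 (.node (.node (.node (.leaf t11) (.leaf t139)) (.node (.leaf t75) (.leaf t203))) (.node (.node (.leaf t43) (.leaf t171)) (.leaf t107))) (.node (.node (.node (.leaf t27) (.leaf t155)) (.node (.leaf t91) (.leaf t219))) (.node (.node (.leaf t59) (.leaf t187)) (.leaf t123))))) (.node (.node (.node (.node (.node (.leaf t7) (.leaf t135)) (.node (.leaf t71) (.leaf t199))) (.node (.node (.leaf t39) (.leaf t167)) (.leaf t103))) (.node (.node (.node (.leaf t23) (.leaf t151)) (.node (.leaf t87) (.leaf t215))) (.node (.node (.leaf t55) (.leaf t183)) (.leaf t119)))) (.node (.node (.node (.node (.leaf t15) (.leaf t143)) (.node (.leaf t79) (.leaf t207))) (.node (.node (.leaf t47) (.leaf t175)) (.leaf t111))) (.node (.node (.node (.leaf t31) (.leaf t159)) (.node (.leaf t95) (.leaf t223))) (.node (.node (.leaf t63) (.leaf t191)) (.leaf t127))))))))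
noncomputable def T (x : ℕ) : ℕ := H73.mulF2 12 cm rm (sprd (sprd (Nat.shiftRight (TT.get x) 24) sa) sb) (sprd (Nat.land (TT.get x) lo) sa) 2
noncomputable def u0 : ℕ := 0x220000
noncomputable def u1 : ℕ := 0x8020
noncomputable def u2 : ℕ := 0x1040
noncomputable def u3 : ℕ := 0x200400
noncomputable def u4 : ℕ := 0x2080
noncomputable def u5 : ℕ := 0x820
noncomputable def u6 : ℕ := 0x400800
noncomputable def u7 : ℕ := 0x110000
noncomputable def u8 : ℕ := 0x4100
noncomputable def u9 : ℕ := 0x4010
noncomputable def u10 : ℕ := 0x6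
noncomputable def u11 : ℕ := 0x40200
noncomputable def u12 : ℕ := 0xa
noncomputable def u13 : ℕ := 0xc
noncomputable def u14 : ℕ := 0x202000
noncomputable def u15 : ℕ := 0x101000
noncomputable def u16 : ℕ := 0x8200
noncomputable def u17 : ℕ := 0x8008
noncomputable def u18 : ℕ := 0x12
noncomputable def u19 : ℕ := 0x4020
noncomputable def u20 : ℕ := 0x404000
noncomputable def u21 : ℕ := 0xa00
noncomputable def u22 : ℕ := 0x808
noncomputable def u23 : ℕ := 0x40040
noncomputable def u24 : ℕ := 0x14
noncomputable def u25 : ℕ := 0x82000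
noncomputable def u26 : ℕ := 0x18
noncomputable def u27 : ℕ := 0x80400
noncomputable def u28 : ℕ := 0x102
noncomputable def u29 : ℕ := 0x30000
noncomputable def u30 : ℕ := 0x104
noncomputable def u31 : ℕ := 0x200080
noncomputable def u32 : ℕ := 0x10400
noncomputable def u33 : ℕ := 0x21000
noncomputable def u34 : ℕ := 0x4200
noncomputable def u35 : ℕ := 0x108
noncomputable def u36 : ℕ := 0x24
noncomputable def u37 : ℕ := 0x22
noncomputable def u38 : ℕ := 0x8040
noncomputable def u39 : ℕ := 0x408000
noncomputable def u40 : ℕ := 0x400002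
noncomputable def u41 : ℕ := 0x28
noncomputable def u42 : ℕ := 0x840
noncomputable def u43 : ℕ := 0x400004
noncomputable def u44 : ℕ := 0x12000
noncomputable def u45 : ℕ := 0x3000
noncomputable def u46 : ℕ := 0x1400
noncomputable def u47 : ℕ := 0x400008
noncomputable def u48 : ℕ := 0x80080
noncomputable def u49 : ℕ := 0xa0000
noncomputable def u50 : ℕ := 0x104000
noncomputable def u51 : ℕ := 0x30
noncomputable def u52 : ℕ := 0x110
noncomputable def u53 : ℕ := 0x400010
noncomputable def u54 : ℕ := 0x204
noncomputable def u55 : ℕ := 0x202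
noncomputable def u56 : ℕ := 0x60000
noncomputable def u57 : ℕ := 0x120
noncomputable def u58 : ℕ := 0x108000
noncomputable def u59 : ℕ := 0x100800
noncomputable def u60 : ℕ := 0x40400
noncomputable def u61 : ℕ := 0x4040
noncomputable def u62 : ℕ := 0x10080
noncomputable def u63 : ℕ := 0x208
noncomputable def u64 : ℕ := 0x20800
noncomputable def u65 : ℕ := 0x28000
noncomputable def u66 : ℕ := 0x210
noncomputable def u67 : ℕ := 0x210000
noncomputable def u68 : ℕ := 0x8400
noncomputable def u69 : ℕ := 0x44
noncomputable def u70 : ℕ := 0x42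
noncomputable def u71 : ℕ := 0x100004
noncomputable def u72 : ℕ := 0x48
noncomputable def u73 : ℕ := 0xc00
noncomputable def u74 : ℕ := 0x400100
noncomputable def u75 : ℕ := 0x100002
noncomputable def u76 : ℕ := 0x100008
noncomputable def u77 : ℕ := 0x2800
noncomputable def u78 : ℕ := 0xa000
noncomputable def u79 : ℕ := 0x42000
noncomputable def u80 : ℕ := 0x50
noncomputable def u81 : ℕ := 0x90000
noncomputable def u82 : ℕ := 0x400020
noncomputable def u83 : ℕ := 0x201000
noncomputable def u84 : ℕ := 0x100010
noncomputable def u85 : ℕ := 0x24000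
noncomputable def u86 : ℕ := 0x300
noncomputable def u87 : ℕ := 0x40080
noncomputable def u88 : ℕ := 0x400200
noncomputable def u89 : ℕ := 0x1080
noncomputable def u90 : ℕ := 0x6000
noncomputable def u91 : ℕ := 0x4400
noncomputable def u92 : ℕ := 0x280000
noncomputable def u93 : ℕ := 0x140
noncomputable def u94 : ℕ := 0x81000
noncomputable def u95 : ℕ := 0x100100
noncomputable def u96 : ℕ := 0x240000
noncomputable def u97 : ℕ := 0x20002
noncomputable def u98 : ℕ := 0x8080
noncomputable def u99 : ℕ := 0x100020
noncomputable def u100 : ℕ := 0x880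
noncomputable def u101 : ℕ := 0x208000
noncomputable def u102 : ℕ := 0x402
noncomputable def u103 : ℕ := 0x20008
noncomputable def u104 : ℕ := 0x400040
noncomputable def u105 : ℕ := 0x404
noncomputable def u106 : ℕ := 0x200800
noncomputable def u107 : ℕ := 0x11000
noncomputable def u108 : ℕ := 0x408
noncomputable def u109 : ℕ := 0x20004
noncomputable def u110 : ℕ := 0x2002
noncomputable def u111 : ℕ := 0x20010
noncomputable def u112 : ℕ := 0x2004
noncomputable def u113 : ℕ := 0x4080
noncomputable def u114 : ℕ := 0x240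
noncomputable def u115 : ℕ := 0x2008
noncomputable def u116 : ℕ := 0xc0000
noncomputable def u117 : ℕ := 0x100200
noncomputable def u118 : ℕ := 0x500000
noncomputable def u119 : ℕ := 0x88000
noncomputable def u120 : ℕ := 0x20100
noncomputable def u121 : ℕ := 0x60
noncomputable def u122 : ℕ := 0x140000
noncomputable def u123 : ℕ := 0x80800
noncomputable def u124 : ℕ := 0x204000
noncomputable def u125 : ℕ := 0x2010
noncomputable def u126 : ℕ := 0x410
noncomputable def u127 : ℕ := 0x500
noncomputable def u128 : ℕ := 0x41000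
noncomputable def u129 : ℕ := 0x50000
noncomputable def u130 : ℕ := 0x18000
noncomputable def u131 : ℕ := 0x82
noncomputable def u132 : ℕ := 0x100040
noncomputable def u133 : ℕ := 0x10800
noncomputable def u134 : ℕ := 0x420
noncomputable def u135 : ℕ := 0x420000
noncomputable def u136 : ℕ := 0x84000
noncomputable def u137 : ℕ := 0x200002
noncomputable def u138 : ℕ := 0x20020
noncomputable def u139 : ℕ := 0x1800
noncomputable def u140 : ℕ := 0x84
noncomputable def u141 : ℕ := 0x200004
noncomputable def u142 : ℕ := 0x200008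
noncomputable def u143 : ℕ := 0x2100
noncomputable def u144 : ℕ := 0x90
noncomputable def u145 : ℕ := 0x402000
noncomputable def u146 : ℕ := 0x20200
noncomputable def u147 : ℕ := 0x9000
noncomputable def u148 : ℕ := 0x88
noncomputable def u149 : ℕ := 0x400400
noncomputable def u150 : ℕ := 0x200010
noncomputable def u151 : ℕ := 0x80002
noncomputable def u152 : ℕ := 0x600
noncomputable def u153 : ℕ := 0x14000
noncomputable def u154 : ℕ := 0x5000
noncomputable def u155 : ℕ := 0x80004
noncomputable def u156 : ℕ := 0x2020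
noncomputable def u157 : ℕ := 0x180
noncomputable def u158 : ℕ := 0x2200
noncomputable def u159 : ℕ := 0x200100
noncomputable def u160 : ℕ := 0xa0
noncomputable def u161 : ℕ := 0x80008
noncomputable def u162 : ℕ := 0x220
noncomputable def u163 : ℕ := 0x20040
noncomputable def u164 : ℕ := 0x40800
noncomputable def u165 : ℕ := 0x400080
noncomputable def u166 : ℕ := 0x8800
noncomputable def u167 : ℕ := 0x10004
noncomputable def u168 : ℕ := 0x200020
noncomputable def u169 : ℕ := 0x48000
noncomputable def u170 : ℕ := 0x440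
noncomputable def u171 : ℕ := 0x10008
noncomputable def u172 : ℕ := 0x120000
noncomputable def u173 : ℕ := 0x2040
noncomputable def u174 : ℕ := 0x80100
noncomputable def u175 : ℕ := 0x44000
noncomputable def u176 : ℕ := 0x600000
noncomputable def u177 : ℕ := 0x80010
noncomputable def u178 : ℕ := 0x102000
noncomputable def u179 : ℕ := 0x280
noncomputable def u180 : ℕ := 0x10002
noncomputable def u181 : ℕ := 0x80020
noncomputable def u182 : ℕ := 0x100400
noncomputable def u183 : ℕ := 0x4800
noncomputable def u184 : ℕ := 0xc000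
noncomputable def u185 : ℕ := 0x200200
noncomputable def u186 : ℕ := 0x1004
noncomputable def u187 : ℕ := 0x1002
noncomputable def u188 : ℕ := 0x480000
noncomputable def u189 : ℕ := 0x10010
noncomputable def u190 : ℕ := 0x1008
noncomputable def u191 : ℕ := 0x1010
noncomputable def u192 : ℕ := 0xc0
noncomputable def u193 : ℕ := 0x40002
noncomputable def u194 : ℕ := 0x40004
noncomputable def u195 : ℕ := 0x100080
noncomputable def u196 : ℕ := 0x1100
noncomputable def u197 : ℕ := 0x20400
noncomputable def u198 : ℕ := 0x200040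
noncomputable def u199 : ℕ := 0x8002
noncomputable def u200 : ℕ := 0x410000
noncomputable def u201 : ℕ := 0x8004
noncomputable def u202 : ℕ := 0x1020
noncomputable def u203 : ℕ := 0x300000
noncomputable def u204 : ℕ := 0x10100
noncomputable def u205 : ℕ := 0x10020
noncomputable def u206 : ℕ := 0x40010
noncomputable def u207 : ℕ := 0x401000
noncomputable def u208 : ℕ := 0x2400
noncomputable def u209 : ℕ := 0x802
noncomputable def u210 : ℕ := 0x804
noncomputable def u211 : ℕ := 0x40008
noncomputable def u212 : ℕ := 0x80200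
noncomputable def u213 : ℕ := 0x80040
noncomputable def u214 : ℕ := 0x10200
noncomputable def u215 : ℕ := 0x22000
noncomputable def u216 : ℕ := 0x4002
noncomputable def u217 : ℕ := 0x180000
noncomputable def u218 : ℕ := 0x8010
noncomputable def u219 : ℕ := 0x1200
noncomputable def u220 : ℕ := 0x810
noncomputable def u221 : ℕ := 0x4004
noncomputable def u222 : ℕ := 0x40020
noncomputable def u223 : ℕ := 0x4008
noncomputable def u224 : ℕ := 0x40100
noncomputable def u225 : ℕ := 0x900
noncomputable def u226 : ℕ := 0x20080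
noncomputable def u227 : ℕ := 0x440000
noncomputable def u228 : ℕ := 0x480
noncomputable def u229 : ℕ := 0x10040
noncomputable def u230 : ℕ := 0x8100
noncomputable def UU : Tr := (.node (.node (.node (.node (.node (.node (.node (.node (.leaf u0) (.leaf u128)) (.node (.leaf u64) (.leaf u192))) (.node (.node (.leaf u32) (.leaf u160)) (.node (.leaf u96) (.leaf u224)))) (.node (.node (.node (.leaf u16) (.leaf u144)) (.node (.leaf u80) (.leaf u208))) (.node (.node (.leaf u48) (.leaf u176)) (.leaf u112)))) (.node (.node (.node (.node (.leaf u8) (.leaf u136)) (.node (.leaf u72) (.leaf u200))) (.node (.node (.leaf u40) (.leaf u168)) (.leaf u104))) (.node (.node (.node (.leaf u24) (.leaf u152)) (.node (.leaf u88) (.leaf u216))) (.node (.node (.leaf u56) (.leaf u184)) (.leaf u120))))) (.node (.node (.node (.node (.node (.leaf u4) (.leaf u132)) (.node (.leaf u68) (.leaf u196))) (.node (.node (.leaf u36) (.leaf u164)) (.node (.leaf u100) (.leaf u228)))) (.node (.node (.node (.leaf u20) (.leaf u148)) (.node (.leaf u84) (.leaf u212))) (.node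 (.node (.leaf u52) (.leaf u180)) (.leaf u116)))) (.node (.node (.node (.node (.leaf u12) (.leaf u140)) (.node (.leaf u76) (.leaf u204))) (.node (.node (.leaf u44) (.leaf u172)) (.leaf u108))) (.node (.node (.node (.leaf u28) (.leaf u156)) (.node (.leaf u92) (.leaf u220))) (.node (.node (.leaf u60) (.leaf u188)) (.leaf u124)))))) (.node (.node (.node (.node (.node (.node (.leaf u2) (.leaf u130)) (.node (.leaf u66) (.leaf u194))) (.node (.node (.leaf u34) (.leaf u162)) (.node (.leaf u98) (.leaf u226)))) (.node (.node (.node (.leaf u18) (.leaf u146)) (.node (.leaf u82) (.leaf u210))) (.node (.node (.leaf u50) (.leaf u178)) (.leaf u114)))) (.node (.node (.node (.node (.leaf u10) (.leaf u138)) (.node (.leaf u74) (.leaf u202))) (.node (.node (.leaf u42) (.leaf u170)) (.leaf u106))) (.node (.node (.node (.leaf u26) (.leaf u154)) (.node (.leaf u90) (.leaf u218))) (.node (.node (.leaf u58) (.leaf u186)) (.leaf u122))))) (.node (.node (.node (.node (.node (.leaf u6) (.leaf u134)) (.node (.leaf u70) (.leaf u198))) (.node (.node (.leaf u38)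 (.leaf u166)) (.node (.leaf u102) (.leaf u230)))) (.node (.node (.node (.leaf u22) (.leaf u150)) (.node (.leaf u86) (.leaf u214))) (.node (.node (.leaf u54) (.leaf u182)) (.leaf u118)))) (.node (.node (.node (.node (.leaf u14) (.leaf u142)) (.node (.leaf u78) (.leaf u206))) (.node (.node (.leaf u46) (.leaf u174)) (.leaf u110))) (.node (.node (.node (.leaf u30) (.leaf u158)) (.node (.leaf u94) (.leaf u222))) (.node (.node (.leaf u62) (.leaf u190)) (.leaf u126))))))) (.node (.node (.node (.node (.node (.node (.node (.leaf u1) (.leaf u129)) (.node (.leaf u65) (.leaf u193))) (.node (.node (.leaf u33) (.leaf u161)) (.node (.leaf u97) (.leaf u225)))) (.node (.node (.node (.leaf u17) (.leaf u145)) (.node (.leaf u81) (.leaf u209))) (.node (.node (.leaf u49) (.leaf u177)) (.leaf u113)))) (.node (.node (.node (.node (.leaf u9) (.leaf u137)) (.node (.leaf u73) (.leaf u201))) (.node (.node (.leaf u41) (.leaf u169)) (.leaf u105))) (.node (.node (.node (.leaf u25) (.leaf u153)) (.node (.leaf u89) (.leaf u217))) (.node (.node (.leaf u57) (.leaf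 u185)) (.leaf u121))))) (.node (.node (.node (.node (.node (.leaf u5) (.leaf u133)) (.node (.leaf u69) (.leaf u197))) (.node (.node (.leaf u37) (.leaf u165)) (.node (.leaf u101) (.leaf u229)))) (.node (.node (.node (.leaf u21) (.leaf u149)) (.node (.leaf u85) (.leaf u213))) (.node (.node (.leaf u53) (.leaf u181)) (.leaf u117)))) (.node (.node (.node (.node (.leaf u13) (.leaf u141)) (.node (.leaf u77) (.leaf u205))) (.node (.node (.leaf u45) (.leaf u173)) (.leaf u109))) (.node (.node (.node (.leaf u29) (.leaf u157)) (.node (.leaf u93) (.leaf u221))) (.node (.node (.leaf u61) (.leaf u189)) (.leaf u125)))))) (.node (.node (.node (.node (.node (.node (.leaf u3) (.leaf u131)) (.node (.leaf u67) (.leaf u195))) (.node (.node (.leaf u35) (.leaf u163)) (.node (.leaf u99) (.leaf u227)))) (.node (.node (.node (.leaf u19) (.leaf u147)) (.node (.leaf u83) (.leaf u211))) (.node (.node (.leaf u51) (.leaf u179)) (.leaf u115)))) (.node (.node (.node (.node (.leaf u11) (.leaf u139)) (.node (.leaf u75) (.leaf u203))) (.node (.node (.leaf u43) (.leaf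 u171)) (.leaf u107))) (.node (.node (.node (.leaf u27) (.leaf u155)) (.node (.leaf u91) (.leaf u219))) (.node (.node (.leaf u59) (.leaf u187)) (.leaf u123))))) (.node (.node (.node (.node (.node (.leaf u7) (.leaf u135)) (.node (.leaf u71) (.leaf u199))) (.node (.node (.leaf u39) (.leaf u167)) (.leaf u103))) (.node (.node (.node (.leaf u23) (.leaf u151)) (.node (.leaf u87) (.leaf u215))) (.node (.node (.leaf u55) (.leaf u183)) (.leaf u119)))) (.node (.node (.node (.node (.leaf u15) (.leaf u143)) (.node (.leaf u79) (.leaf u207))) (.node (.node (.leaf u47) (.leaf u175)) (.leaf u111))) (.node (.node (.node (.leaf u31) (.leaf u159)) (.node (.leaf u95) (.leaf u223))) (.node (.node (.leaf u63) (.leaf u191)) (.leaf u127))))))))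
noncomputable def hs : Lv := ⟨0, [], [], 0x50000600080003006000010004000200030028000e000200190001002d0001000000020006000e00070004000b000500050000001700020000000600030008002b0002000d00030000000d000000000001000d0004001000190000000000070001000a000a00040000000b000b000200240000000a001100030001000200000005000a000100090001000f000300090000000000030002000400000000000f0000000c0007000000020008000c00010004000100000002000d0000000c000400010000000200040000000d0004000b00010000000200010000, 364600078, 109, 231⟩
noncomputable def L0 : List ℕ := [M22G.b, M22G.bi, M22G.a, M22G.ai]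
theorem g0 : ptsChk (PM24.C).mul (PM24.C).one (nthD L0 (PM24.C).one) UU.get hs.hsh π [0,2] 231 0 231 = true := by decide +kernel
theorem f0 : famChk C.mul (nthD tab C.one) T π [0,2] 231 0 231 = true := by decide +kernel
noncomputable def X : ℕ := 0x19f37a20810408804402c018000000002001
noncomputable def Bi : ℕ := 0xd11038d3bc1110b518add2a7764cef09c555
theorem nor : norChk C.mul C.add C.one T 231 Z [(0, 198, 0), (0, 23, 0), (0, 222, 0), (0, 135, 0), (0, 136, 0), (0, 113, 0), (0, 185, 0), (0, 137, 0), (1, 1, 4), (2, 0, 7), (1, 0, 2), (2, 0, 11), (1, 0, 3), (2, 0, 3), (1, 1, 11), (2, 0, 5), (1, 1, 3), (2, 0, 2), (1, 1, 6), (2, 0, 19)] 0x99b X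
  [(0x1001000000000000000000000000000000, 0), (0x1000000000000000000000000000000, 1)] (fun i => Nat.shiftLeft 1 (Nat.mul 12 i))
  [(0, 21), (1, 19), (2, 18), (3, 16), (4, 15), (5, 14), (6, 13), (7, 12), (7, 19), (8, 18), (9, 15)] Bi = true := by decide +kernel
theorem act : ActOn (↥Cfsg.Spor.M22) [0,2] π 231 :=
  actOn_of_rows (PM24.can) (L := L0) (S := [0,2]) M22G.good0 (PM24.gen2 H72.pg22_mem H72.M22_eq_pg (ca := M22G.a) (cb := M22G.b) (by decide +kernel)) ((Cov.zero _).step g0)
noncomputable def d1 : ℕ := 0x24b1c6a735e2c7b8e6496c7d26d1db9597f7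
noncomputable def d2 : ℕ := one
theorem base : baseChk C.mul C.one C.ent tab 4 4 3 1 [0,0,0,0] [0,1] = true := by decide +kernel
theorem main : HasU (↥Cfsg.Spor.M22) (Multiplicative (ZMod 3 × ZMod 1)) :=
  haveI := H72.simple_M22
  haveI : Finite (↥Cfsg.Spor.M22) := Nat.finite_of_card_ne_zero (by rw [H72.card_M22]; norm_num)
  hasU_of_fam C act base ((Cov.zero _).step f0) (by decide +kernel) nor
    (x := [0]) (y := [2]) (x' := []) (y' := []) (d := d1) (m := 8) (d' := d2) (m' := 0)
    (by decide) (by decide +kernel) (by decide +kernel)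
end H81.M22C3
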