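import Cfsg.Agent.H81.R24
set_option maxRecDepth 1000000
set_option Elab.async false
namespace H81.M22P2
open H71
noncomputable def x2_0 : ℕ := 0x1a4
noncomputable def x2_1 : ℕ := 0xc010
noncomputable def x2_2 : ℕ := 0x80002
noncomputable def x2_3 : ℕ := 0x40240
noncomputable def x2_4 : ℕ := 0x40248
noncomputable def x2_5 : ℕ := 0x8200
noncomputable def x2_6 : ℕ := 0x861c6
noncomputable def x2_7 : ℕ := 0x403e
noncomputable def x2_8 : ℕ := 0x696
noncomputable def x2 : Net := .cons 12 x2_0 <| .cons 6 x2_1 <| .cons 3 x2_2 <| .cons 2 x2_3 <| .cons 1 x2_4 <| .cons 2 x2_5 <| .cons 3 x2_6 <| .cons 6 x2_7 <| .cons 12 x2_8 <| .nil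
noncomputable def x1_0 : ℕ := 0xcb0
noncomputable def x1_1 : ℕ := 0x14020
noncomputable def x1_2 : ℕ := 0x6000
noncomputable def x1_3 : ℕ := 0x8200
noncomputable def x1_4 : ℕ := 0x249200
noncomputable def x1_5 : ℕ := 0x8200
noncomputable def x1_6 : ℕ := 0x106002
noncomputable def x1_7 : ℕ := 0x14024
noncomputable def x1_8 : ℕ := 0xcb0
noncomputable def x1 : Net := .cons 12 x1_0 <| .cons 6 x1_1 <| .cons 3 x1_2 <| .cons 2 x1_3 <| .cons 1 x1_4 <| .cons 2 x1_5 <| .cons 3 x1_6 <| .cons 6 x1_7 <| .cons 12 x1_8 <| .nil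
noncomputable def x0_0 : ℕ := 0x1bc
noncomputable def x0_1 : ℕ := 0x1600c
noncomputable def x0_2 : ℕ := 0x104086
noncomputable def x0_3 : ℕ := 0x8201
noncomputable def x0_4 : ℕ := 0x9249
noncomputable def x0_5 : ℕ := 0x208201
noncomputable def x0_6 : ℕ := 0x180082
noncomputable def x0_7 : ℕ := 0xe00e
noncomputable def x0_8 : ℕ := 0x188
noncomputable def x0 : Net := .cons 12 x0_0 <| .cons 6 x0_1 <| .cons 3 x0_2 <| .cons 2 x0_3 <| .cons 1 x0_4 <| .cons 2 x0_5 <| .cons 3 x0_6 <| .cons 6 x0_7 <| .cons 12 x0_8 <| .nil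
noncomputable def g7_0 : ℕ := 0xaa4
noncomputable def g7_1 : ℕ := 0x24028
noncomputable def g7_2 : ℕ := 0x80080
noncomputable def g7_3 : ℕ := 0x49001
noncomputable def g7_4 : ℕ := 0x49209
noncomputable def g7_5 : ℕ := 0x249001
noncomputable def g7_6 : ℕ := 0x80180
noncomputable def g7_7 : ℕ := 0x24028
noncomputable def g7_8 : ℕ := 0xaa4
noncomputable def g7 : Net := .cons 12 g7_0 <| .cons 6 g7_1 <| .cons 3 g7_2 <| .cons 2 g7_3 <| .cons 1 g7_4 <| .cons 2 g7_5 <| .cons 3 g7_6 <| .cons 6 g7_7 <| .cons 12 g7_8 <| .nil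
noncomputable def g6_0 : ℕ := 0x920
noncomputable def g6_1 : ℕ := 0x10004
noncomputable def g6_2 : ℕ := 0x100
noncomputable def g6_3 : ℕ := 0x49001
noncomputable def g6_4 : ℕ := 0x49001
noncomputable def g6_5 : ℕ := 0x249209
noncomputable def g6_6 : ℕ := 0x100
noncomputable def g6_7 : ℕ := 0x10004
noncomputable def g6_8 : ℕ := 0x930
noncomputable def g6 : Net := .cons 12 g6_0 <| .cons 6 g6_1 <| .cons 3 g6_2 <| .cons 2 g6_3 <| .cons 1 g6_4 <| .cons 2 g6_5 <| .cons 3 g6_6 <| .cons 6 g6_7 <| .cons 12 g6_8 <| .nil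
noncomputable def g5_0 : ℕ := 0xc30
noncomputable def g5_1 : ℕ := 0x38000
noncomputable def g5_2 : ℕ := 0x2100
noncomputable def g5_3 : ℕ := 0x240200
noncomputable def g5_4 : ℕ := 0x248200
noncomputable def g5_5 : ℕ := 0x240200
noncomputable def g5_6 : ℕ := 0x186106
noncomputable def g5_7 : ℕ := 0x38008
noncomputable def g5_8 : ℕ := 0xc30
noncomputable def g5 : Net := .cons 12 g5_0 <| .cons 6 g5_1 <| .cons 3 g5_2 <| .cons 2 g5_3 <| .cons 1 g5_4 <| .cons 2 g5_5 <| .cons 3 g5_6 <| .cons 6 g5_7 <| .cons 12 g5_8 <| .nil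
noncomputable def g4_0 : ℕ := 0x8e0
noncomputable def g4_1 : ℕ := 0x28028
noncomputable def g4_2 : ℕ := 0x240
noncomputable def g4_3 : ℕ := 0x8000
noncomputable def g4_4 : ℕ := 0x401c0
noncomputable def g4_5 : ℕ := 0x2c028
noncomputable def g4_6 : ℕ := 0x8f2
noncomputable def g4 : Net := .cons 12 g4_0 <| .cons 6 g4_1 <| .cons 1 g4_2 <| .cons 2 g4_3 <| .cons 3 g4_4 <| .cons 6 g4_5 <| .cons 12 g4_6 <| .nil
noncomputable def g3_0 : ℕ := 0x82c
noncomputable def g3_1 : ℕ := 0x10010
noncomputable def g3_2 : ℕ := 0x182004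
noncomputable def g3_3 : ℕ := 0x41001
noncomputable def g3_4 : ℕ := 0x41201
noncomputable def g3_5 : ℕ := 0x249001
noncomputable def g3_6 : ℕ := 0x86004
noncomputable def g3_7 : ℕ := 0x2e014
noncomputable def g3_8 : ℕ := 0x82c
noncomputable def g3 : Net := .cons 12 g3_0 <| .cons 6 g3_1 <| .cons 3 g3_2 <| .cons 2 g3_3 <| .cons 1 g3_4 <| .cons 2 g3_5 <| .cons 3 g3_6 <| .cons 6 g3_7 <| .cons 12 g3_8 <| .nil
noncomputable def g2_0 : ℕ := 0x580
noncomputable def g2_1 : ℕ := 0x22020
noncomputable def g2_2 : ℕ := 0x4100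
noncomputable def g2_3 : ℕ := 0x8209
noncomputable def g2_4 : ℕ := 0x249209
noncomputable def g2_5 : ℕ := 0x8209
noncomputable def g2_6 : ℕ := 0x1c4106
noncomputable def g2_7 : ℕ := 0x22034
noncomputable def g2_8 : ℕ := 0x580
noncomputable def g2 : Net := .cons 12 g2_0 <| .cons 6 g2_1 <| .cons 3 g2_2 <| .cons 2 g2_3 <| .cons 1 g2_4 <| .cons 2 g2_5 <| .cons 3 g2_6 <| .cons 6 g2_7 <| .cons 12 g2_8 <| .nil
noncomputable def g1_0 : ℕ := 0xa4
noncomputable def g1_1 : ℕ := 0xc028
noncomputable def g1_2 : ℕ := 0x100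
noncomputable def g1_3 : ℕ := 0x1209
noncomputable def g1_4 : ℕ := 0x9249
noncomputable def g1_5 : ℕ := 0x1049
noncomputable def g1_6 : ℕ := 0x400c0
noncomputable def g1_7 : ℕ := 0xc028
noncomputable def g1_8 : ℕ := 0xa4
noncomputable def g1 : Net := .cons 12 g1_0 <| .cons 6 g1_1 <| .cons 3 g1_2 <| .cons 2 g1_3 <| .cons 1 g1_4 <| .cons 2 g1_5 <| .cons 3 g1_6 <| .cons 6 g1_7 <| .cons 12 g1_8 <| .nil
noncomputable def cs : List ℕ := [0xbca90189014ac8c6d8d1395ee9aaa0, 0xbc48d99ec17ae8a73122918b51a200, 0xbc5c55c89478ac709a706290da8d20, 0xb888d1c90b7868c828b1399359d9c0, 0xb9561448647b5ccaa85339ad08a680, 0xba1a42c8417aeac7287639a744c600, 0xbd96e1a9043502cac9313bcb0989a0, 0xbaca36c8227a26cb288e39aa9a4220, 0xb89a49a90e7c2a70c931618b41d960, 0xbda0d43c759068c219333a8ab889c0]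
noncomputable def L : List Net := [x2, x1, x0, g7, g6, g5, g4, g3, g2, g1]
theorem good : Good 24 (rho24 Cfsg.Spor.M22).range L := good24 (cs := cs) (H72.M22_eq ▸ H72.allIn_stabM (by decide +kernel)) (by decide +kernel)
noncomputable def T : ℕ := 0x1c1400382800705000e0a001c140038280070500000000000000000000000000000000000000000000000000000000000000000000000000000000000000000000000000000000000000000000000000000000000000000000000000000000302800605000c0a039828003028006050000000000000000000000000000000000000000000000000000000000000000000000000000000000000000000000000000000000000000000000000000000000000000000000000000000000000e50a000a0a00141406285000505000000000000000000000000000000000000000000000000000000000000000000000000000000000000000000000000000000000000000000000000000000000000000000000000000000000000000000188140010140020280040500000000000000000000000000000000000000000000000000000000000000000000000000000000000000000000000000000000000000000000000000000000000000000000000000000000000000000000000028c28e618780030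5000000000000000000000000000000000000000000000000000000000000000000000000000000000000000000000000000000000000000000000000000000000000000000000000000000000000000000000000000000410500020500000000000000000000000000000000000000000000000000000000000000000000000000000000000000000000000000000000000000000000000000000000000000000000000000000000000000000000000000000000000001050000000000000000000000000000000000000000000000000000000000000000000000000000000000000000000000000000000000000000000000000000000000000000000000000000000000000000000000000000000000000000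
noncomputable def QT : List ℕ := [0x500000000000000000000000, 0x300000000000800000c00000000000, 0x800000000000800000]
noncomputable def UT : List ℕ := [0xa300000000000000000000000, 0xe6280000000010400038c00000000000, 0xe00000000003000000]
noncomputable def I : ℕ := 0x102ffffffffffffffffffffffffffffffffffffffffffffffff03040506070809ff
noncomputable def E0 : List (ℕ × ℕ × ℕ × List ℕ) := [(0, 0x5, 162, [10370]),
  (0, 0x2, 65, [4162,8321,8449]),
  (0, 0x2, 33, [4166,8263,8455]),
  (0, 0x3, 98, [6274,10433,10561]),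
  (0, 0x3, 66, [6278,10375,10567]),
  (0, 0x4, 131, [8386,12545,12673]),
  (0, 0x4, 99, [8390,12487,12679]),
  (0, 0x5, 161, [10306,12609,12673]),
  (0, 0x5, 33, [10310,12359,12679]),
  (0, 0x5, 164, [10498,14657,14785]),
  (0, 0x5, 132, [10502,14599,14791]),
  (0, 0x6, 194, [12418,14721,14785]),
  (0, 0x6, 66, [12422,14471,14791]),
  (0, 0x3, 97, [6210,12481,12673,14529,14721,14785]),
  (0, 0x3, 33, [6214,12359,12679,14407,14727,14791]),
  (0, 0x5, 130, [14471]),
  (0, 0x5, 129, [12545,14407,14721]),
  (3, 0x21, 0, [2113,12679,69702]),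
  (0, 0x4, 98, [10503,12423,12609,14727,14791]),
  (1, 0x84, 0, [6343,10439,65798]),
  (2, 0x63, 0, [4231,8327,67782]),
  (0, 0x3, 65, [8391,10311,10497,12417,12545,12679,14465,14663,14785]),
  (3, 0x23, 0x61, [8257,14727]),
  (2, 0x45, 0xa2, [10439,14535,14657,14721])]
noncomputable def E : List (ℕ × ℕ × ℕ × List ℕ) := (E0 ++ [])
noncomputable def Y : List (List ℕ) := [[2118,6209,8387,10305,10499,69703],
  [4229,67783],
  [6341,8389,10311,65799],
  [4161],
  [6273],
  [8385],
  [10497]]
noncomputable def CL : List (List ℕ × ℕ × ℕ) := [([6209,8391,10503], 4, 0x80000000000100084100180002002080005)]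
noncomputable def CF : List (List ℕ) := [[],
  [0x1831c70400400001c2001000000000],
  [0, 0xc00c00000050000c30000000000000c3000],
  [0x7, 0, 0x1006003180182081100005182044104000082],
  [0x1c00000000010001c7000000000000000000, 0x1c00000000010001c70000000000001c7000, 0, 0x40000000007000041000000000000040000],
  [0x50000401400c0147005147006000000006, 0x1000000000002001186007000040041000006, 0x1000000000002001186007000040000000006, 0, 0x70000000000060070820010001c0007000002],
  [0x801450c00c0000186003000000006, 0x1400c31401470000c3005000000002, 0x20001001c50401460021c4047000000002, 0x20001001c50401460021c4006000000002, 0x801450c00c0000145003000000006, 0x60001000431c00c2006044001000000006],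
  [0x20001000060401050021c4006000000002, 0x1000000000000000000000000, 0x801860870870001861c2000000006, 0x80187080046040186002000000004, 0x80187080046007186002000000004, 0x10001c7000000000000000000, 0x1800811801c2000082006000000004]]
noncomputable def C : List (ℕ × ℕ) := [(0x1cc1, 0x8040),
  (0x1062, 0x80),
  (0x18a3, 0x316812),
  (0x5, 0x106002),
  (0xe4, 0x40),
  (0x6, 0x4002),
  (0x7, 0x2)]
theorem e0 : allM (chkEq (slot T 23 0x800000) 32 1 8 1120 (hmask 1120) (fun f => slot (nthD QT 0 f) 23 0x800000) (fun f => slot (nthD UT 0 f) 23 0x800000)) E0 = true := by decide +kernel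
theorem r0 : relChk L I (planes 5 24 5) (slot T 23 0x800000) 1 0 8 = true := by decide +kernel
theorem f0 : fusChk L I (planes 5 24 5) (fun f => slot (nthD QT 0 f) 23 0x800000) (fun f => slot (nthD UT 0 f) 23 0x800000) 0 3 = true := by decide +kernel
theorem h0 : finChk (slot T 23 0x800000) 1 8 1120 (hmask 1120) 41 (E.map fun e => e.2.2.2) Y CL CF 0 8 = true := by decide +kernel
theorem c0 : chn L I 7 C = true := by decide +kernel
theorem main : NoStem (↥Cfsg.Spor.M22) (2 ^ 3) :=
  noStem_of_nets (rho24 Cfsg.Spor.M22) (rho24_inj _) good (tests_planes (m := 5) (by norm_num) _) (by norm_num) (H72.card_M22)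
    (n := 7) (K := 32) (REP := 1) (q := 8) (T := T) (W := 23) (PW := 0x800000) (QT := QT) (UT := UT) (I := I) (M := 1120) (S := 41) (C := C)
    (by decide +kernel) ((Cov.zero _).step r0)
    ((Cov.zero _).step f0) c0 (E := E) (allM_app e0 (fun _ h => absurd h List.not_mem_nil))
    (Y := Y) (CL := CL) (CF := CF) ((Cov.zero _).step h0)
end H81.M22P2
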