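import Cfsg.Agent.H81.R24
set_option maxRecDepth 1000000
set_option Elab.async false
namespace H81.M22P3
open H71
noncomputable def x0_0 : ℕ := 0x614
noncomputable def x0_1 : ℕ := 0x24
noncomputable def x0_2 : ℕ := 0x4
noncomputable def x0_3 : ℕ := 0x8001
noncomputable def x0_4 : ℕ := 0x209041
noncomputable def x0_5 : ℕ := 0x8209
noncomputable def x0_6 : ℕ := 0xc1084
noncomputable def x0_7 : ℕ := 0x1b020
noncomputable def x0_8 : ℕ := 0x396
noncomputable def x0 : Net := .cons 12 x0_0 <| .cons 6 x0_1 <| .cons 3 x0_2 <| .cons 2 x0_3 <| .cons 1 x0_4 <| .cons 2 x0_5 <| .cons 3 x0_6 <| .cons 6 x0_7 <| .cons 12 x0_8 <| .nil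
noncomputable def g2_0 : ℕ := 0xcc0
noncomputable def g2_1 : ℕ := 0x10028
noncomputable def g2_2 : ℕ := 0x100
noncomputable def g2_3 : ℕ := 0x40
noncomputable def g2_4 : ℕ := 0x8040
noncomputable def g2_5 : ℕ := 0x240
noncomputable def g2_6 : ℕ := 0x182100
noncomputable def g2_7 : ℕ := 0x7020
noncomputable def g2_8 : ℕ := 0xca2
noncomputable def g2 : Net := .cons 12 g2_0 <| .cons 6 g2_1 <| .cons 3 g2_2 <| .cons 2 g2_3 <| .cons 1 g2_4 <| .cons 2 g2_5 <| .cons 3 g2_6 <| .cons 6 g2_7 <| .cons 12 g2_8 <| .nil
noncomputable def g1_0 : ℕ := 0xc88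
noncomputable def g1_1 : ℕ := 0x3003c
noncomputable def g1_2 : ℕ := 0x102100
noncomputable def g1_3 : ℕ := 0x41
noncomputable def g1_4 : ℕ := 0x208049
noncomputable def g1_5 : ℕ := 0x208041
noncomputable def g1_6 : ℕ := 0x102102
noncomputable def g1_7 : ℕ := 0x3502c
noncomputable def g1_8 : ℕ := 0xff8
noncomputable def g1 : Net := .cons 12 g1_0 <| .cons 6 g1_1 <| .cons 3 g1_2 <| .cons 2 g1_3 <| .cons 1 g1_4 <| .cons 2 g1_5 <| .cons 3 g1_6 <| .cons 6 g1_7 <| .cons 12 g1_8 <| .nil
noncomputable def cs : List ℕ := [0xbcca823ed0951276b02332ab170960, 0xbdaab898a13d21273c6953264409a0, 0xbd4898b0ae7a1661a8303ca7668a80]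
noncomputable def L : List Net := [x0, g2, g1]
theorem good : Good 24 (rho24 Cfsg.Spor.M22).range L := good24 (cs := cs) (H72.M22_eq ▸ H72.allIn_stabM (by decide +kernel)) (by decide +kernel)
noncomputable def T : ℕ := 0x20500002050000000000000000000000000000000000000000000000000000000000000000000000000000000000000000000000000000000000000000000000000000000000000000000000000000000000000000000000000000000000000000000000000000000000000000000000000000010500000000000000000000000000000000000000000000000000000000000000000000000000000000000000000000000000000000000000000000000000000000000000000000000000000000000000000000000000000000000000000000000000000000000000000000000000000000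
noncomputable def QT : List ℕ := [0x200000010000000]
noncomputable def UT : List ℕ := [0x82100108210000000]
noncomputable def I : ℕ := 0xffffffffffffffffffffffffffffffffffffffffffffffffffffffffff0102ff
noncomputable def E0 : List (ℕ × ℕ × ℕ × List ℕ) := [(0, 0x42, 65, [4163]),
  (1, 0x842, 0, [2119,4163,65670]),
  (1, 0x421, 0, [2120,4163,4231,65606])]
noncomputable def E : List (ℕ × ℕ × ℕ × List ℕ) := (E0 ++ [])
noncomputable def Y : List (List ℕ) := [[4167,65672],
  [2120,4168,65608,65672]]
noncomputable def CL : List (List ℕ × ℕ × ℕ) := [([4161], 3, 0x8)]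
noncomputable def CF : List (List ℕ) := [[],
  [0x5000],
  [0x8, 0x145000]]
noncomputable def C : List (ℕ × ℕ) := [(0x1, 0x12002),
  (0x2, 0x2)]
theorem e0 : allM (chkEq (slot T 28 0x10000000) 1024 33 9 1056 (hmask 1056) (fun f => slot (nthD QT 0 f) 28 0x10000000) (fun f => slot (nthD UT 0 f) 28 0x10000000)) E0 = true := by decide +kernel
theorem r0 : relChk L I (planes 5 24 5) (slot T 28 0x10000000) 33 0 3 = true := by decide +kernel
theorem f0 : fusChk L I (planes 5 24 5) (fun f => slot (nthD QT 0 f) 28 0x10000000) (fun f => slot (nthD UT 0 f) 28 0x10000000) 0 1 = true := by decide +kernel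
theorem h0 : finChk (slot T 28 0x10000000) 33 9 1056 (hmask 1056) 32 (E.map fun e => e.2.2.2) Y CL CF 0 3 = true := by decide +kernel
theorem c0 : chn L I 2 C = true := by decide +kernel
theorem main : NoStem (↥Cfsg.Spor.M22) (3 ^ 2) :=
  noStem_of_nets (rho24 Cfsg.Spor.M22) (rho24_inj _) good (tests_planes (m := 5) (by norm_num) _) (by norm_num) (H72.card_M22)
    (n := 2) (K := 1024) (REP := 33) (q := 9) (T := T) (W := 28) (PW := 0x10000000) (QT := QT) (UT := UT) (I := I) (M := 1056) (S := 32) (C := C)
    (by decide +kernel) ((Cov.zero _).step r0)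
    ((Cov.zero _).step f0) c0 (E := E) (allM_app e0 (fun _ h => absurd h List.not_mem_nil))
    (Y := Y) (CL := CL) (CF := CF) ((Cov.zero _).step h0)
end H81.M22P3
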