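import Cfsg.Agent.H81.McLCD1
set_option maxRecDepth 1000000
set_option Elab.async false
namespace H81.McLC
open H71
theorem g0 : ptsChk (CoM.C).mul (CoM.C).one (nthD L0 (CoM.C).one) UU.get hs.hsh π [0,2] 2025 0 2025 = true := by decide +kernel
theorem f0 : famChk C.mul (nthD tab C.one) T π [0,2] 2025 0 24 = true := by decide +kernel
theorem f1 : famChk C.mul (nthD tab C.one) T π [0,2] 2025 24 24 = true := by decide +kernel
theorem f2 : famChk C.mul (nthD tab C.one) T π [0,2] 2025 48 24 = true := by decide +kernel
theorem f3 : famChk C.mul (nthD tab C.one) T π [0,2] 2025 72 24 = true := by decide +kernel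
theorem f4 : famChk C.mul (nthD tab C.one) T π [0,2] 2025 96 24 = true := by decide +kernel
theorem f5 : famChk C.mul (nthD tab C.one) T π [0,2] 2025 120 24 = true := by decide +kernel
theorem f6 : famChk C.mul (nthD tab C.one) T π [0,2] 2025 144 24 = true := by decide +kernel
theorem f7 : famChk C.mul (nthD tab C.one) T π [0,2] 2025 168 24 = true := by decide +kernel
theorem f8 : famChk C.mul (nthD tab C.one) T π [0,2] 2025 192 24 = true := by decide +kernel
theorem f9 : famChk C.mul (nthD tab C.one) T π [0,2] 2025 216 24 = true := by decide +kernel
theorem f10 : famChk C.mul (nthD tab C.one) T π [0,2] 2025 240 24 = true := by decide +kernel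
theorem f11 : famChk C.mul (nthD tab C.one) T π [0,2] 2025 264 24 = true := by decide +kernel
theorem f12 : famChk C.mul (nthD tab C.one) T π [0,2] 2025 288 24 = true := by decide +kernel
theorem f13 : famChk C.mul (nthD tab C.one) T π [0,2] 2025 312 24 = true := by decide +kernel
theorem f14 : famChk C.mul (nthD tab C.one) T π [0,2] 2025 336 24 = true := by decide +kernel
theorem f15 : famChk C.mul (nthD tab C.one) T π [0,2] 2025 360 24 = true := by decide +kernel
theorem f16 : famChk C.mul (nthD tab C.one) T π [0,2] 2025 384 24 = true := by decide +kernel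
theorem f17 : famChk C.mul (nthD tab C.one) T π [0,2] 2025 408 24 = true := by decide +kernel
theorem f18 : famChk C.mul (nthD tab C.one) T π [0,2] 2025 432 24 = true := by decide +kernel
theorem f19 : famChk C.mul (nthD tab C.one) T π [0,2] 2025 456 24 = true := by decide +kernel
theorem f20 : famChk C.mul (nthD tab C.one) T π [0,2] 2025 480 24 = true := by decide +kernel
theorem f21 : famChk C.mul (nthD tab C.one) T π [0,2] 2025 504 24 = true := by decide +kernel
theorem f22 : famChk C.mul (nthD tab C.one) T π [0,2] 2025 528 24 = true := by decide +kernel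
theorem f23 : famChk C.mul (nthD tab C.one) T π [0,2] 2025 552 24 = true := by decide +kernel
theorem f24 : famChk C.mul (nthD tab C.one) T π [0,2] 2025 576 24 = true := by decide +kernel
theorem f25 : famChk C.mul (nthD tab C.one) T π [0,2] 2025 600 24 = true := by decide +kernel
theorem f26 : famChk C.mul (nthD tab C.one) T π [0,2] 2025 624 24 = true := by decide +kernel
theorem f27 : famChk C.mul (nthD tab C.one) T π [0,2] 2025 648 24 = true := by decide +kernel
theorem f28 : famChk C.mul (nthD tab C.one) T π [0,2] 2025 672 24 = true := by decide +kernel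
theorem f29 : famChk C.mul (nthD tab C.one) T π [0,2] 2025 696 24 = true := by decide +kernel
theorem f30 : famChk C.mul (nthD tab C.one) T π [0,2] 2025 720 24 = true := by decide +kernel
theorem f31 : famChk C.mul (nthD tab C.one) T π [0,2] 2025 744 24 = true := by decide +kernel
theorem f32 : famChk C.mul (nthD tab C.one) T π [0,2] 2025 768 24 = true := by decide +kernel
theorem f33 : famChk C.mul (nthD tab C.one) T π [0,2] 2025 792 24 = true := by decide +kernel
theorem f34 : famChk C.mul (nthD tab C.one) T π [0,2] 2025 816 24 = true := by decide +kernel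
theorem f35 : famChk C.mul (nthD tab C.one) T π [0,2] 2025 840 24 = true := by decide +kernel
theorem f36 : famChk C.mul (nthD tab C.one) T π [0,2] 2025 864 24 = true := by decide +kernel
theorem f37 : famChk C.mul (nthD tab C.one) T π [0,2] 2025 888 24 = true := by decide +kernel
theorem f38 : famChk C.mul (nthD tab C.one) T π [0,2] 2025 912 24 = true := by decide +kernel
theorem f39 : famChk C.mul (nthD tab C.one) T π [0,2] 2025 936 24 = true := by decide +kernel
theorem f40 : famChk C.mul (nthD tab C.one) T π [0,2] 2025 960 24 = true := by decide +kernel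
theorem f41 : famChk C.mul (nthD tab C.one) T π [0,2] 2025 984 24 = true := by decide +kernel
theorem f42 : famChk C.mul (nthD tab C.one) T π [0,2] 2025 1008 24 = true := by decide +kernel
theorem f43 : famChk C.mul (nthD tab C.one) T π [0,2] 2025 1032 24 = true := by decide +kernel
theorem f44 : famChk C.mul (nthD tab C.one) T π [0,2] 2025 1056 24 = true := by decide +kernel
theorem f45 : famChk C.mul (nthD tab C.one) T π [0,2] 2025 1080 24 = true := by decide +kernel
theorem f46 : famChk C.mul (nthD tab C.one) T π [0,2] 2025 1104 24 = true := by decide +kernel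
theorem f47 : famChk C.mul (nthD tab C.one) T π [0,2] 2025 1128 24 = true := by decide +kernel
theorem f48 : famChk C.mul (nthD tab C.one) T π [0,2] 2025 1152 24 = true := by decide +kernel
theorem f49 : famChk C.mul (nthD tab C.one) T π [0,2] 2025 1176 24 = true := by decide +kernel
theorem f50 : famChk C.mul (nthD tab C.one) T π [0,2] 2025 1200 24 = true := by decide +kernel
theorem f51 : famChk C.mul (nthD tab C.one) T π [0,2] 2025 1224 24 = true := by decide +kernel
theorem f52 : famChk C.mul (nthD tab C.one) T π [0,2] 2025 1248 24 = true := by decide +kernel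
theorem f53 : famChk C.mul (nthD tab C.one) T π [0,2] 2025 1272 24 = true := by decide +kernel
theorem f54 : famChk C.mul (nthD tab C.one) T π [0,2] 2025 1296 24 = true := by decide +kernel
theorem f55 : famChk C.mul (nthD tab C.one) T π [0,2] 2025 1320 24 = true := by decide +kernel
theorem f56 : famChk C.mul (nthD tab C.one) T π [0,2] 2025 1344 24 = true := by decide +kernel
theorem f57 : famChk C.mul (nthD tab C.one) T π [0,2] 2025 1368 24 = true := by decide +kernel
theorem f58 : famChk C.mul (nthD tab C.one) T π [0,2] 2025 1392 24 = true := by decide +kernel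
theorem f59 : famChk C.mul (nthD tab C.one) T π [0,2] 2025 1416 24 = true := by decide +kernel
theorem f60 : famChk C.mul (nthD tab C.one) T π [0,2] 2025 1440 24 = true := by decide +kernel
end H81.McLC
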