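import Cfsg.Agent.H81.N102M
set_option maxRecDepth 1000000
set_option Elab.async false
namespace H81.N102G
open H71
noncomputable def a0 : ℕ := 0x6ebfaf50613cfbc4d6794bdee
noncomputable def a0i : ℕ := 0xee649dc4b9cc8e6c6e5efdfcb
noncomputable def a1 : ℕ := 0xdbac18da74647fd5799e3b06f
noncomputable def a1i : ℕ := 0x70f0d7c5fd7621398fb54f4cf
theorem good0 : GoodM (N102M.C) (N102M.ι) ⊤ [N102G.a1, N102G.a1i, N102G.a0, N102G.a0i] :=
  H65.MV.good_comm N102M.g3 (H65.MV.good_comm N102M.g3 GoodM.nil [6] [4] (by decide +kernel)) [2] [0] (by decide +kernel)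
noncomputable def c2 : ℕ := 0x731eafa0c3032d68aac659001
noncomputable def c2i : ℕ := 0xca0c9e2963b1414d376daa001
noncomputable def L2 : List ℕ := c2 :: c2i :: [N102G.a1, N102G.a1i, N102G.a0, N102G.a0i]
theorem gd2 : GoodM (N102M.C) (N102M.ι) ⊤ L2 :=
  GoodM.word good0 [3,1,2,1,3,1,1,3,1,3] (by decide +kernel)
noncomputable def c3 : ℕ := 0xeadaa990c23aff820a2eaa401
noncomputable def c3i : ℕ := 0xc0569d8c48f1932e9c0fdac01
noncomputable def L3 : List ℕ := c3 :: c3i :: L2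
theorem gd3 : GoodM (N102M.C) (N102M.ι) ⊤ L3 :=
  GoodM.word gd2 [5,3,3,4,2,5,2] (by decide +kernel)
noncomputable def c4 : ℕ := 0x2330bea0054887e6266d63c01
noncomputable def c4i : ℕ := 0xaaa48fa56588ef46a04112c01
noncomputable def L4 : List ℕ := c4 :: c4i :: L3
theorem gd4 : GoodM (N102M.C) (N102M.ι) ⊤ L4 :=
  GoodM.word gd3 [0,2,1,3,0,3,1,1,1] (by decide +kernel)
noncomputable def c5 : ℕ := 0x50847f1803208ff911ac93801
noncomputable def c5i : ℕ := 0x520a8186e9cbe1512fa910401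
noncomputable def L5 : List ℕ := c5 :: c5i :: L4
theorem gd5 : GoodM (N102M.C) (N102M.ι) ⊤ L5 :=
  GoodM.word gd4 [5,2,2,5,2,5] (by decide +kernel)
noncomputable def c6 : ℕ := 0xf8423daa2fe34f9d312fe9c01
noncomputable def c6i : ℕ := 0x7a9ae33ce69b37748d89db401
noncomputable def L6 : List ℕ := c6 :: c6i :: L5
theorem gd6 : GoodM (N102M.C) (N102M.ι) ⊤ L6 :=
  GoodM.word gd5 [3,0,0,0,0,3,3,3] (by decide +kernel)
noncomputable def c7 : ℕ := 0x1396e9a82c93f9e300a0e3801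
noncomputable def c7i : ℕ := 0x8842bcbf27cac123878a93001
noncomputable def L7 : List ℕ := c7 :: c7i :: L6
theorem gd7 : GoodM (N102M.C) (N102M.ι) ⊤ L7 :=
  GoodM.word gd6 [3,4,3,3,5,5] (by decide +kernel)
noncomputable def c8 : ℕ := 0xa1445e2ccd595d8515c400801
noncomputable def c8i : ℕ := 0x32d08037c60a39e536c700801
noncomputable def L8 : List ℕ := c8 :: c8i :: L7
theorem gd8 : GoodM (N102M.C) (N102M.ι) ⊤ L8 :=
  GoodM.word gd7 [3,1,3,1] (by decide +kernel)
noncomputable def c9 : ℕ := 0x78129cbdc769c76fa26372801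
noncomputable def c9i : ℕ := 0xeb8c8aa00f1be5e699e5f2c01
noncomputable def L9 : List ℕ := c9 :: c9i :: L8
theorem gd9 : GoodM (N102M.C) (N102M.ι) ⊤ L9 :=
  GoodM.word gd8 [5,3,4,2,2,5,5,5] (by decide +kernel)
noncomputable def c10 : ℕ := 0x3892198aa2530f35938a88801
noncomputable def c10i : ℕ := 0xb086c108825b6115158beb401
noncomputable def L10 : List ℕ := c10 :: c10i :: L9
theorem gd10 : GoodM (N102M.C) (N102M.ι) ⊤ L10 :=
  GoodM.word gd9 [1,3,1,3,0] (by decide +kernel)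
noncomputable def c11 : ℕ := 0x6bc8f98befe9af2e382d30001
noncomputable def c11i : ℕ := 0x6188ff13c6e3f54e9c2d53c01
noncomputable def L11 : List ℕ := c11 :: c11i :: L10
theorem gd11 : GoodM (N102M.C) (N102M.ι) ⊤ L11 :=
  GoodM.word gd10 [5,3,4,3,3,5] (by decide +kernel)
noncomputable def c12 : ℕ := 0x8a529c9c690279e08404e3001
noncomputable def c12i : ℕ := c12
noncomputable def L12 : List ℕ := c12 :: c12i :: L11
theorem gd12 : GoodM (N102M.C) (N102M.ι) ⊤ L12 :=
  GoodM.word gd11 [3,0,0,2] (by decide +kernel)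
noncomputable def c13 : ℕ := 0x32c6c49a8b597545378a38401
noncomputable def c13i : ℕ := 0x32c45f128b531b6593a38a801
noncomputable def L13 : List ℕ := c13 :: c13i :: L12
theorem gd13 : GoodM (N102M.C) (N102M.ι) ⊤ L13 :=
  GoodM.word gd12 [4,3,5,3,5,3] (by decide +kernel)
noncomputable def c14 : ℕ := 0x8a50049869025b60840463401
noncomputable def c14i : ℕ := c14
noncomputable def L14 : List ℕ := c14 :: c14i :: L13
theorem gd14 : GoodM (N102M.C) (N102M.ι) ⊤ L14 :=
  GoodM.word gd13 [5,5] (by decide +kernel)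
noncomputable def c15 : ℕ := 0x8a728714693ab9e308e763401
noncomputable def c15i : ℕ := 0x8a701c9c6930d7c3acced1801
noncomputable def L15 : List ℕ := c15 :: c15i :: L14
theorem gd15 : GoodM (N102M.C) (N102M.ι) ⊤ L15 :=
  GoodM.word gd14 [9,9,9,9,6,9,9] (by decide +kernel)
noncomputable def c16 : ℕ := 0x8a500714690817c0202d51c01
noncomputable def c16i : ℕ := c16
noncomputable def L16 : List ℕ := c16 :: c16i :: L15
theorem gd16 : GoodM (N102M.C) (N102M.ι) ⊤ L16 :=
  GoodM.word gd15 [0,6,1] (by decide +kernel)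
theorem good : GoodM (N102M.C) (N102M.ι) ⊤ [N102G.c16, N102G.c16i, N102G.c15, N102G.c15i, N102G.c14, N102G.c14i, N102G.c13, N102G.c13i, N102G.c12, N102G.c12i, N102G.c11, N102G.c11i, N102G.c10, N102G.c10i, N102G.c9, N102G.c9i, N102G.c8, N102G.c8i, N102G.c7, N102G.c7i, N102G.c6, N102G.c6i, N102G.c5, N102G.c5i, N102G.c4, N102G.c4i, N102G.c3, N102G.c3i, N102G.c2, N102G.c2i, N102G.a1, N102G.a1i, N102G.a0, N102G.a0i] := gd16
end H81.N102G
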