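import Cfsg.Agent.H81.N82M
set_option maxRecDepth 1000000
set_option Elab.async false
namespace H81.N82G
open H71
noncomputable def a0 : ℕ := 0xed35a55a56799d8d
noncomputable def a0i : ℕ := 0x635cdd03fce4b37a
noncomputable def a1 : ℕ := 0x9fdbb90a57534bac
noncomputable def a1i : ℕ := 0xb1cc49f3f50ce5de
theorem good0 : GoodM (N82M.C) (N82M.ι) ⊤ [N82G.a1, N82G.a1i, N82G.a0, N82G.a0i] :=
  H65.MV.good_comm N82M.g3 (H65.MV.good_comm N82M.g3 GoodM.nil [6] [4] (by decide +kernel)) [2] [0] (by decide +kernel)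
noncomputable def c2 : ℕ := 0x41b07510ec310701
noncomputable def c2i : ℕ := 0x458115107ca5a601
noncomputable def L2 : List ℕ := c2 :: c2i :: [N82G.a1, N82G.a1i, N82G.a0, N82G.a0i]
theorem gd2 : GoodM (N82M.C) (N82M.ι) ⊤ L2 :=
  GoodM.word good0 [2,2,0,3,1,1] (by decide +kernel)
noncomputable def c3 : ℕ := 0x43549266cfd30401
noncomputable def c3i : ℕ := 0xe32593676902a401
noncomputable def L3 : List ℕ := c3 :: c3i :: L2
theorem gd3 : GoodM (N82M.C) (N82M.ι) ⊤ L3 :=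
  GoodM.word gd2 [4,2,4,2,5] (by decide +kernel)
noncomputable def c4 : ℕ := 0x61a296e589022201
noncomputable def c4i : ℕ := 0x428706b44bd20401
noncomputable def L4 : List ℕ := c4 :: c4i :: L3
theorem gd4 : GoodM (N82M.C) (N82M.ι) ⊤ L4 :=
  GoodM.word gd3 [2,2,1,1,1,3,3,1] (by decide +kernel)
noncomputable def c5 : ℕ := 0x50e120107975d201
noncomputable def c5i : ℕ := 0xf1902010a9a57301
noncomputable def L5 : List ℕ := c5 :: c5i :: L4
theorem gd5 : GoodM (N82M.C) (N82M.ι) ⊤ L5 :=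
  GoodM.word gd4 [3,3,3,3] (by decide +kernel)
noncomputable def c6 : ℕ := 0xc590b5109d04d201
noncomputable def c6i : ℕ := 0x50d565104d049701
noncomputable def L6 : List ℕ := c6 :: c6i :: L5
theorem gd6 : GoodM (N82M.C) (N82M.ι) ⊤ L6 :=
  GoodM.word gd5 [2,0,3,1] (by decide +kernel)
noncomputable def c7 : ℕ := 0x4434b3b4ac10e501
noncomputable def c7i : ℕ := 0x5017d3041c97a601
noncomputable def L7 : List ℕ := c7 :: c7i :: L6
theorem gd7 : GoodM (N82M.C) (N82M.ι) ⊤ L7 :=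
  GoodM.word gd6 [4,4,4,4,3,4,3,3,5] (by decide +kernel)
noncomputable def c8 : ℕ := 0xc382205389040201
noncomputable def c8i : ℕ := 0x42c120d24b040201
noncomputable def L8 : List ℕ := c8 :: c8i :: L7
theorem gd8 : GoodM (N82M.C) (N82M.ι) ⊤ L8 :=
  GoodM.word gd7 [0,2,1] (by decide +kernel)
noncomputable def c9 : ℕ := 0x94c111044bd2e501
noncomputable def c9i : ℕ := 0xb1f052219d106401
noncomputable def L9 : List ℕ := c9 :: c9i :: L8
theorem gd9 : GoodM (N82M.C) (N82M.ι) ⊤ L9 :=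
  GoodM.word gd8 [4,3,5] (by decide +kernel)
noncomputable def c10 : ℕ := 0xc34005536e210201
noncomputable def c10i : ℕ := c10
noncomputable def L10 : List ℕ := c10 :: c10i :: L9
theorem gd10 : GoodM (N82M.C) (N82M.ι) ⊤ L10 :=
  GoodM.word gd9 [7,5,7,7,4,4,4] (by decide +kernel)
noncomputable def c11 : ℕ := 0x80c10510ac210201
noncomputable def c11i : ℕ := c11
noncomputable def L11 : List ℕ := c11 :: c11i :: L10
theorem gd11 : GoodM (N82M.C) (N82M.ι) ⊤ L11 :=
  GoodM.word gd10 [5,0,4] (by decide +kernel)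
noncomputable def c12 : ℕ := 0x2417d3b4ac53a601
noncomputable def c12i : ℕ := c12
noncomputable def L12 : List ℕ := c12 :: c12i :: L11
theorem gd12 : GoodM (N82M.C) (N82M.ι) ⊤ L12 :=
  GoodM.word gd11 [7,4,7] (by decide +kernel)
theorem good : GoodM (N82M.C) (N82M.ι) ⊤ [N82G.c12, N82G.c12i, N82G.c11, N82G.c11i, N82G.c10, N82G.c10i, N82G.c9, N82G.c9i, N82G.c8, N82G.c8i, N82G.c7, N82G.c7i, N82G.c6, N82G.c6i, N82G.c5, N82G.c5i, N82G.c4, N82G.c4i, N82G.c3, N82G.c3i, N82G.c2, N82G.c2i, N82G.a1, N82G.a1i, N82G.a0, N82G.a0i] := gd12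
end H81.N82G
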