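import Cfsg.Agent.H81.N84M
set_option maxRecDepth 1000000
set_option Elab.async false
namespace H81.N84G
open H71
noncomputable def a0 : ℕ := 0xeffb9aa6ca4e85c9087504efc8d884b419e4379c7c95e87fc66b8dd6a5105f30
noncomputable def a0i : ℕ := 0x2c811843f78cae4836762dede6199d37b7106e30bd6a6bd5b24161c3791fe73a
noncomputable def a1 : ℕ := 0x269d1d7b78c0e4809b4476cc7772eee119fc37a80f400ac024b51c6fcb87864e
noncomputable def a1i : ℕ := 0xe21d913b40e4c09c130f320a315323f211c833849da67b5d2cfd18abe6979d7e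
theorem good0 : GoodM (N84M.C) (N84M.ι) ⊤ [N84G.a1, N84G.a1i, N84G.a0, N84G.a0i] :=
  H65.MV.good_comm N84M.g3 (H65.MV.good_comm N84M.g3 GoodM.nil [6] [4] (by decide +kernel)) [2] [0] (by decide +kernel)
noncomputable def c2 : ℕ := 0x621cd1389c34782c642cdc18ad3f5b2a47afce5aca07850ef11ea33900020001
noncomputable def c2i : ℕ := 0x6328d2149f197a37d12eb319773fee2a0e8f094ac81d843b2907170e00020001
noncomputable def L2 : List ℕ := c2 :: c2i :: [N84G.a1, N84G.a1i, N84G.a0, N84G.a0i]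
theorem gd2 : GoodM (N84M.C) (N84M.ι) ⊤ L2 :=
  GoodM.word good0 [0,2,2,1,1,2,1] (by decide +kernel)
noncomputable def c3 : ℕ := 0x9c0d780bd522bf11f307a20efa1ea5395342f2c17e22e9111c36382d00030002
noncomputable def c3i : ℕ := 0x5d3dfb2be43d9c2b8b04460c311c23389afa75a57f08ea04483bc42600010003
noncomputable def L3 : List ℕ := c3 :: c3i :: L2
theorem gd3 : GoodM (N84M.C) (N84M.ι) ⊤ L3 :=
  GoodM.word gd2 [4,3,3,5,2,2,4,2,4,2,5,3,4] (by decide +kernel)
noncomputable def c4 : ℕ := 0xd210b130e6319d239f077a0eeb1296317445eccf7e20e9102839142700030002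
noncomputable def c4i : ℕ := 0x9e1b7936f42dac1bdb04b60c0211013341f9c3a74e39c927a83c542800010003
noncomputable def L4 : List ℕ := c4 :: c4i :: L3
theorem gd4 : GoodM (N84M.C) (N84M.ι) ⊤ L4 :=
  GoodM.word gd3 [0,3,3,3,0,2,1,2,1,1,3,3,1] (by decide +kernel)
noncomputable def c5 : ℕ := 0xe9329721a03050209a1d753b4c2cc81869b2d761ed0a9b055129f31700020001
noncomputable def c5i : ℕ := 0xa9125731bd256b1ff21ba1360a3c0528299217712c2e181915213f1300020001
noncomputable def L5 : List ℕ := c5 :: c5i :: L4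
theorem gd5 : GoodM (N84M.C) (N84M.ι) ⊤ L5 :=
  GoodM.word gd4 [5,5,3,4,4,2,5,5] (by decide +kernel)
noncomputable def c6 : ℕ := 0xd03bb0265825f41f431bc2363a1c253877bcee680b020601a91d573b00020001
noncomputable def c6i : ℕ := 0x520ff10a7211e133b117633e632fd21a79b0e7608a0945070d3b0b2600020001
noncomputable def L6 : List ℕ := c6 :: c6i :: L5
theorem gd6 : GoodM (N84M.C) (N84M.ι) ⊤ L6 :=
  GoodM.word gd5 [3,1,2,0] (by decide +kernel)
noncomputable def c7 : ℕ := 0xbf186a34a02350123f132a32002a0015adae5b59b53a6f259d0c7b0800020001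
noncomputable def c7i : ℕ := 0xbd326b21aa0255019c1a78352b0b1606c8ba846537332e2235312f2300020001
noncomputable def L7 : List ℕ := c7 :: c7i :: L6
theorem gd7 : GoodM (N84M.C) (N84M.ι) ⊤ L7 :=
  GoodM.word gd6 [2,2,2,5,3,3,3,3,4] (by decide +kernel)
noncomputable def c8 : ℕ := 0x91017303b32362120221011337042e0cdaafb55aac26581d0120031000020001
noncomputable def c8i : ℕ := 0xd80db40ba80354028a22451104070c0ed893b4720c06080dd12eb31900020001
noncomputable def L8 : List ℕ := c8 :: c8i :: L7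
theorem gd8 : GoodM (N84M.C) (N84M.ι) ⊤ L8 :=
  GoodM.word gd7 [3,1,1,2,0,0,0,3] (by decide +kernel)
noncomputable def c9 : ℕ := 0x312123136d37db2e720fe10a2c24181ccbae8659193c3728fc1ea83900020001
noncomputable def c9i : ℕ := 0xb7386e244313c232ed0a9b054f37ca2ed2b2b161cb0e86095423fc1200020001
noncomputable def L9 : List ℕ := c9 :: c9i :: L8
theorem gd9 : GoodM (N84M.C) (N84M.ι) ⊤ L9 :=
  GoodM.word gd8 [3,4,2,4,2,2] (by decide +kernel)
noncomputable def c10 : ℕ := 0x7a11e533ee3d992b630ed209362c2d184796ce7d913f732a8923471200020001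
noncomputable def c10i : ℕ := 0xb42c6c18da11b533de09b907cc3d882b5fa2fa51e205910fa53b5f2600020001
noncomputable def L10 : List ℕ := c10 :: c10i :: L9
theorem gd10 : GoodM (N84M.C) (N84M.ι) ⊤ L10 :=
  GoodM.word gd9 [1,3,0,2,1,3] (by decide +kernel)
noncomputable def c11 : ℕ := 0x7118e3343e332922b5076f0e3b2226119a96757d9a36752d5224f11c00020001
noncomputable def c11i : ℕ := 0xf53daf2b19223711de09b90725111f33c8ba8465c81a84359a1e753900020001
noncomputable def L11 : List ℕ := c11 :: c11i :: L10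
theorem gd11 : GoodM (N84M.C) (N84M.ι) ⊤ L11 :=
  GoodM.word gd10 [2,5,3,4,4,4,3] (by decide +kernel)
noncomputable def c12 : ℕ := 0xb42c6c18ba16653dbe0e6909362c2d189a96757d1814343c9a1e753900020001
noncomputable def c12i : ℕ := 0xf53daf2ba22251116509df07773dee2b82a241519a36752d822a411500020001
noncomputable def L12 : List ℕ := c12 :: c12i :: L11
theorem gd12 : GoodM (N84M.C) (N84M.ι) ⊤ L12 :=
  GoodM.word gd11 [7,4,7] (by decide +kernel)
theorem good : GoodM (N84M.C) (N84M.ι) ⊤ [N84G.c12, N84G.c12i, N84G.c11, N84G.c11i, N84G.c10, N84G.c10i, N84G.c9, N84G.c9i, N84G.c8, N84G.c8i, N84G.c7, N84G.c7i, N84G.c6, N84G.c6i, N84G.c5, N84G.c5i, N84G.c4, N84G.c4i, N84G.c3, N84G.c3i, N84G.c2, N84G.c2i, N84G.a1, N84G.a1i, N84G.a0, N84G.a0i] := gd12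
end H81.N84G
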