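import Cfsg.Agent.H81.P102M
set_option maxRecDepth 1000000
set_option Elab.async false
namespace H81.P102G
open H71
noncomputable def a0 : ℕ := 0x4a69dbe9d712681e5f57bba96
noncomputable def a0i : ℕ := 0x6b85d7a9e6e6fec64b6e31c54
noncomputable def a1 : ℕ := 0x80c63c0f52a0dae94f3af8d55
noncomputable def a1i : ℕ := 0x68a80883df5f5d7b9a415aac8
theorem good0 : GoodM (P102M.C) (P102M.ι) ⊤ [P102G.a1, P102G.a1i, P102G.a0, P102G.a0i] :=
  H65.MV.good_comm P102M.g3 (H65.MV.good_comm P102M.g3 GoodM.nil [6] [4] (by decide +kernel)) [2] [0] (by decide +kernel)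
noncomputable def c2 : ℕ := 0x401b2255e1de401240402001
noncomputable def c2i : ℕ := 0x6d4e20c0b4b60000804c0c01
noncomputable def L2 : List ℕ := c2 :: c2i :: [P102G.a1, P102G.a1i, P102G.a0, P102G.a0i]
theorem gd2 : GoodM (P102M.C) (P102M.ι) ⊤ L2 :=
  GoodM.word good0 [2,0,2,2,0] (by decide +kernel)
noncomputable def c3 : ℕ := 0xf4f1d8235999155568d732401
noncomputable def c3i : ℕ := 0xe694ea2590be81fc68d0f4c01
noncomputable def L3 : List ℕ := c3 :: c3i :: L2
theorem gd3 : GoodM (P102M.C) (P102M.ι) ⊤ L3 :=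
  GoodM.word gd2 [5,2,2,5,5] (by decide +kernel)
noncomputable def c4 : ℕ := 0xb4ed47341ca805c1341444c01
noncomputable def c4i : ℕ := 0xb6b06e38505d0191101dc7001
noncomputable def L4 : List ℕ := c4 :: c4i :: L3
theorem gd4 : GoodM (P102M.C) (P102M.ι) ⊤ L4 :=
  GoodM.word gd3 [1,3,3,0,2,1] (by decide +kernel)
noncomputable def c5 : ℕ := 0xa0c1da5c4cec71bf370307c01
noncomputable def c5i : ℕ := 0x9374a53ad4ff795e051540801
noncomputable def L5 : List ℕ := c5 :: c5i :: L4
theorem gd5 : GoodM (P102M.C) (P102M.ι) ⊤ L5 :=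
  GoodM.word gd4 [5,3,3,5,2,4,4] (by decide +kernel)
noncomputable def c6 : ℕ := 0xc6256305d71f10131882f1801
noncomputable def c6i : ℕ := 0x6c1152dca89858949c653c01
noncomputable def L6 : List ℕ := c6 :: c6i :: L5
theorem gd6 : GoodM (P102M.C) (P102M.ι) ⊤ L6 :=
  GoodM.word gd5 [2,2,1,3,3,1] (by decide +kernel)
noncomputable def c7 : ℕ := 0x694190545c89007581170401
noncomputable def c7i : ℕ := 0x64010409113b805d2d4053801
noncomputable def L7 : List ℕ := c7 :: c7i :: L6
theorem gd7 : GoodM (P102M.C) (P102M.ι) ⊤ L7 :=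
  GoodM.word gd6 [5,2,2,4,4] (by decide +kernel)
noncomputable def c8 : ℕ := 0xe5f8145c140f05817018d0001
noncomputable def c8i : ℕ := c8
noncomputable def L8 : List ℕ := c8 :: c8i :: L7
theorem gd8 : GoodM (P102M.C) (P102M.ι) ⊤ L8 :=
  GoodM.word gd7 [3,0,0,2] (by decide +kernel)
noncomputable def c9 : ℕ := 0x827d4224401d0180200c02c01
noncomputable def c9i : ℕ := c9
noncomputable def L9 : List ℕ := c9 :: c9i :: L8
theorem gd9 : GoodM (P102M.C) (P102M.ι) ⊤ L9 :=
  GoodM.word gd8 [4,2,4,2,4,2] (by decide +kernel)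
noncomputable def c10 : ℕ := 0x2048b80409dd84c1041170001
noncomputable def c10i : ℕ := 0x2060a804096f80510458d0401
noncomputable def L10 : List ℕ := c10 :: c10i :: L9
theorem gd10 : GoodM (P102M.C) (P102M.ι) ⊤ L10 :=
  GoodM.word gd9 [5,5,6,6,4,7,4,4,4] (by decide +kernel)
noncomputable def c11 : ℕ := 0x40b80e0a95cdf1bb75dac0401
noncomputable def c11i : ℕ := 0xe0f8040e95d8f4fb758e60001
noncomputable def L11 : List ℕ := c11 :: c11i :: L10
theorem gd11 : GoodM (P102M.C) (P102M.ι) ⊤ L11 :=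
  GoodM.word gd10 [9,9,7,7,8,7,8,7,7] (by decide +kernel)
noncomputable def c12 : ℕ := 0x803c1202c0ba353a21c702c01
noncomputable def c12i : ℕ := 0x80141202c0ba31ba218fa2c01
noncomputable def L12 : List ℕ := c12 :: c12i :: L11
theorem gd12 : GoodM (P102M.C) (P102M.ι) ⊤ L12 :=
  GoodM.word gd11 [9,10,9,10,10,10,10] (by decide +kernel)
noncomputable def c13 : ℕ := 0x80381202c16af1aa258f00801
noncomputable def c13i : ℕ := c13
noncomputable def L13 : List ℕ := c13 :: c13i :: L12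
theorem gd13 : GoodM (P102M.C) (P102M.ι) ⊤ L13 :=
  GoodM.word gd12 [12,10,10,13,13,11,12] (by decide +kernel)
noncomputable def c14 : ℕ := 0x3225792008ba00d1005167401
noncomputable def c14i : ℕ := c14
noncomputable def L14 : List ℕ := c14 :: c14i :: L13
theorem gd14 : GoodM (P102M.C) (P102M.ι) ⊤ L14 :=
  GoodM.word gd13 [13,15,15,15,12] (by decide +kernel)
noncomputable def c15 : ℕ := 0x57cdff7c5c0f0440504ca7801
noncomputable def c15i : ℕ := c15
noncomputable def L15 : List ℕ := c15 :: c15i :: L14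
theorem gd15 : GoodM (P102M.C) (P102M.ι) ⊤ L15 :=
  GoodM.word gd14 [17,17,15,17,14,14,16,14,16,14,16] (by decide +kernel)
noncomputable def c16 : ℕ := 0x22154822c1cdf53a25c602c01
noncomputable def c16i : ℕ := 0x82554226c1d8f07a2592a2801
noncomputable def L16 : List ℕ := c16 :: c16i :: L15
theorem gd16 : GoodM (P102M.C) (P102M.ι) ⊤ L16 :=
  GoodM.word gd15 [15,7,8,7,8,8] (by decide +kernel)
noncomputable def c17 : ℕ := 0xf2c8b52c5d7d84d05444a2801
noncomputable def c17i : ℕ := 0x40e5ee0c5dcf85005459a5c01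
noncomputable def L17 : List ℕ := c17 :: c17i :: L16
theorem gd17 : GoodM (P102M.C) (P102M.ι) ⊤ L17 :=
  GoodM.word gd16 [15,13,7,11,14] (by decide +kernel)
noncomputable def c18 : ℕ := 0x52940f2814080501701070001
noncomputable def c18i : ℕ := 0xe0914408140800417044d7001
noncomputable def L18 : List ℕ := c18 :: c18i :: L17
theorem gd18 : GoodM (P102M.C) (P102M.ι) ⊤ L18 :=
  GoodM.word gd17 [13,17,5,13,6] (by decide +kernel)
noncomputable def c19 : ℕ := 0x3225e922880834eb0192d7001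
noncomputable def c19i : ℕ := c19
noncomputable def L19 : List ℕ := c19 :: c19i :: L18
theorem gd19 : GoodM (P102M.C) (P102M.ι) ⊤ L19 :=
  GoodM.word gd18 [21,13,8,21] (by decide +kernel)
noncomputable def c20 : ℕ := 0xf2d4052e95cfb4eb758fd0401
noncomputable def c20i : ℕ := 0x40f95e0e957db53b7592d7001
noncomputable def L20 : List ℕ := c20 :: c20i :: L19
theorem gd20 : GoodM (P102M.C) (P102M.ι) ⊤ L20 :=
  GoodM.word gd19 [21,9,18,15] (by decide +kernel)
noncomputable def c21 : ℕ := 0x40d00e0e957d9c6b7707c0401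
noncomputable def c21i : ℕ := c21
noncomputable def L21 : List ℕ := c21 :: c21i :: L20
theorem gd21 : GoodM (P102M.C) (P102M.ι) ⊤ L21 :=
  GoodM.word gd20 [7,2] (by decide +kernel)
noncomputable def c22 : ℕ := 0x20500806c17d9c6a2753a0c01
noncomputable def c22i : ℕ := c22
noncomputable def L22 : List ℕ := c22 :: c22i :: L21
theorem gd22 : GoodM (P102M.C) (P102M.ι) ⊤ L22 :=
  GoodM.word gd21 [2,7] (by decide +kernel)
noncomputable def c23 : ℕ := 0x30500906c1d8f53a25c605801
noncomputable def c23i : ℕ := 0x90100302c1cdf07a2592a5c01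
noncomputable def L23 : List ℕ := c23 :: c23i :: L22
theorem gd23 : GoodM (P102M.C) (P102M.ι) ⊤ L23 :=
  GoodM.word gd22 [11,9,12,10,8] (by decide +kernel)
noncomputable def c24 : ℕ := 0x30500904401d04402050a5c01
noncomputable def c24i : ℕ := c24
noncomputable def L24 : List ℕ := c24 :: c24i :: L23
theorem gd24 : GoodM (P102M.C) (P102M.ι) ⊤ L24 :=
  GoodM.word gd23 [21,13,13,15] (by decide +kernel)
noncomputable def c25 : ℕ := 0x80100202c1d8f53a25c6a0c01
noncomputable def c25i : ℕ := c25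
noncomputable def L25 : List ℕ := c25 :: c25i :: L24
theorem gd25 : GoodM (P102M.C) (P102M.ι) ⊤ L25 :=
  GoodM.word gd24 [2,1] (by decide +kernel)
theorem good : GoodM (P102M.C) (P102M.ι) ⊤ [P102G.c25, P102G.c25i, P102G.c24, P102G.c24i, P102G.c23, P102G.c23i, P102G.c22, P102G.c22i, P102G.c21, P102G.c21i, P102G.c20, P102G.c20i, P102G.c19, P102G.c19i, P102G.c18, P102G.c18i, P102G.c17, P102G.c17i, P102G.c16, P102G.c16i, P102G.c15, P102G.c15i, P102G.c14, P102G.c14i, P102G.c13, P102G.c13i, P102G.c12, P102G.c12i, P102G.c11, P102G.c11i, P102G.c10, P102G.c10i, P102G.c9, P102G.c9i, P102G.c8, P102G.c8i, P102G.c7, P102G.c7i, P102G.c6, P102G.c6i, P102G.c5, P102G.c5i, P102G.c4, P102G.c4i, P102G.c3, P102G.c3i, P102G.c2, P102G.c2i, P102G.a1, P102G.a1i, P102G.a0, P102G.a0i] := gd25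
end H81.P102G
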