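import Cfsg.Agent.H81.S64M
set_option maxRecDepth 1000000
set_option Elab.async false
namespace H81.S64G
open H71
noncomputable def a0 : ℕ := 0x13532fffbaa626d1dbb2761ea2f51a4c2c81
noncomputable def a0i : ℕ := 0xa3e52971be36f9da7ba4c5c8e1e9390cd08b
noncomputable def a1 : ℕ := 0x90d70b5f7faeeff9aab32621ae659d6bad65
noncomputable def a1i : ℕ := 0xecf98a1b736ea9f57aa675dee9697d38f24a
theorem good0 : GoodM (S64M.C) (S64M.ι) ⊤ [S64G.a1, S64G.a1i, S64G.a0, S64G.a0i] :=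
  QM.good_up S64M.e (QM.good_up S64M.e (GoodM.nil) (QM.exists_sp (by decide +kernel)) (by decide +kernel)) (QM.exists_sp (by decide +kernel)) (by decide +kernel)
noncomputable def c2 : ℕ := 0x3602d011033fdeab933a225e09907001003
noncomputable def c2i : ℕ := 0xc3582fa135329667dd303202e03902003002
noncomputable def L2 : List ℕ := c2 :: c2i :: [S64G.a1, S64G.a1i, S64G.a0, S64G.a0i]
theorem gd2 : GoodM (S64M.C) (S64M.ι) ⊤ L2 :=
  GoodM.word good0 [3,3,0] (by decide +kernel)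
noncomputable def c3 : ℕ := 0x42dc1bb106309aa75503a025d27b1e002001
noncomputable def c3i : ℕ := 0xe2691d932721b9267131a23510d30b002001
noncomputable def L3 : List ℕ := c3 :: c3i :: L2
theorem gd3 : GoodM (S64M.C) (S64M.ι) ⊤ L3 :=
  GoodM.word gd2 [4,2,5,5,3,3,3,5] (by decide +kernel)
noncomputable def c4 : ℕ := 0x92d71bd13b32dadb5b91573fd25b1f002001
noncomputable def c4i : ℕ := 0x626d1d533f2259df7bb2f61a515f3f002001
noncomputable def L4 : List ℕ := c4 :: c4i :: L3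
theorem gd4 : GoodM (S64M.C) (S64M.ι) ⊤ L4 :=
  GoodM.word gd3 [3,3,3,0] (by decide +kernel)
noncomputable def c5 : ℕ := 0xf1fa3a93472c5fefa9129317531f23001003
noncomputable def c5i : ℕ := 0xb1f63a83742e572fe1139327535f2f003002
noncomputable def L5 : List ℕ := c5 :: c5i :: L4
theorem gd5 : GoodM (S64M.C) (S64M.ι) ⊤ L5 :=
  GoodM.word gd4 [4,4,2,2,4,4,2] (by decide +kernel)
noncomputable def c6 : ℕ := 0x33722ed17b3eabe569717e3ea3652d002001
noncomputable def c6i : ℕ := 0x737e2e517f3eebe96960ed09e3692d002001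
noncomputable def L6 : List ℕ := c6 :: c6i :: L5
theorem gd6 : GoodM (S64M.C) (S64M.ι) ⊤ L6 :=
  GoodM.word gd5 [3,1,1,3,3,0,3,1,2,1] (by decide +kernel)
noncomputable def c7 : ℕ := 0xf37a2e13732e2ae159509f0722611d002001
noncomputable def c7i : ℕ := 0x23e12991773e6bed69430c20636d2d002001
noncomputable def L7 : List ℕ := c7 :: c7i :: L6
theorem gd7 : GoodM (S64M.C) (S64M.ι) ⊤ L7 :=
  GoodM.word gd6 [5,3,4,2,2,4,4,3] (by decide +kernel)
noncomputable def c8 : ℕ := 0x31723e91773e6bed69f37a2e636d2d002001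
noncomputable def c8i : ℕ := 0xf17a3e517f3eebe969d09b07e3692d002001
noncomputable def L8 : List ℕ := c8 :: c8i :: L7
theorem gd8 : GoodM (S64M.C) (S64M.ι) ⊤ L8 :=
  GoodM.word gd7 [0,3,3,1] (by decide +kernel)
noncomputable def c9 : ℕ := 0x63ed29c3e8299a975733722e921713002001
noncomputable def c9i : ℕ := 0xe3e92943ec29da9b5721e139d21b13002001
noncomputable def L9 : List ℕ := c9 :: c9i :: L8
theorem gd9 : GoodM (S64M.C) (S64M.ι) ⊤ L9 :=
  GoodM.word gd8 [5,5,2,4,3,3] (by decide +kernel)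
noncomputable def c10 : ℕ := 0x23e12983e4295a9f57509f07521f13002001
noncomputable def c10i : ℕ := c10
noncomputable def L10 : List ℕ := c10 :: c10i :: L9
theorem gd10 : GoodM (S64M.C) (S64M.ι) ⊤ L10 :=
  GoodM.word gd9 [3,3,1,2] (by decide +kernel)
noncomputable def c11 : ℕ := 0x717e3ed17b3eabe569a1e539a3652d002001
noncomputable def c11i : ℕ := c11
noncomputable def L11 : List ℕ := c11 :: c11i :: L10
theorem gd11 : GoodM (S64M.C) (S64M.ι) ⊤ L11 :=
  GoodM.word gd10 [4,2,5,2,5] (by decide +kernel)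
theorem good : GoodM (S64M.C) (S64M.ι) ⊤ [S64G.c11, S64G.c11i, S64G.c10, S64G.c10i, S64G.c9, S64G.c9i, S64G.c8, S64G.c8i, S64G.c7, S64G.c7i, S64G.c6, S64G.c6i, S64G.c5, S64G.c5i, S64G.c4, S64G.c4i, S64G.c3, S64G.c3i, S64G.c2, S64G.c2i, S64G.a1, S64G.a1i, S64G.a0, S64G.a0i] := gd11
end H81.S64G
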