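import Cfsg.Agent.H81.S82M
set_option maxRecDepth 1000000
set_option Elab.async false
namespace H81.S82G
open H71
noncomputable def a0 : ℕ := 0x3ca245f34fb5621f
noncomputable def a0i : ℕ := 0x98dab5d345a36d59
noncomputable def a1 : ℕ := 0x561797b493b95c15
noncomputable def a1i : ℕ := 0x603f8ed6c32841ff
theorem good0 : GoodM (S82M.C) (S82M.ι) ⊤ [S82G.a1, S82G.a1i, S82G.a0, S82G.a0i] :=
  H65.MW.good_sp (QM.ePlus 4) S82M.hs (H65.MW.good_sp (QM.ePlus 4) S82M.hs (GoodM.nil) 0x543ad69589ad5b3d (by decide +kernel)) 0x3c8214ff06f3e86d (by decide +kernel)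
noncomputable def c2 : ℕ := 0xaa0428398eea8901
noncomputable def c2i : ℕ := 0xeb84c831e8404b01
noncomputable def L2 : List ℕ := c2 :: c2i :: [S82G.a1, S82G.a1i, S82G.a0, S82G.a0i]
theorem gd2 : GoodM (S82M.C) (S82M.ι) ⊤ L2 :=
  GoodM.word good0 [3,3,1] (by decide +kernel)
noncomputable def c3 : ℕ := 0x2680e490622b2201
noncomputable def c3i : ℕ := 0x400ae8500782ea01
noncomputable def L3 : List ℕ := c3 :: c3i :: L2
theorem gd3 : GoodM (S82M.C) (S82M.ι) ⊤ L3 :=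
  GoodM.word gd2 [4,2,2,2,4,2,5] (by decide +kernel)
noncomputable def c4 : ℕ := 0x407083d62238101
noncomputable def c4i : ℕ := 0x30dc4752080c101
noncomputable def L4 : List ℕ := c4 :: c4i :: L3
theorem gd4 : GoodM (S82M.C) (S82M.ι) ⊤ L4 :=
  GoodM.word gd3 [1,2] (by decide +kernel)
noncomputable def c5 : ℕ := 0x30f07376080c601
noncomputable def c5i : ℕ := 0x4272f1f60a08101
noncomputable def L5 : List ℕ := c5 :: c5i :: L4
theorem gd5 : GoodM (S82M.C) (S82M.ι) ⊤ L5 :=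
  GoodM.word gd4 [5,5,5,2,2,4,4] (by decide +kernel)
noncomputable def c6 : ℕ := 0x232a45f183804001
noncomputable def c6i : ℕ := 0x4028c9bc1230d01
noncomputable def L6 : List ℕ := c6 :: c6i :: L5
theorem gd6 : GoodM (S82M.C) (S82M.ι) ⊤ L6 :=
  GoodM.word gd5 [3,3,1] (by decide +kernel)
noncomputable def c7 : ℕ := 0xc86d203d08612f01
noncomputable def c7i : ℕ := 0xad252075084c6701
noncomputable def L7 : List ℕ := c7 :: c7i :: L6
theorem gd7 : GoodM (S82M.C) (S82M.ι) ⊤ L7 :=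
  GoodM.word gd6 [5,5,5,5,5] (by decide +kernel)
noncomputable def c8 : ℕ := 0x2cec4f7fcb6bae01
noncomputable def c8i : ℕ := 0xef2fe3d3a4c76d01
noncomputable def L8 : List ℕ := c8 :: c8i :: L7
theorem gd8 : GoodM (S82M.C) (S82M.ι) ⊤ L8 :=
  GoodM.word gd7 [2,1,3] (by decide +kernel)
noncomputable def c9 : ℕ := 0x85cb68f4676e2501
noncomputable def c9i : ℕ := 0x46e9c4bc0dc7e301
noncomputable def L9 : List ℕ := c9 :: c9i :: L8
theorem gd9 : GoodM (S82M.C) (S82M.ι) ⊤ L9 :=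
  GoodM.word gd8 [3,4,4,3,4,2] (by decide +kernel)
noncomputable def c10 : ℕ := 0xa2626d3208264f01
noncomputable def c10i : ℕ := c10
noncomputable def L10 : List ℕ := c10 :: c10i :: L9
theorem gd10 : GoodM (S82M.C) (S82M.ι) ⊤ L10 :=
  GoodM.word gd9 [0,2,0,2,0,2] (by decide +kernel)
noncomputable def c11 : ℕ := 0x4383029e458a6d01
noncomputable def c11i : ℕ := 0x61a14fbc45a82001
noncomputable def L11 : List ℕ := c11 :: c11i :: L10
theorem gd11 : GoodM (S82M.C) (S82M.ι) ⊤ L11 :=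
  GoodM.word gd10 [3,3,3,5,2] (by decide +kernel)
noncomputable def c12 : ℕ := 0x8040e3f1e9e52001
noncomputable def c12i : ℕ := 0x804002d3cbc7e301
noncomputable def L12 : List ℕ := c12 :: c12i :: L11
theorem gd12 : GoodM (S82M.C) (S82M.ι) ⊤ L12 :=
  GoodM.word gd11 [7,0,0] (by decide +kernel)
noncomputable def c13 : ℕ := 0x804020f1e9e5e301
noncomputable def c13i : ℕ := c13
noncomputable def L13 : List ℕ := c13 :: c13i :: L12
theorem gd13 : GoodM (S82M.C) (S82M.ι) ⊤ L13 :=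
  GoodM.word gd12 [2,5,9] (by decide +kernel)
noncomputable def c14 : ℕ := 0x8040021008042001
noncomputable def c14i : ℕ := c14
noncomputable def L14 : List ℕ := c14 :: c14i :: L13
theorem gd14 : GoodM (S82M.C) (S82M.ι) ⊤ L14 :=
  GoodM.word gd13 [2,1] (by decide +kernel)
theorem good : GoodM (S82M.C) (S82M.ι) ⊤ [S82G.c14, S82G.c14i, S82G.c13, S82G.c13i, S82G.c12, S82G.c12i, S82G.c11, S82G.c11i, S82G.c10, S82G.c10i, S82G.c9, S82G.c9i, S82G.c8, S82G.c8i, S82G.c7, S82G.c7i, S82G.c6, S82G.c6i, S82G.c5, S82G.c5i, S82G.c4, S82G.c4i, S82G.c3, S82G.c3i, S82G.c2, S82G.c2i, S82G.a1, S82G.a1i, S82G.a0, S82G.a0i] := gd14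
end H81.S82G
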