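import Cfsg.Agent.H38.HeK2
import Cfsg.Agent.H38.HeA
import Cfsg.Agent.H25.STAut

/-! STD-S: the endgame facts `FEd` for a group with the centraliser and the extra involution of the
Held group. -/

set_option autoImplicit false
set_option maxRecDepth 100000
set_option Elab.async false

namespace H81.HeE

open H38.He H49 H71 H25.ST H64.SG Subgroup
open H67.SA (cm mem_cjs)

/-- The generators of `S`. -/
noncomputable abbrev LS : List X := [xa, xb, xc, xd, x13, x24, x35, x14, x25, xz]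

theorem LS_sq : ∀ g ∈ LS, g * g = 1 := by decide +kernel

theorem LS_inv : ∀ g ∈ LS, g⁻¹ = g := fun g hg => inv_eq_of_mul_eq_one_right (LS_sq g hg)

theorem cenW {x : X} (h : ∀ y ∈ [x24, x14, x25], x * y = y * x) :
    x ∈ J ∧ ((∀ y ∈ [xb, x13], x * y = y * x) → x ∈ E1) ∧
      ((∀ y ∈ [xc, x35], x * y = y * x) → x ∈ E2) := by
  have k : ∀ L : List X, (∀ y ∈ L, x * y = y * x) → allB (cmB x.c) (L.map UG.c) = true :=
    fun L h => allB_iff.2 fun c hc => by
      obtain ⟨y, hy, rfl⟩ := List.mem_map.1 hc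
      exact cmB_iff.2 (h y hy)
  have := impB_iff.1 (X_all (p := fun c => impB (allB (cmB c) ([x24, x14, x25].map UG.c))
    (andB (inB 32937957 c) (andB (impB (allB (cmB c) ([xb, x13].map UG.c)) (inB 33527781 c))
      (impB (allB (cmB c) ([xc, x35].map UG.c)) (inB 32946157 c))))) (by decide +kernel) x) (k _ h)
  simp only [andB_iff, impB_iff] at this
  exact ⟨mem_J.2 this.1, fun h => mem_E1.2 (this.2.1 (k _ h)), fun h => mem_E2.2 (this.2.2 (k _ h))⟩

theorem E1_J : E1 ≤ J := cl_le fun x hx => mem_J.2 (by revert x; decide +kernel)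
theorem E2_J : E2 ≤ J := cl_le fun x hx => mem_J.2 (by revert x; decide +kernel)

theorem J_sup : J ≤ E1 ⊔ E2 := cl_le fun x hx => by
  have : inB 33527781 x.c = true ∨ inB 32946157 x.c = true := by revert x; decide +kernel
  exact this.elim (fun h => mem_sup_left (mem_E1.2 h)) fun h => mem_sup_right (mem_E2.2 h)

theorem cen_W {x : X} (h : ∀ y ∈ W, x * y = y * x) : x ∈ J :=
  (cenW fun y hy => h y (mem_W.2 (by revert y; decide +kernel))).1

theorem cen_E1 {x : X} (h : ∀ y ∈ E1, x * y = y * x) : x ∈ E1 :=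
  (cenW fun y hy => h y (mem_E1.2 (by revert y; decide +kernel))).2.1
    fun y hy => h y (mem_E1.2 (by revert y; decide +kernel))

theorem cen_E2 {x : X} (h : ∀ y ∈ E2, x * y = y * x) : x ∈ E2 :=
  (cenW fun y hy => h y (mem_E2.2 (by revert y; decide +kernel))).2.2
    fun y hy => h y (mem_E2.2 (by revert y; decide +kernel))

theorem z_W : xz ∈ W := mem_cl (by simp)
theorem z_Q : xz ∈ Q := mem_cl (by simp)

theorem nor_of {U : Subgroup X} (hS : U ≤ S) {M : ℕ} (h : ∀ {x}, x ∈ U ↔ inB M x.c = true)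
    (e : allB (fun q : ℕ × ℕ => impB (inB M q.1) (allB (fun g => inB M (m5 (m5r g q.1) g))
      (LS.map UG.c))) SP = true) : ∀ g ∈ LS, ∀ x ∈ U, g * x * g⁻¹ ∈ U := fun g hg x hx => by
  have := allB_iff.1 (impB_iff.1 (S_all e (hS hx)) (h.1 hx)) _ (List.mem_map_of_mem hg)
  rwa [mul_c'', mul_c', ← h, ← congrArg (g * x * ·) (LS_inv g hg)] at this

theorem nor_J : ∀ g ∈ LS, ∀ x ∈ J, g * x * g⁻¹ ∈ J := nor_of J_le mem_J (by decide +kernel)
theorem nor_E1 : ∀ g ∈ LS, ∀ x ∈ E1, g * x * g⁻¹ ∈ E1 := nor_of E1_le mem_E1 (by decide +kernel)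
theorem nor_E2 : ∀ g ∈ LS, ∀ x ∈ E2, g * x * g⁻¹ ∈ E2 := nor_of E2_le mem_E2 (by decide +kernel)

theorem sq_J {x : X} (hx : x ∈ J) : x * x ∈ W := by
  have := impB_iff.1 (S_all (p := fun q => impB (inB 32937957 q.1) (inB 33535981 (m5r q.1 q.1)))
    (by decide +kernel) (J_le hx)) (mem_J.1 hx)
  rwa [mul_c'', ← mem_W] at this

theorem W_sq : ∀ w ∈ [x24, x14, x25, xz], ∃ x ∈ [xb * xc, x13 * xc, xb * x35, x13 * x35],
    inB 32937957 x.c = true ∧ w = x * x := by decide +kernel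

theorem pairQ {x y : X} (hx : x ∈ S) (hy : y ∈ S) (x2 : x * x = 1) (y2 : y * y = 1) (nx : x ∉ J)
    (ny : y ∉ J) (c : x * y = y * x) (n : x * y ∉ J) : x ∈ Q := by
  have := impB_iff.1 (S_all (p := fun a => impB (andB (notB (inB 32937957 a.1)) (sqB a.1))
    (orB (inB 31389665 a.1) (allB (fun b : ℕ × ℕ => orB (inB 32937957 b.1) (impB (sqB b.1)
      (impB (cmB a.1 b.1) (inB 32937957 (m5r a.1 b.1))))) SP))) (by decide +kernel) hx)
    (andB_iff.2 ⟨notB_iff.2 fun h => nx (mem_J.2 h), sqB_iff.2 x2⟩)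
  refine mem_Q.2 ((orB_iff.1 this).resolve_right fun h => n ?_)
  have := impB_iff.1 (impB_iff.1 ((orB_iff.1 (S_all h hy)).resolve_left fun h => ny (mem_J.2 h))
    (sqB_iff.2 y2)) (cmB_iff.2 c)
  rwa [mul_c'', ← mem_J] at this

theorem cent_card : ∀ g ∈ LS, 128 ≤ Nat.card ↥(S ⊓ Cz g) := fun g hg => by
  have : Nat.card ↥(S ⊓ Cz g) = cnt (fun q : ℕ × ℕ => cmB q.1 g.c) SP :=
    card_eq_cnt (P := fun x => x ∈ S ⊓ Cz g) fun x => by
      rw [mem_inf, cmB_iff, mem_centralizer_singleton_iff]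
  rw [this]
  clear this
  revert g; decide +kernel

theorem rep_E : ∀ k ≤ 8, inB 33527781 (nthD 17043521 repN k) = true ∨
    inB 32946157 (nthD 17043521 repN k) = true := by decide +kernel

theorem LS_mem : ∀ g ∈ LS, g ∈ S := fun _ hg => mem_cl hg

noncomputable def sa : S := ⟨xa, LS_mem _ (by simp)⟩
noncomputable def sb : S := ⟨xb, LS_mem _ (by simp)⟩
noncomputable def sc : S := ⟨xc, LS_mem _ (by simp)⟩
noncomputable def sd : S := ⟨xd, LS_mem _ (by simp)⟩

section Char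

variable {f : S →* X} (hf : Function.Injective f) (hS : ∀ s, f s ∈ S)
include hf hS

theorem charJ (s : S) : f s ∈ J ↔ s.1 ∈ J := by
  have := finX
  have k : ∀ E : Subgroup X, E ≤ S → (∀ x ∈ E, x * x = 1) → Nat.card E = 64 →
      (E.subgroupOf S).map f ≤ J := fun E h1 h2 h3 => by
    have := eq_E (Y := (E.subgroupOf S).map f) (by rintro _ ⟨x, -, rfl⟩; exact hS x)
      (by rintro _ ⟨x, hx, rfl⟩; rw [← map_mul, show x * x = 1 from Subtype.ext (h2 _ hx), map_one])
      (by rw [card_map_of_injective hf, Nat.card_congr (subgroupOfEquivOfLe h1).toEquiv, h3])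
    rcases this with e | e <;> rw [e]
    exacts [E1_J, E2_J]
  have k1 : J ≤ (J.comap f).map S.subtype := J_sup.trans (sup_le
    (fun x hx => ⟨⟨x, E1_le hx⟩, k E1 E1_le (fun _ => sq_E1) card_E1 ⟨_, hx, rfl⟩, rfl⟩)
    (fun x hx => ⟨⟨x, E2_le hx⟩, k E2 E2_le (fun _ => sq_E2) card_E2 ⟨_, hx, rfl⟩, rfl⟩))
  have k2 : (J.subgroupOf S).map f = J := eq_of_le_of_card_ge
    (by rintro _ ⟨x, hx, rfl⟩; exact (mem_map_iff_mem S.subtype_injective).1 (k1 hx))
    (by rw [card_map_of_injective hf, Nat.card_congr (subgroupOfEquivOfLe J_le).toEquiv])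
  rw [← mem_subgroupOf, ← mem_map_iff_mem hf, k2]

theorem charQ (s : S) (h : s.1 ∈ Q) : f s ∈ Q := by
  have nJ : ∀ s : S, ¬ inB 32937957 s.1.c = true → f s ∉ J := fun s h e =>
    h (mem_J.1 ((charJ hf hS s).1 e))
  have sq : ∀ s : S, s.1 * s.1 = 1 → f s * f s = 1 := fun s h => by
    rw [← map_mul, show s * s = 1 from Subtype.ext h, map_one]
  have ad : sa * sd = sd * sa := Subtype.ext (show xa * xd = xd * xa by decide +kernel)
  have ha := pairQ (hS sa) (hS sd) (sq sa (by decide +kernel)) (sq sd (by decide +kernel))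
    (nJ sa (by decide +kernel)) (nJ sd (by decide +kernel)) (by rw [← map_mul, ad, map_mul])
    (by rw [← map_mul]; exact nJ _ (by decide +kernel))
  have hd := pairQ (hS sd) (hS sa) (sq sd (by decide +kernel)) (sq sa (by decide +kernel))
    (nJ sd (by decide +kernel)) (nJ sa (by decide +kernel)) (by rw [← map_mul, ← ad, map_mul])
    (by rw [← map_mul]; exact nJ _ (by decide +kernel))
  have k : ∀ x y : S, x ∈ Q.comap f → x * (y * x * y⁻¹) ∈ Q.comap f := fun x y hx =>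
    mul_mem hx ((Q_normal.comap f).conj_mem x hx y)
  have h13 := k sa sb ha
  have h14 := k _ sc h13
  have h35 := k sd sc hd
  have : Q ≤ (Q.comap f).map S.subtype := cl_le fun x hx => by
    simp only [List.mem_cons, List.not_mem_nil, or_false] at hx
    rcases hx with rfl | rfl | rfl | rfl | rfl | rfl | rfl
    exacts [⟨_, ha, rfl⟩, ⟨_, hd, rfl⟩, ⟨_, h13, by decide +kernel⟩, ⟨_, h35, by decide +kernel⟩,
      ⟨_, h14, by decide +kernel⟩, ⟨_, k _ sb h35, by decide +kernel⟩,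
      ⟨_, k _ sd h14, by decide +kernel⟩]
  exact (mem_map_iff_mem S.subtype_injective).1 (this h)

end Char

/-- An automorphism that keeps the image of `S` keeps the images of `Q` and `J`. -/
theorem char_of {H : Type*} [Group H] [Finite H] {φ : S →* H} (hφ : Function.Injective φ)
    (α : MulAut H) (h : ∀ s, α (φ s) ∈ φ.range) :
    mp α ((Q.subgroupOf S).map φ) = (Q.subgroupOf S).map φ ∧
      mp α ((J.subgroupOf S).map φ) = (J.subgroupOf S).map φ := by
  let g : S →* S := (MonoidHom.ofInjective hφ).symm.toMonoidHom.comp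
    ((α.toMonoidHom.comp φ).codRestrict _ h)
  have e : ∀ s, φ (g s) = α (φ s) := fun s => MonoidHom.apply_ofInjective_symm hφ _
  have hg : Function.Injective (S.subtype.comp g) := fun a b r =>
    hφ (α.injective (by rw [← e, ← e, show g a = g b from Subtype.ext r]))
  constructor <;> refine eq_of_le_of_card_ge ?_ (card_mp α _).ge <;>
    rintro _ ⟨_, ⟨s, hs, rfl⟩, rfl⟩
  · exact ⟨g s, charQ hg (fun s => (g s).2) s hs, e s⟩
  · exact ⟨g s, (charJ hg (fun s => (g s).2) s).2 hs, e s⟩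

theorem inv_mem_Ns {G : Type*} [Group G] {U : Subgroup G} {g : G} (hg : g * g = 1)
    (h : ∀ x ∈ U, g * x * g⁻¹ ∈ U) : g ∈ Ns U :=
  mem_normalizer_iff.2 fun x => ⟨h x, fun k => by
    have := h _ k
    rwa [show g * (g * x * g⁻¹) * g⁻¹ = (g * g) * x * (g * g)⁻¹ by group, hg, one_mul, inv_one,
      mul_one] at this⟩

variable {G : Type} [Group G]

/-- Automorphisms that centralise a `2`-group of order at least `64` are inner. -/
def LB (G : Type) [Group G] : Prop :=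
  ∀ (U : Subgroup G) (β : MulAut G), IsPGroup 2 U → 64 ≤ Nat.card U → U ≤ fx β → Inn β

theorem inn_of_cent (hF : F0 G) (hB : LB G) {D : Subgroup (MulAut G)} (hD : IsPGroup 2 D)
    (hc : 128 ≤ Nat.card D) {β : MulAut G} (h : ∀ δ ∈ D, β * δ = δ * β) : Inn β := by
  have := hF.finite_aut
  refine hB (D.comap MulAut.conj) β (hD.comap_of_injective _ hF.conj_inj) ?_ fun x hx =>
    mem_fx.2 (hF.conj_inj ?_)
  · have e1 := card_mul_index ((cI ⊤).subgroupOf D)
    have e2 : ((cI ⊤).subgroupOf D).index ≤ (cI (⊤ : Subgroup G)).index := by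
      have := relIndex_le_of_le_right (H := cI (⊤ : Subgroup G)) (le_top (a := D))
        (by rw [relIndex_top_right]; exact index_ne_zero_of_finite)
      rwa [relIndex_top_right] at this
    have e3 : Nat.card ((cI ⊤).subgroupOf D) = Nat.card (D.comap MulAut.conj) := by
      rw [← card_map_of_injective D.subtype_injective, ← card_map_of_injective hF.conj_inj,
        subgroupOf_map_subtype, map_comap_eq, MonoidHom.range_eq_map]
    have := hF.index_inn
    rw [e3] at e1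
    have : Nat.card D ≤ Nat.card (D.comap MulAut.conj) * 2 :=
      e1 ▸ Nat.mul_le_mul_left _ (by omega)
    omega
  · rw [← aut_conj, h _ hx, mul_inv_cancel_right]

variable {j : X →* G} (hc : Ctx j)
include hc

theorem cen_j {U : Subgroup X} (hz : xz ∈ U) {g : G} (hg : ∀ u ∈ U, g * j u = j u * g) :
    ∃ x, j x = g ∧ ∀ u ∈ U, x * u = u * x := by
  obtain ⟨x, rfl⟩ := hc.cen g (hg _ hz)
  exact ⟨x, rfl, fun u hu => hc.inj (by rw [map_mul, map_mul, hg u hu])⟩

theorem aut_j (hB : LB G) {U : Subgroup X} (hS : U ≤ S) (hz : xz ∈ U) (h : 64 ≤ Nat.card U)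
    {β : MulAut G} (hβ : U.map j ≤ fx β) :
    ∃ x, β = MulAut.conj (j x) ∧ ∀ u ∈ U, x * u = u * x := by
  obtain ⟨g, rfl⟩ := hB _ β ((S_p.to_le hS).map j) (by rwa [card_map_of_injective hc.inj]) hβ
  obtain ⟨x, rfl, k⟩ := cen_j hc hz (g := g) fun u hu =>
    mul_inv_eq_iff_eq_mul.1 (mem_fx.1 (hβ (mem_map_of_mem j hu)))
  exact ⟨x, rfl, k⟩

theorem sc_j (hB : LB G) {U : Subgroup X} (hS : U ≤ S) (hz : xz ∈ U) (h : 64 ≤ Nat.card U)
    (k : ∀ x, (∀ u ∈ U, x * u = u * x) → x ∈ U) : SC (U.map j) := fun β hβ => by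
  obtain ⟨x, e, r⟩ := aut_j hc hB hS hz h hβ
  exact ⟨_, mem_map_of_mem j (k x r), e⟩

omit hc in
theorem ivs_j {U : Subgroup X} {g : X} (hg : g * g = 1) (h : ∀ x ∈ U, g * x * g⁻¹ ∈ U) :
    j g ∈ ivs (Ns (U.map j)) :=
  mem_ivs (map_mem_Ns (inv_mem_Ns hg h)) (by rw [← map_mul, hg, map_one])

omit hc in
theorem lnk_j {U : Subgroup X} (hS : U ≤ S) (h : ∀ g ∈ LS, ∀ x ∈ U, g * x * g⁻¹ ∈ U) :
    Lnk (S.map j) (U.map j) :=
  .step (map_mono hS) (map_le_iff_le_comap.2 (cl_le fun g hg => ivs_j (LS_sq g hg) (h g hg))) .top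

omit hc in
theorem sqs_j : sqs (J.map j) = W.map j := by
  refine le_antisymm ((closure_le _).2 ?_) (map_le_iff_le_comap.2 (cl_le fun w hw => ?_))
  · rintro _ ⟨_, ⟨x, hx, rfl⟩, rfl⟩
    exact ⟨_, sq_J hx, map_mul _ _ _⟩
  · obtain ⟨x, -, hx, rfl⟩ := W_sq w hw
    rw [mem_comap, map_mul]
    exact sq_mem_sqs (mem_map_of_mem j (mem_J.2 hx))

theorem syl_j (hI : I (j xz)) : Syl (S.map j) ⊤ := by
  have e : Cz (j xz) = j.range := le_antisymm
    (fun g hg => hc.cen g (mem_centralizer_singleton_iff.1 hg)) (by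
      rintro _ ⟨x, rfl⟩
      rw [mem_centralizer_singleton_iff, ← map_mul, z_comm, map_mul])
  have e2 := card_mul_index S
  rw [card_S, card_X] at e2
  refine ⟨le_top, S_p.map j, ?_⟩
  rw [relIndex_top_right, index_map_of_injective _ hc.inj, ← e, show S.index = 21 by omega]
  exact (by decide : Odd 21).mul hI.2

theorem oi_j (hF : F0 G) (hB : LB G) (hI : I (j xz)) (N : Subgroup (MulAut G)) (hN : IsPGroup 2 N)
    (h1 : cI (S.map j) ≤ N) (α : MulAut N) : mp α (cN (Q.map j) N) = cN (Q.map j) N ∧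
      mp α (cN (J.map j) N) = cN (J.map j) N := by
  have := hF.finite_aut
  let φ : S →* N := ((MulAut.conj.comp j).comp S.subtype).codRestrict N fun s =>
    h1 (mem_map_of_mem _ (mem_map_of_mem j s.2))
  have hφ : Function.Injective φ := fun a b e =>
    Subtype.ext (hc.inj (hF.conj_inj (congrArg Subtype.val e)))
  have k : ∀ U ≤ S, cN (U.map j) N = (U.subgroupOf S).map φ := fun U hU => le_antisymm
    (by rintro n ⟨_, ⟨x, hx, rfl⟩, e⟩; exact ⟨⟨x, hU hx⟩, hx, Subtype.ext e⟩)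
    (by rintro _ ⟨x, hx, rfl⟩; exact ⟨_, ⟨_, hx, rfl⟩, rfl⟩)
  rw [k Q Q_le, k J J_le]
  refine char_of hφ α fun s => ?_
  have : S ≤ (φ.range.comap (α.toMonoidHom.comp φ)).map S.subtype := cl_le fun g hg => by
    refine ⟨⟨g, LS_mem g hg⟩, ?_, rfl⟩
    let ψ : S →* MulAut G := N.subtype.comp (α.toMonoidHom.comp φ)
    have hψ : Function.Injective ψ := N.subtype_injective.comp (α.injective.comp hφ)
    have := Th.mem_cI hF (syl_j hc hI) hN h1 (α (φ ⟨g, LS_mem g hg⟩)).2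
      (inn_of_cent hF hB (D := ((S ⊓ Cz g).subgroupOf S).map ψ)
        (hN.to_le (by rintro _ ⟨x, -, rfl⟩; exact (α (φ x)).2))
        (by rw [card_map_of_injective hψ, Nat.card_congr (subgroupOfEquivOfLe inf_le_left).toEquiv]
            exact cent_card g hg)
        (β := ψ ⟨g, LS_mem g hg⟩) (by
          rintro _ ⟨x, hx, rfl⟩
          rw [← map_mul, ← map_mul]
          exact congrArg ψ (Subtype.ext (mem_centralizer_singleton_iff.1 hx.2).symm)))
    obtain ⟨_, ⟨x, hx, rfl⟩, e⟩ := this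
    exact ⟨⟨x, hx⟩, Subtype.ext e⟩
  exact (mem_map_iff_mem S.subtype_injective).1 (this s.2)

theorem st_j (hF : F0 G) (β : MulAut G) (h : mp β (S.map j) = S.map j) :
    mp β (J.map j) = J.map j := by
  have := hF.fin
  have k : J.map j = (J.subgroupOf S).map (j.comp S.subtype) := by
    rw [← Subgroup.map_map, subgroupOf_map_subtype, inf_eq_left.2 J_le]
  rw [k]
  refine (char_of (hc.inj.comp S.subtype_injective) β fun s => ?_).2
  obtain ⟨x, hx, e⟩ := h.le (mem_map_of_mem _ (mem_map_of_mem j s.2))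
  exact ⟨⟨x, hx⟩, e⟩

omit hc in
theorem t_Ns {t : G} (ht : TW j t) : t ∈ Ns (J.map j) := inv_mem_Ns ht.sq (by
  rintro _ ⟨x, hx, rfl⟩
  obtain ⟨y, e, hy⟩ := ht.snd x _ (impB_iff.1 (S_all (p := fun q => impB (inB 32937957 q.1)
    (sv LtT q.1 (inB 32937957))) (by decide +kernel) (J_le hx)) (mem_J.1 hx))
  exact ⟨y, mem_J.2 hy, e.symm⟩)

omit hc in
theorem mem_of_cube {H A : Subgroup G} {a b : G} (h : O2 A ≤ H) (ha : a ∈ A) (hb : b ∈ A)
    (e : (a * b) ^ 3 = 1) (hH : b ∈ H) : a ∈ H :=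
  (mul_mem_cancel_right hH).1 (h (subset_closure ⟨mul_mem ha hb,
    (by decide : Odd 3).of_dvd_nat (orderOf_dvd_of_pow_eq_one e)⟩))

omit hc in
theorem gen_j {t : G} (ht : TW j t) (hg : ∀ H : Subgroup G, (∀ x, j x ∈ H) → t ∈ H → H = ⊤) :
    S.map j ⊔ O2 (ivs (Ns (Q.map j))) ⊔ O2 (ivs (Ns (J.map j))) = ⊤ := by
  set H := S.map j ⊔ O2 (ivs (Ns (Q.map j))) ⊔ O2 (ivs (Ns (J.map j)))
  have k : ∀ g ∈ LS, j g ∈ H := fun g hg =>
    mem_sup_left (mem_sup_left (mem_map_of_mem j (LS_mem g hg)))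
  have kQ : ∀ a b : X, a * a = 1 → b ∈ LS → (a * b) ^ 3 = 1 → j a ∈ H := fun a b ha hb e =>
    mem_of_cube (le_sup_right.trans le_sup_left) (ivs_j ha fun x hx => Q_normal.conj_mem x hx a)
      (ivs_j (LS_sq b hb) fun x hx => Q_normal.conj_mem x hx b)
      (by rw [← map_mul, ← map_pow, e, map_one]) (k b hb)
  refine hg H (X_ind (by rw [map_one]; exact one_mem _) fun g hg x hx => ?_)
    (mem_of_cube le_sup_right (mem_ivs (t_Ns ht) ht.sq)
      (ivs_j (LS_sq xd (by simp)) (nor_J xd (by simp))) ht.br (k xd (by simp)))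
  rw [map_mul]
  refine mul_mem ?_ hx
  simp only [List.mem_cons, List.not_mem_nil, or_false] at hg
  rcases hg with rfl | rfl | rfl | rfl | rfl | rfl
  exacts [k _ (by simp), k _ (by simp), k _ (by simp), k _ (by simp),
    kQ _ xb (by decide +kernel) (by simp) (by rw [pow_three]; decide +kernel),
    kQ _ xc (by decide +kernel) (by simp) (by rw [pow_three]; decide +kernel)]

theorem ya_j (hF : F0 G) (hB : LB G) (hI : I (j xz)) (y : G) (hy : Inv2 y) :
    ∃ g U, SC U ∧ Lnk (S.map j) U ∧ cjs g U ≤ ivs (Cz y) := by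
  have := hF.fin
  obtain ⟨g, -, k⟩ := (syl_iff.1 (syl_j hc hI)).exists_cj_le (is2_of_sq hy.1).zpowers le_top
  obtain ⟨x, -, e⟩ := k (mem_map_of_mem _ (mem_zpowers y))
  have e' : y = g⁻¹ * j x * g := by rw [e]; simp [mul_assoc]
  have x2 : x * x = 1 := hc.inj (by
    rw [map_mul, map_one, e, ← map_mul, hy.1, map_one])
  obtain ⟨h8, h, r⟩ := cls_rep x x2
  have key : ∀ E : Subgroup X, (∀ a ∈ E, a * a = 1) → rep (cls x.c) ∈ E →
      cjs (g⁻¹ * j h) (E.map j) ≤ ivs (Cz y) := fun E h2 hr => by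
    rintro _ ⟨_, ⟨a, ha, rfl⟩, rfl⟩
    have e2 : y = MulAut.conj (g⁻¹ * j h) (j (rep (cls x.c))) := by
      rw [MulAut.conj_apply, e', show j x = j h * j (rep (cls x.c)) * (j h)⁻¹ by
        rw [← map_inv, ← map_mul, ← map_mul, r]]
      group
    refine mem_ivs (mem_centralizer_singleton_iff.2 ?_) ?_
    · rw [e2, MulEquiv.coe_toMonoidHom, ← map_mul, ← map_mul, ← map_mul, ← map_mul,
        El.comm h2 ha hr]
    · rw [← map_mul, ← map_mul, h2 a ha, map_one, map_one]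
  rcases rep_E _ h8 with e | e <;> rw [← rep_c] at e
  · exact ⟨_, _, sc_j hc hB E1_le (W_le1 z_W) card_E1.ge fun _ => cen_E1, lnk_j E1_le nor_E1,
      key E1 (fun _ => sq_E1) (mem_E1.2 e)⟩
  · exact ⟨_, _, sc_j hc hB E2_le (W_le2 z_W) card_E2.ge fun _ => cen_E2, lnk_j E2_le nor_E2,
      key E2 (fun _ => sq_E2) (mem_E2.2 e)⟩

/-- The endgame facts. -/
theorem fed (hF : F0 G) (hB : LB G) (hI : I (j xz)) {t : G} (ht : TW j t)
    (hg : ∀ H : Subgroup G, (∀ x, j x ∈ H) → t ∈ H → H = ⊤) :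
    FEd (j xz) (S.map j) (Q.map j) (J.map j) := by
  have := hF.fin
  have zJ : xz ∈ J := E1_J (W_le1 z_W)
  have scJ : SC (J.map j) := sc_j hc hB J_le zJ (by rw [card_J]; norm_num) fun x h =>
    E1_J (cen_E1 fun u hu => h u (E1_J hu))
  have zz : j xz = j (x13 * x35) * j (x13 * x35) := by
    rw [← map_mul]; exact congrArg j (by decide +kernel)
  refine ⟨hI, syl_j hc hI, ⟨mem_map_of_mem j (J_le zJ), ?_⟩, fun β hβ => ?_,
    sc_j hc hB Q_le z_Q (by rw [card_Q]; norm_num) fun x h => ?_, scJ,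
    lnk_j Q_le fun g _ x hx => Q_normal.conj_mem x hx g, lnk_j J_le nor_J, gen_j ht hg,
    zz ▸ sq_mem_sqs (mem_map_of_mem j (mem_Q.2 (by decide +kernel))),
    by rw [sqs_j]; exact mem_map_of_mem j z_W, fun N hN h1 α _ => oi_j hc hF hB hI N hN h1 α,
    st_j hc hF, ?_, ?_, ya_j hc hF hB hI, fun y hy => ⟨1, _, scJ, lnk_j J_le nor_J, ?_⟩,
    fun y _ O hO ho _ => ?_⟩
  · rintro _ ⟨x, -, rfl⟩
    rw [← map_mul, z_comm, map_mul]
  · obtain ⟨x, rfl, h⟩ := aut_j hc hB le_rfl (J_le zJ) (by rw [card_S]; norm_num) hβ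
    rcases cen_S h with rfl | rfl
    exacts [Or.inl (by rw [map_one, map_one]), Or.inr rfl]
  · rcases cen_Q h with rfl | rfl
    exacts [one_mem _, z_Q]
  · rw [sqs_j]
    rintro _ ⟨x, hx, rfl⟩
    rw [← map_mul, sq_E1 (W_le1 hx), map_one]
  · rw [sqs_j, card_map_of_injective hc.inj, card_W]; norm_num
  · rw [cjs_one]
    refine map_le_iff_le_comap.2 (cl_le fun v hv => subset_closure ?_)
    have hJ := mem_map_of_mem j (mem_cl hv : v ∈ J)
    refine ⟨?_, Ns_le_Ns_sqs _ (le_normalizer hJ), cm_mem_sqs hJ hy⟩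
    rw [← map_mul, (by clear hJ; revert v; decide +kernel : v * v = 1), map_one]
  · rw [sqs_j] at hO
    have hle : O ≤ S.map j := fun g hg => by
      obtain ⟨x, rfl, h⟩ := cen_j hc z_W (g := g) fun u hu => (hO hg _ (mem_map_of_mem j hu)).symm
      exact mem_map_of_mem j (J_le (cen_W h))
    have := Fact.mk Nat.prime_two
    obtain ⟨n, hn⟩ := IsPGroup.iff_card.1 ((S_p.map j).to_le hle)
    rw [← card_eq_one, hn]
    rcases n with _ | n
    · rfl
    · rw [hn, pow_succ] at ho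
      exact absurd (ho.of_dvd_nat (dvd_mul_left 2 _)) (by decide)

end H81.HeE
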