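import Cfsg.Agent.H82.TPGen3

/-! TP: two-point stabilisers of type Janko-Ree. -/

set_option autoImplicit false

namespace H81.TP

open MulAction Cfsg Subgroup H89.K H98 H82.TP

universe u v

section

variable {G : Type*} [Group G] {H : Subgroup G} {t : G}

theorem cenG (tj : TJ H) (ht : t ∈ H) (ho : orderOf t = 2) : ∃ (L : Subgroup G) (k : ℕ), L ≤ H ∧
    TV L k ∧ IsSimpleGroup L ∧ t ∉ L ∧ (∀ g ∈ L, g * t = t * g) ∧
      ∀ g ∈ H, g * t = t * g → g ∈ L ∨ g * t ∈ L := by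
  obtain ⟨L, k, h1, h2, -, h4, h5⟩ := tj.cen ⟨t, ht⟩ ((orderOf_mk t ht).trans ho)
  have e := L.equivMapOfInjective _ H.subtype_injective
  refine ⟨L.map H.subtype, k, map_subtype_le L, h1.of_equiv e, e.symm.isSimpleGroup, ?_, ?_,
    fun g hg r => ((h5 ⟨g, hg⟩).1 (Subtype.ext r)).imp (fun q => ⟨_, q, rfl⟩) fun q => ⟨_, q, rfl⟩⟩
  · rintro ⟨s, hs, r⟩
    exact h4 ((Subtype.ext r : s = ⟨t, ht⟩) ▸ hs)
  · rintro _ ⟨g, hg, rfl⟩
    exact congrArg Subtype.val ((h5 g).2 (.inl hg))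

theorem two (tj : TJ H) (ht : t ∈ H) (ho : orderOf t = 2) : Two H t := by
  obtain ⟨L, k, h0, h1, -, -, h4, h5⟩ := cenG tj ht ho
  intro u hu w hw r1 r2 r3 r4 r5 r6
  have q1 : orderOf (u * t) = 2 := r5 ▸ ord_mul ho r1 r3 r5
  have q2 : orderOf (w * t) = 2 := r6 ▸ ord_mul ho r2 r4 r6
  have e : ∀ g ∈ L, g * (u * t) * g⁻¹ = g * u * g⁻¹ * t := fun g hg => by
    rw [mul_assoc _ g⁻¹, h4 _ (inv_mem hg)]; group
  rcases h5 u hu r5 with a | a <;> rcases h5 w hw r6 with b | b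
  · obtain ⟨g, hg, r⟩ := h1.conj a b r1 r2
    exact ⟨g, h0 hg, h4 g hg, .inl r⟩
  · obtain ⟨g, hg, r⟩ := h1.conj a b r1 q2
    exact ⟨g, h0 hg, h4 g hg, .inr r⟩
  · obtain ⟨g, hg, r⟩ := h1.conj a b q1 r2
    exact ⟨g, h0 hg, h4 g hg, .inr (by rw [← r, e g hg, mul_assoc _ t, sq_of_ord ho, mul_one])⟩
  · obtain ⟨g, hg, r⟩ := h1.conj a b q1 q2
    exact ⟨g, h0 hg, h4 g hg, .inl (mul_right_cancel ((e g hg).symm.trans r))⟩

theorem not16 [Finite G] (tj : TJ H) (ht : t ∈ H) (ho : orderOf t = 2) :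
    ¬ 16 ∣ Nat.card ↥(Cen t ⊓ H) := fun r => by
  obtain ⟨L, k, h0, h1, -, h3, h4, h5⟩ := cenG tj ht ho
  have le : L ≤ Cen t ⊓ H := fun g hg => ⟨mem_cen.2 (h4 g hg), h0 hg⟩
  have hi : (L.subgroupOf (Cen t ⊓ H)).index = 2 :=
    index_eq_two_iff.2 ⟨⟨t, mem_cen.2 rfl, ht⟩, fun g => by
      have q : ¬ ((g : G) * t ∈ L ∧ (g : G) ∈ L) := fun q => h3 ((L.mul_mem_cancel_left q.2).1 q.1)
      rcases h5 g g.2.2 (mem_cen.1 g.2.1) with a | a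
      exacts [.inr ⟨a, fun b => q ⟨b, a⟩⟩, .inl ⟨a, fun b => q ⟨a, b⟩⟩]⟩
  rw [← index_mul_card (L.subgroupOf (Cen t ⊓ H)), hi,
    Nat.card_congr (subgroupOfEquivOfLe le).toEquiv] at r
  exact h1.not8 (Nat.dvd_of_mul_dvd_mul_left two_pos r)

end

variable {G : Type u} {Ω : Type v} [Group G] [Finite G] [MulAction G Ω] {a b : Ω}

omit [Finite G] in
theorem conj_mem_of_Dd {g x : G} (hg : g ∈ Dd G a b) (hx : x ∈ St G a b) :
    g * x * g⁻¹ ∈ St G a b := by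
  rcases hg with r | r
  · exact mul_mem (mul_mem (mem_St.2 r) hx) (inv_mem (mem_St.2 r))
  · exact swap_conj_mem r.1 r.2 hx

theorem not_caseB (h : T2 G Ω) (hab : a ≠ b) (tj : TJ (St G a b)) : ¬ CaseB G a b := fun hB => by
  obtain ⟨t, -, ho⟩ := tj.ex
  obtain ⟨γ, w1, w2⟩ := h.exists_conj_swap (ne_of_ord ho) (sq_of_ord ho) hab
  have ww := sq_of_ord ((ord_conj γ).trans ho)
  generalize γ * t * γ⁻¹ = w at w1 w2 ww
  have wd : w ∈ Dd G a b := .inr ⟨w1, w2⟩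
  obtain ⟨S, hS, hw⟩ := exists_isSyl_le (isPGroup_zpowers (p := 2) (k := 1) (x := w)
    (by rw [pow_one, sq, ww])) (zpowers_le.2 wd)
  have hw := hw (mem_zpowers w)
  have hT := hS.inf_of_le_normalizer (N := St G a b) (fun g hg => .inl hg) fun g hg =>
    mem_normalizer_iff.2 fun x => ⟨conj_mem_of_Dd (hS.le hg), fun r => by
      simpa [mul_assoc] using conj_mem_of_Dd (inv_mem (hS.le hg)) r⟩
  obtain ⟨u, hu, r1⟩ := hB w w1 w2 _ hT
  obtain ⟨e1, e2⟩ := tj.syl hT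
  have hu' : w * u * w⁻¹ ∈ S ⊓ St G a b :=
    ⟨S.mul_mem (S.mul_mem hw hu.1) (S.inv_mem hw), conj_mem_of_Dd wd hu.2⟩
  have hs := mul_mem hu hu'
  have s1 : u * (w * u * w⁻¹) ≠ 1 := fun r => r1 (by
    rw [← inv_of_sq (e1 u hu), inv_mul_eq_one, inv_of_sq (e1 u hu)] at r
    exact eq_mul_of_mul_inv_eq r.symm ▸ by simp)
  have s2 : w * (u * (w * u * w⁻¹)) * w⁻¹ = u * (w * u * w⁻¹) := by
    rw [e2 _ hu _ hu', ← conj_mul, e2 _ hu' _ hu]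
    congr 1
    rw [inv_of_sq ww]
    simp only [← mul_assoc, ww, one_mul]
    rw [mul_assoc, ww, mul_one]
  have s3 := e2 _ hu _ hs
  have s4 := e2 _ hu' _ hs
  have s5 := e1 _ hs
  obtain ⟨L, k, h0, h1, h2, h3, h4, h5⟩ := cenG tj hs.2 (ord_of_sq s5 s1)
  generalize hs' : u * (w * u * w⁻¹) = s at s2 s3 s4 s5 h3 h4 h5
  have c1 : ∀ g ∈ L, w * g * w⁻¹ ∈ L ∨ w * g * w⁻¹ * s ∈ L := fun g hg =>
    h5 _ (conj_mem_of_Dd wd (h0 hg)) (by rw [← s2, conj_mul, conj_mul, h4 g hg])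
  let N : Subgroup L := L.comap ((MulAut.conj w).toMonoidHom.comp L.subtype)
  have hN : N.Normal := ⟨fun x hx g => by
    change w * ((g : G) * x * (g : G)⁻¹) * w⁻¹ ∈ L
    rw [← conj_mul, ← conj_mul, ← conj_inv]
    have hx : w * x * w⁻¹ ∈ L := hx
    rcases c1 g g.2 with r | r
    · exact mul_mem (mul_mem r hx) (inv_mem r)
    · convert mul_mem (mul_mem r hx) (inv_mem r) using 1
      rw [mul_assoc _ s, ← h4 _ hx]; group⟩
  rcases hN.eq_bot_or_eq_top with r | r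
  · obtain ⟨x, y, x1, y1, r2, r3⟩ := h1.four
    have q : ∀ x : L, x ≠ 1 → w * x * w⁻¹ * s ∈ L := fun x hx =>
      (c1 x x.2).resolve_left fun r4 => hx (mem_bot.1 (r ▸ r4 : x ∈ (⊥ : Subgroup L)))
    have q1 := q x (ne_of_ord x1)
    have q2 := mul_mem q1 (q y (ne_of_ord y1))
    have q3 := q _ (ne_of_ord (ord_mul x1 y1 r2 r3))
    rw [mul_assoc _ s, ← h4 _ (q y (ne_of_ord y1)), mul_assoc _ s, s5, mul_one, conj_mul] at q2
    exact h3 ((L.mul_mem_cancel_left q2).1 q3)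
  · have q : ∀ x ∈ L, w * x * w⁻¹ ∈ L := fun x hx => (r.ge (mem_top (⟨x, hx⟩ : L)) :)
    rcases h5 u hu.2 s3 with r2 | r2
    · exact h3 (hs' ▸ mul_mem r2 (q u r2))
    · have := mul_mem r2 (q _ r2)
      rw [← conj_mul, s2, mul_assoc u, ← mul_assoc s, ← s4, mul_assoc, s5, mul_one, hs'] at this
      exact h3 this

theorem jobJ (hVA : JobVA.{v, v}) : JobJ.{u, v} := by
  intro G Ω _ _ _ a b h hab tj
  obtain ⟨z, hz⟩ := (split hab tj.toBase).resolve_right (not_caseB h hab tj)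
  obtain ⟨t, ht, ho⟩ := tj.ex
  by_cases hc : IsConj z t
  swap
  · exact aff_of_thin h tj.toBase hz (thin_of_not_conj h hz tj.one ht ho hc) ht ho (two tj ht ho)
      (not16 tj ht ho)
  exfalso
  by_cases hh : Hall a b t
  · exact (g3 h tj.toBase hz ht hc hh).1 tj.nc
  by_cases h2 : Thin2 Ω t z
  · exact (alpha h tj.toBase hz ht hc (two tj ht ho) (not16 tj ht ho) h2).1 tj.nc
  obtain ⟨γ, e⟩ := isConj_iff.1 hc
  obtain ⟨Y, _, _, _, π, hr, h3⟩ := res_cent h hab tj.one ht ho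
    (three_le h hab tj.toBase ht (e ▸ hz.smul γ))
  have hm := mem_cen.2 (hz.comm t ht).symm
  have hw := CS.res hr (x := ⟨a, ht.1⟩) (y := ⟨b, ht.2⟩) (z := ⟨z, hm⟩) hz
  obtain ⟨L, k, h0, h1, hL, -, h4, h5⟩ := cenG tj ht ho
  have le : L ≤ Cen t := fun g hg => mem_cen.2 (h4 g hg)
  let φ : L →* St Y (⟨a, ht.1⟩ : Fx Ω t) ⟨b, ht.2⟩ :=
    (π.comp (inclusion le)).codRestrict _ fun g => hr.mem_St.2 (h0 g.2)
  have hφ : Function.Bijective φ := by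
    refine ⟨(MonoidHom.ker_eq_bot_iff φ).1 ((MonoidHom.normal_ker φ).eq_bot_or_eq_top.resolve_right
      fun r => hh fun u hu _ r1 x hx => ?_), ?_⟩
    · have q : ∀ g ∈ L, g • x = x := fun g hg => hr.eq_one_iff.1
        (congrArg Subtype.val (r.ge (mem_top (⟨g, hg⟩ : L)) : φ ⟨g, hg⟩ = 1)) x hx
      rcases h5 u hu r1 with r2 | r2
      · exact q u r2
      · simpa [mul_smul, hx] using q _ r2
    · rintro ⟨y, hy⟩
      obtain ⟨g, rfl⟩ := hr.surj y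
      rcases h5 g (hr.mem_St.1 hy) (mem_cen.1 g.2) with r | r
      · exact ⟨⟨g, r⟩, rfl⟩
      · refine ⟨⟨_, r⟩, Subtype.ext ?_⟩
        change π (g * ⟨t, mem_cen.2 rfl⟩) = π g
        rw [map_mul, (hr.eq_one_iff (g := ⟨t, mem_cen.2 rfl⟩)).2 fun _ hp => hp, mul_one]
  have tv := h1.of_equiv (MulEquiv.ofBijective φ hφ)
  obtain ⟨s, hs, r⟩ := tv.ex
  have := thin_of_not_conj h3 hw tv.one hs r (hVA Y _ _ _ _ s k h3 tv hw hs r)
  exact h2 fun x y x1 x2 y1 y2 => congrArg Subtype.val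
    (this ⟨x, x1⟩ ⟨y, y1⟩ (hr.smul_eq_iff.2 x2) (hr.smul_eq_iff.2 y2))

end H81.TP
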