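import Cfsg.Agent.H81.U52M
set_option maxRecDepth 1000000
set_option Elab.async false
namespace H81.U52G
open H71
noncomputable def a0 : ℕ := 0x144f35afd6170f8ddaed7c3a0
noncomputable def a0i : ℕ := 0x31c8eff6abed66f27078d22c4
noncomputable def a1 : ℕ := 0xfd6af7f7ab82507d32c8c7238
noncomputable def a1i : ℕ := 0x7979f533c850fc2d96dffc2a0
theorem good0 : GoodM (U52M.C) (U52M.ι) ⊤ [U52G.a1, U52G.a1i, U52G.a0, U52G.a0i] :=
  QM.good_up U52M.e (QM.good_up U52M.e (GoodM.nil) (QM.exists_suM _ QM.star4 (QM.dn U52M.e (U52M.C.dec 0xa8150f0e829ede6b75bba114c)) (QM.dn U52M.e (U52M.C.dec 0x9a9d59d9ed8713809c1e170f8)) (QM.dn U52M.e (U52M.C.dec 0xe427cc623daad538c926b75b)) (QM.dn U52M.e (U52M.C.dec 0x14cf20d82d5abd588513f9e9e)) (by decide +kernel)) (by decide +kernel)) (QM.exists_suM _ QM.star4 (QM.dn U52M.e (U52M.C.dec 0xb5dbe46334eae568e124a557f)) (QM.dn U52M.e (U52M.C.dec 0xb69b548b11f9e9eeae5644f32))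 (QM.dn U52M.e (U52M.C.dec 0xfa697b59bd114cf905c3144f3)) (QM.dn U52M.e (U52M.C.dec 0x623445ffeab0d82bc1a0efe6a)) (by decide +kernel)) (by decide +kernel)
noncomputable def c2 : ℕ := 0xd9ede9e5e70fc2a57bf906c36
noncomputable def c2i : ℕ := 0x63348f328897dfae5a7d767b7
noncomputable def L2 : List ℕ := c2 :: c2i :: [U52G.a1, U52G.a1i, U52G.a0, U52G.a0i]
theorem gd2 : GoodM (U52M.C) (U52M.ι) ⊤ L2 :=
  GoodM.word good0 [0,0,3,0,2,2] (by decide +kernel)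
noncomputable def c3 : ℕ := 0xde6e78c9217dfaeac160c523c
noncomputable def c3i : ℕ := 0x6e767c623455ffe8cd22e4270
noncomputable def L3 : List ℕ := c3 :: c3i :: L2
theorem gd3 : GoodM (U52M.C) (U52M.ι) ⊤ L3 :=
  GoodM.word gd2 [4,4,3,5] (by decide +kernel)
noncomputable def c4 : ℕ := 0x507c3a8150f128c9ddee6df6e
noncomputable def c4i : ℕ := 0xe6e76e7a792144f0fc2ac160f
noncomputable def L4 : List ℕ := c4 :: c4i :: L3
theorem gd4 : GoodM (U52M.C) (U52M.ι) ⊤ L4 :=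
  GoodM.word gd3 [1,2,0,0,3,1] (by decide +kernel)
noncomputable def c5 : ℕ := 0x81d0ea0d420403032487a114c
noncomputable def c5i : ℕ := 0xa09412184d0c020c2e06533c8
noncomputable def L5 : List ℕ := c5 :: c5i :: L4
theorem gd5 : GoodM (U52M.C) (U52M.ι) ⊤ L5 :=
  GoodM.word gd4 [5,2,5,3,5,2] (by decide +kernel)
noncomputable def c6 : ℕ := 0xc020012cc60c02021c4e114cf
noncomputable def c6i : ℕ := 0x4030032c860403023c4a11cce
noncomputable def L6 : List ℕ := c6 :: c6i :: L5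
theorem gd6 : GoodM (U52M.C) (U52M.ι) ⊤ L6 :=
  GoodM.word gd5 [2,0,2,0] (by decide +kernel)
noncomputable def c7 : ℕ := 0x184d332c86f0e827bb99bd5af
noncomputable def c7i : ℕ := 0x7839d56ff8250721c4ed6ef6
noncomputable def L7 : List ℕ := c7 :: c7i :: L6
theorem gd7 : GoodM (U52M.C) (U52M.ι) ⊤ L7 :=
  GoodM.word gd6 [5,2,5,5] (by decide +kernel)
noncomputable def c8 : ℕ := 0x3d0ac4b31863348d42f000801
noncomputable def c8i : ℕ := c8
noncomputable def L8 : List ℕ := c8 :: c8i :: L7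
theorem gd8 : GoodM (U52M.C) (U52M.ι) ⊤ L8 :=
  GoodM.word gd7 [0,0,0] (by decide +kernel)
theorem good : GoodM (U52M.C) (U52M.ι) ⊤ [U52G.c8, U52G.c8i, U52G.c7, U52G.c7i, U52G.c6, U52G.c6i, U52G.c5, U52G.c5i, U52G.c4, U52G.c4i, U52G.c3, U52G.c3i, U52G.c2, U52G.c2i, U52G.a1, U52G.a1i, U52G.a0, U52G.a0i] := gd8
end H81.U52G
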