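import Cfsg.Agent.H81.YLSpec
import Cfsg.Agent.H67.SAAB

/-! STD-SP (row S3129), endgame, the linear models: generation, `MC`, `RD`. -/

set_option autoImplicit false
set_option linter.unusedSectionVars false

namespace H81.YL

open H64.SG (O2 Syl Cz Cs Ns cjs Is2 Inv2 fx mem_Cz mem_Cs)
open Matrix H57 Subgroup H64.YE
open H67.UA (XU tau tau_inv_apply)
open H67.SA (SLn Au la x gam out cm UU ZZ QQ Qk Mk Ml P00 Pat St x_cm x_comm x_mem_Pat Pat_le
  conj_mem_St mem_cI gam_x x_mul_self x_inv)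

variable {m : ℕ} {F : Type} [Field F] [StarRing F] [TrivialStar F] [CharP F 2] [Finite F]

theorem ker_out {β : Au m F} (h : β ∈ commutator (Au m F)) : out m F β = 1 :=
  (commutator_le (H₃ := (out m F).ker)).2 (fun a _ b _ => H67.SA.out_cm a b) h

theorem qs (h : 5 ≤ m) : QS (SLn m F) :=
  ⟨H67.SA.perfect (by omega), H67.SA.odd_card_center,
    fun N _ => H67.SA.normal_le_center_or (by omega) N, H29.SA.quot_surj, fun _ h1 h2 =>
      (H67.SA.inner_of_out (by omega) (ker_out h1) h2).imp fun _ h => h.2⟩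

theorem tne (h : 5 ≤ m) : tau m F ∉ commutator (Au m F) := fun k => by
  have := ker_out k
  rw [tau_eq, H67.SA.out_gam (by omega)] at this
  exact absurd (show Multiplicative.ofAdd (1 : ZMod 2) = 1 from congrArg Prod.snd this) (by decide)

theorem tau_xk {k : ℕ} (hk : 2 * k ≤ m + 1) : tau m F (H67.SA.xk F m k) = H67.SA.xk F m k := by
  have h := inv_eq_of_mul_eq_one_right (H67.SA.sq_Mk hk (H67.SA.xk_mem_Mk (F := F) hk))
  refine Subtype.ext (Matrix.ext fun i j => ?_)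
  conv_lhs => rw [← h]
  rw [tau_inv_apply, star_trivial, H67.SA.xk_apply, H67.SA.xk_apply]
  congr 1
  · exact if_congr (by rw [Fin.rev_inj, eq_comm]) rfl rfl
  · exact if_congr (by simp only [Fin.lt_def, Fin.val_rev]; omega) rfl rfl

/-- `x_ij(c) x_j'i'(c)` -/
def sx (i j : Fin (m + 1)) (c : F) : SLn m F := x i j c * x j.rev i.rev c

theorem sx_comm {i j : Fin (m + 1)} (hi : i ≠ i.rev) (hj : j ≠ j.rev) (c : F) :
    x i j c * x j.rev i.rev c = x j.rev i.rev c * x i j c := x_comm hj hi c c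

theorem tau_sx {i j : Fin (m + 1)} (hi : i ≠ i.rev) (hj : j ≠ j.rev) (c : F) :
    tau m F (sx i j c) = sx i j c := by
  rw [sx, map_mul, tau_eq, gam_x, gam_x, Fin.rev_rev, Fin.rev_rev, sx_comm hi hj]

theorem sx_sq {i j : Fin (m + 1)} (hi : i ≠ i.rev) (hj : j ≠ j.rev) (c : F) :
    sx i j c * sx i j c = 1 := by
  rw [sx, mul_assoc, ← mul_assoc (x j.rev _ _), ← sx_comm hi hj, mul_assoc, x_mul_self, mul_one,
    x_mul_self]

section Cm

variable {G : Type*} [Group G] {a b c : G}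

theorem cm_l (h : b * c = c * b) : cm (a * b) c = cm a c := by
  rw [cm, cm, mul_assoc a, h]; group
theorem cm_l' (h : a * cm b c = cm b c * a) (h' : a * c = c * a) : cm (a * b) c = cm b c := by
  calc _ = a * cm b c * (c * a⁻¹ * c⁻¹) := by simp only [cm]; group
    _ = _ := by rw [h, mul_assoc, ← mul_assoc a, ← mul_assoc a, h']; group
theorem cm_r (h : a * c = c * a) : cm a (b * c) = cm a b := by
  rw [cm, cm, ← mul_assoc a, mul_assoc (a * b), ← (Commute.inv_left h).eq]; group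
theorem cm_r' (h : b * cm a c = cm a c * b) (h' : a * b = b * a) : cm a (b * c) = cm a c := by
  calc _ = a * b * a⁻¹ * cm a c * b⁻¹ := by simp only [cm]; group
    _ = _ := by rw [h', mul_inv_cancel_right, h, mul_inv_cancel_right]
theorem cm_mem {H : Subgroup G} (ha : a ∈ H) (hb : b ∈ H) : cm a b ∈ H :=
  mul_mem (mul_mem (mul_mem ha hb) (inv_mem ha)) (inv_mem hb)

end Cm

local macro "fo" : tactic => `(tactic| (simp only [ne_eq, Fin.ext_iff, Fin.val_rev, Fin.val_last,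
  Fin.val_zero] at * <;> omega))

section P

variable (h : 5 ≤ m)
include h

theorem xP {a b : Fin (m + 1)} (h1 : b ≠ 0) (h2 : a ≠ la m) (c : F) : x a b c ∈ P00 m F :=
  x_mem_Pat (S := fun a b => b ≠ 0 ∧ a ≠ la m) ⟨h1, h2⟩ c

/-- A subgroup normalised by `P00` that contains `x_12 x_2'1'` contains `P00`. -/
theorem p00_le {E : Subgroup (SLn m F)} (n : ∀ p ∈ P00 m F, ∀ y ∈ E, p * y * p⁻¹ ∈ E)
    (s : sx ⟨1, by omega⟩ ⟨2, by omega⟩ 1 ∈ E) : P00 m F ≤ E := by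
  have l : ∀ y ∈ E, ∀ p ∈ P00 m F, cm y p ∈ E := fun y hy p hp => by
    rw [cm, mul_assoc, mul_assoc, ← mul_assoc p]; exact mul_mem hy (n p hp _ (inv_mem hy))
  have r : ∀ y ∈ E, ∀ p ∈ P00 m F, cm p y ∈ E := fun y hy p hp => mul_mem (n p hp y hy) (inv_mem hy)
  obtain ⟨i1, e1⟩ : ∃ i : Fin (m + 1), i.val = 1 := ⟨⟨1, by omega⟩, rfl⟩
  obtain ⟨i2, e2⟩ : ∃ i : Fin (m + 1), i.val = 2 := ⟨⟨2, by omega⟩, rfl⟩
  rw [show (⟨1, by omega⟩ : Fin (m + 1)) = i1 from Fin.ext e1.symm,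
    show (⟨2, by omega⟩ : Fin (m + 1)) = i2 from Fin.ext e2.symm] at s
  have k1 : ∀ c, x i1 i1.rev c ∈ E := fun c => by
    have := l _ s _ (xP h (a := i2) (b := i1.rev) (by fo) (by fo) c)
    rwa [sx, cm_l (x_comm (by fo) (by fo) _ _), x_cm (by fo) (by fo) (by fo), one_mul] at this
  have k2 : ∀ b, b ≠ 0 → b ≠ i1 → ∀ c, x i1 b c ∈ E := fun b b0 b1 c => by
    by_cases e : b = i1.rev
    · exact e ▸ k1 c
    have := l _ (k1 c) _ (xP h (a := i1.rev) b0 (by fo) 1)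
    rwa [x_cm (by fo) (Ne.symm e) b1.symm, mul_one] at this
  have k3 : ∀ a b, a ≠ b → a ≠ la m → b ≠ 0 → b ≠ i1 → ∀ c, x a b c ∈ E := fun a b ab a0 b0 b1 c => by
    by_cases e : a = i1
    · exact e ▸ k2 b b0 b1 c
    have := r _ (k2 b b0 b1 c) _ (xP h (b := i1) (by fo) a0 1)
    rwa [x_cm e b1.symm ab, one_mul] at this
  refine Pat_le.2 fun a b ab k c => ?_
  by_cases e : b = i1
  · obtain ⟨d, d1, d2⟩ : ∃ d : Fin (m + 1), (d.val = 2 ∨ d.val = 3) ∧ d ≠ a := by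
      by_cases a2 : a = i2
      · exact ⟨⟨3, by omega⟩, Or.inr rfl, by fo⟩
      · exact ⟨i2, Or.inl e2, Ne.symm a2⟩
    have := l _ (k3 a d d2.symm k.2 (by fo) (by fo) c) _ (xP h (a := d) k.1 (by fo) 1)
    rwa [x_cm d2.symm (by fo) ab, mul_one] at this
  · exact k3 a b ab k.2 k.1 e c

theorem top_of {H : Subgroup (SLn m F)} (p : P00 m F ≤ H) (s : ∀ c, sx ⟨1, by omega⟩ 0 c ∈ H) :
    H = ⊤ := by
  obtain ⟨i1, e1⟩ : ∃ i : Fin (m + 1), i.val = 1 := ⟨⟨1, by omega⟩, rfl⟩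
  obtain ⟨i2, e2⟩ : ∃ i : Fin (m + 1), i.val = 2 := ⟨⟨2, by omega⟩, rfl⟩
  rw [show (⟨1, by omega⟩ : Fin (m + 1)) = i1 from Fin.ext e1.symm] at s
  have k1 : ∀ c, x i2 0 c ∈ H := fun c => by
    have := cm_mem (p (xP h (a := i2) (b := i1) (by fo) (by fo) 1)) (s c)
    rwa [sx, cm_r (x_comm (by fo) (by fo) _ _), x_cm (by fo) (by fo) (by fo), one_mul] at this
  have k2 : ∀ c, x (la m) i2 c ∈ H := fun c => by
    have := cm_mem (s c) (p (xP h (a := i1.rev) (b := i2) (by fo) (by fo) 1))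
    rwa [sx, sx_comm (by fo) (by fo), cm_l (x_comm (by fo) (by fo) _ _), x_cm (by fo) (by fo) (by fo),
      mul_one, Fin.rev_zero] at this
  have k3 : ∀ a b, a ≠ b → b ≠ 0 → ∀ c, x a b c ∈ H := fun a b ab b0 c => by
    by_cases e : a = la m
    · by_cases e' : b = i2
      · exact e ▸ e' ▸ k2 c
      have := cm_mem (k2 c) (p (xP h (a := i2) b0 (by fo) 1))
      rwa [x_cm (by fo) (Ne.symm e') (e ▸ ab), mul_one, ← e] at this
    · exact p (xP h b0 e c)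
  rw [eq_top_iff, ← H67.SA.Pat_top]
  refine Pat_le.2 fun a b ab _ c => ?_
  by_cases e : b = 0
  · by_cases e' : a = i2
    · exact e ▸ e' ▸ k1 c
    have := cm_mem (k3 a i2 e' (by fo) c) (k1 1)
    rwa [x_cm e' (by fo) (e ▸ ab), mul_one, ← e] at this
  · exact k3 a b ab e c

theorem good {k : ℕ} (h1 : 1 ≤ k) (h2 : 2 * k ≤ m + 1) : Good (tau m F) (UU m F) (Qk m F k) := by
  have mq : Mk m F k ≤ Qk m F k := (H67.SA.Mk_le_Ml le_rfl (by omega)).trans (H67.SA.Ml_le_Qk k)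
  refine ⟨H67.SA.Qk_le_UU k, fun u hu => conj_mem_St.1 (((fa h).nu _ (conj_mem_St.2
    (le_normalizer hu))).2 k).2, tau_eq (m := m) (F := F) ▸ (((fa h).nu _ H67.SA.gam_UU).2 k).2,
    fun g hg => ?_, fun α h3 h4 => ?_⟩
  · obtain ⟨u, hu, e⟩ := mem_cI.1 ((fa h).ctK k h1 h2 (MulAut.conj g) fun u hu => by
      rw [MulAut.conj_apply, ← hg.1 u hu, mul_inv_cancel_right])
    rw [H67.SA.conj_inj (H67.SA.is2_of_UU hg.2) (H67.SA.is2_of_UU (H67.SA.Qk_le_UU k (mq hu))) e]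
    exact mq hu
  · obtain ⟨u, hu, rfl⟩ := mem_cI.1 ((fa h).ctK k h1 h2 α h3)
    exact (H64.SG.is2_of_sq (by rw [← map_mul, H67.SA.sq_Mk h2 hu, map_one])).eq_one h4

end P

section EG

variable {n : ℕ} {ι : XU n F →* SLn m F} {Gd : XU n F → Prop}

theorem eg_conj {B : Subgroup (SLn m F)} {p y : SLn m F} (hp : p ∈ B) (hy : y ∈ EG ι Gd B) :
    p * y * p⁻¹ ∈ EG ι Gd B := by
  refine (closure_le ((EG ι Gd B).comap (MulAut.conj p).toMonoidHom)).2 ?_ hy
  rintro _ ⟨b, hb, v, h1, h2, h3, rfl⟩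
  exact subset_closure ⟨p * b, mul_mem hp hb, v, h1, h2, h3, by
    change p * (b * ι v * b⁻¹) * p⁻¹ = _
    group⟩

variable (ι Gd) in
/-- the short root elements are images of good involutions -/
def HS : Prop := ∀ (i j : Fin (m + 1)) (c : F), i ≠ i.rev → j ≠ j.rev → i ≠ j → j ≠ i.rev →
  ∃ v, v * v = 1 ∧ Gd v ∧ ι v = sx i j c

theorem sx_eg (s : HS ι Gd) {B : Subgroup (SLn m F)} {i j : Fin (m + 1)} {c : F} (h1 : i ≠ i.rev)
    (h2 : j ≠ j.rev) (h3 : i ≠ j) (h4 : j ≠ i.rev) (hb : sx i j c ∈ B) : sx i j c ∈ EG ι Gd B := by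
  obtain ⟨v, a, b, e⟩ := s i j c h1 h2 h3 h4
  exact subset_closure ⟨1, one_mem _, v, a, b, e ▸ hb, by simp [e]⟩

variable (h : 5 ≤ m) (s : HS ι Gd)
include h s

theorem p00_eg {B : Subgroup (SLn m F)} (hB : P00 m F ≤ B) : P00 m F ≤ EG ι Gd B :=
  p00_le h (fun _ hp _ hy => eg_conj (hB hp) hy) (sx_eg s (by fo) (by fo) (by fo) (by fo)
    (hB (mul_mem (xP h (by fo) (by fo) _) (xP h (by fo) (by fo) _))))

theorem mc : MC ι (tau m F) Gd (UU m F) (QQ m F) := by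
  have p := p00_eg h s H67.SA.P00_le_Ns
  refine ⟨H67.SA.Qk_one (n := m) (F := F) ▸ good h le_rfl (by omega),
    (H67.SA.UU_le_P00.trans p).trans le_sup_left, Qk m F 2, good h (by omega) (by omega),
    top_of h (p.trans (le_sup_left.trans le_sup_left)) fun c => mem_sup_left (mem_sup_right
      (sx_eg s (by fo) (by fo) (by fo) (by fo) ?_))⟩
  have k : ∀ l, Pat m F (fun a b => (a.val < l ↔ b.val < l)) ≤ Ns (Ml m F l) := fun l =>
    H67.SA.Pat_le_Ns (fun _ _ _ _ _ _ a b => by omega) (fun _ _ _ _ _ _ a b => by omega)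
      fun _ _ _ a b => by omega
  have k2 : ∀ a b : Fin (m + 1), (a.val < 2 ↔ b.val < 2) → (a.val < m + 1 - 2 ↔ b.val < m + 1 - 2) →
      x a b c ∈ Ns (Qk m F 2) := fun a b h1 h2 => conj_mem_St.1 (H67.SA.St_sup
    (conj_mem_St.2 (k 2 (x_mem_Pat h1 c))) (conj_mem_St.2 (k _ (x_mem_Pat h2 c))))
  exact mul_mem (k2 _ _ (by simp) (by simp; omega))
    (k2 _ _ (by simp only [Fin.val_rev, Fin.val_zero]; omega)
      (by simp only [Fin.val_rev, Fin.val_zero]; omega))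

omit h s [StarRing F] [TrivialStar F] [CharP F 2] in
theorem eq_one (q : Nat.card F = 2) {c : F} (h : c ≠ 0) : c = 1 := by
  obtain ⟨y, -, e⟩ := (Nat.card_eq_two_iff' (0 : F)).1 q
  rw [e c h, e 1 one_ne_zero]

theorem rd (q : Nat.card F = 2) :
    RD ι (tau m F) Gd (UU m F) (x 0 (la m) 1) (ZZ m F) (QQ m F) := by
  have z : ∀ z ∈ ZZ m F, z = 1 ∨ z = x 0 (la m) 1 := fun z hz => by
    obtain ⟨c, rfl⟩ := H67.SA.mem_ZZ.1 hz
    by_cases c0 : c = 0
    · exact Or.inl (by rw [c0, H67.SA.x_zero])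
    · exact Or.inr (by rw [eq_one q c0])
  refine ⟨⟨x_mul_self _ _ _, fun e => one_ne_zero ((H67.SA.x_eq_one (by fo)).1 e)⟩,
    by rw [tau_eq, gam_x, Fin.rev_last, Fin.rev_zero], H67.SA.x_mem_ZZ 1, H67.SA.ZZ_le_QQ,
    H67.SA.QQ_le_UU, H67.SA.UU_le_Cs, fun _ => H67.SA.sq_ZZ, fun _ => H67.SA.sq_QQ,
    fun a ha a1 => (z a ha).resolve_left a1 ▸ IsConj.refl _, fun α => ?_,
    fun α e => H67.SA.mem_St_of_finite fun a ha => ?_, fun α hα => ((fa h).nz α hα).1,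
    (mc h s).1.co, fun u hu k => ?_,
    (H67.SA.QQ_le_UU.trans H67.SA.UU_le_P00).trans (p00_eg h s H67.SA.P00_le_Cs)⟩
  · obtain ⟨g, c, c0, e⟩ := (fb h).roota (x 0 (la m) 1) α ⟨1, 1, one_ne_zero, by simp⟩
    exact isConj_iff.2 ⟨g, by rw [e, eq_one q c0]⟩
  · rcases z a ha with rfl | rfl
    · rw [map_one]; exact one_mem _
    · rwa [e]
  · obtain ⟨g, hg, e⟩ := mem_cI.1 ((fa h).n2 (MulAut.conj u) k fun a ha => by
      rw [MulAut.conj_apply, ← H67.SA.UU_le_Cs hu a ha, mul_inv_cancel_right])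
    rwa [H67.SA.conj_inj (H67.SA.is2_of_UU hu) (H67.SA.is2_of_UU (H67.SA.QQ_le_UU hg)) e]

omit s in
theorem mia (fix : ∀ y, tau m F y = y ↔ y ∈ ι.range) : MIa ι := fun y hy => by
  by_cases y1 : y = 1
  · exact ⟨1, 1, by simp [y1]⟩
  obtain ⟨g, k, -, k2, e⟩ := (fb h).ic y ⟨hy, y1⟩
  obtain ⟨u, hu⟩ := (fix _).1 (tau_xk (F := F) k2)
  exact ⟨g⁻¹, u, by rw [hu, ← e]; group⟩

end EG

section Gen

variable (h : 5 ≤ m) {H : Subgroup (SLn m F)} (hH : fx (tau m F) ≤ H)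
include h hH

/-- all `x_ab`, `b` not the middle index -/
def Full (H : Subgroup (SLn m F)) (a : Fin (m + 1)) : Prop :=
  ∀ b, b ≠ b.rev → a ≠ b → ∀ c, x a b c ∈ H

theorem lg (i : Fin (m + 1)) (c : F) : x i i.rev c ∈ H :=
  hH (show tau m F _ = x i i.rev c by rw [tau_eq, gam_x, Fin.rev_rev])

theorem full_of {a b : Fin (m + 1)} (hb : b ≠ b.rev) (h1 : a ≠ b) (h2 : a ≠ b.rev)
    (k : ∀ c, x a b c ∈ H) : Full H a := fun d hd ad c => by
  by_cases e : d = b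
  · exact e ▸ k c
  by_cases e' : d = b.rev
  · have := cm_mem (k c) (lg h hH b 1)
    rwa [x_cm h1 hb h2, mul_one, ← e'] at this
  have := cm_mem (k c) (hH (tau_sx hb hd 1))
  rwa [sx, cm_r (x_comm (by fo) h2 _ _), x_cm h1 (Ne.symm e) ad, mul_one] at this

theorem full_step {a e : Fin (m + 1)} (ha : a ≠ a.rev) (k : Full H a) (he : e ≠ e.rev) (h1 : e ≠ a)
    (h2 : e ≠ a.rev) : Full H e :=
  full_of h hH (b := a.rev) (by fo) h2 (by fo) fun c => by
    have := mul_mem (inv_mem (k e.rev (by fo) (by fo) c)) (hH (tau_sx ha (j := e.rev) (by fo) c))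
    rwa [sx, inv_mul_cancel_left, Fin.rev_rev] at this

theorem full_all {a : Fin (m + 1)} (ha : a ≠ a.rev) (k : Full H a) (e : Fin (m + 1))
    (he : e ≠ e.rev) : Full H e := by
  by_cases h1 : e ≠ a ∧ e ≠ a.rev
  · exact full_step h hH ha k he h1.1 h1.2
  obtain ⟨d, d1, d2, d3⟩ : ∃ d : Fin (m + 1), d ≠ d.rev ∧ d ≠ a ∧ d ≠ a.rev := by
    by_cases a0 : a.val = 0 ∨ a.val = m
    · exact ⟨⟨1, by omega⟩, by fo, by fo, by fo⟩
    · exact ⟨0, by fo, by fo, by fo⟩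
  exact full_step h hH d1 (full_step h hH ha k d1 d2 d3) he (by fo) (by fo)

end Gen

theorem cm_cjs {G : Type*} [Group G] {A : Subgroup G} (a : G) {g : G} (hg : g ∈ A) :
    cm a g ∈ A ⊔ cjs a A :=
  mul_mem (mem_sup_right (H67.SA.conj_mem_cjs.2 hg)) (mem_sup_left (inv_mem hg))

theorem gen0 (h : 5 ≤ m) (o : Odd m) : ∃ a, a * (tau m F a)⁻¹ ∈ fx (tau m F) ∧
    fx (tau m F) ⊔ cjs a (fx (tau m F)) = ⊤ := by
  obtain ⟨k, hk⟩ := o
  have nm : ∀ i : Fin (m + 1), i ≠ i.rev := fun i => by fo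
  obtain ⟨i1, e1⟩ : ∃ i : Fin (m + 1), i.val = 1 := ⟨⟨1, by omega⟩, rfl⟩
  refine ⟨x 0 i1 1, ?_, ?_⟩
  · rw [tau_eq, gam_x, x_inv, ← tau_eq]; exact tau_sx (nm _) (nm _) 1
  rw [eq_top_iff, ← H67.SA.Pat_top]
  refine Pat_le.2 fun a b ab _ c => full_all h le_sup_left (nm 0) (full_of h le_sup_left
    (b := i1.rev) (nm _) (by fo) (by fo) fun c => ?_) a (nm a) b (nm b) ab c
  have := cm_cjs (x 0 i1 1) (lg h le_rfl i1 c)
  rwa [x_cm (by fo) (nm _) (by fo), one_mul] at this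

theorem gen1 (h : 5 ≤ m) (o : Even m) : ∃ a, a * (tau m F a)⁻¹ ∈ fx (tau m F) ∧
    fx (tau m F) ⊔ cjs a (fx (tau m F)) = ⊤ := by
  obtain ⟨k, hk⟩ := o
  obtain ⟨w, ew⟩ : ∃ i : Fin (m + 1), i.val = k := ⟨⟨k, by omega⟩, rfl⟩
  obtain ⟨i1, e1⟩ : ∃ i : Fin (m + 1), i.val = 1 := ⟨⟨1, by omega⟩, rfl⟩
  obtain ⟨i2, e2⟩ : ∃ i : Fin (m + 1), i.val = 2 := ⟨⟨2, by omega⟩, rfl⟩
  have rw' : w.rev = w := by fo
  refine ⟨x 0 w 1 * x w (la m) 1, ?_, ?_⟩
  · rw [map_mul, tau_eq, gam_x, gam_x, rw', Fin.rev_zero, Fin.rev_last, _root_.mul_inv_rev,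
      ← mul_assoc, ← cm, x_cm (by fo) (by fo) (by fo), ← tau_eq]
    simpa only [Fin.rev_zero] using lg h le_rfl 0 (1 * 1 : F)
  generalize hH : fx (tau m F) ⊔ cjs (x 0 w 1 * x w (la m) 1) (fx (tau m F)) = H
  have l : fx (tau m F) ≤ H := hH ▸ le_sup_left
  have k1 : ∀ c, x 0 i1.rev c * (x i1 w c * x w i1.rev c) ∈ H := fun c => by
    have := inv_mem (hH ▸ cm_cjs (x 0 w 1 * x w (la m) 1) (show sx i1 0 c ∈ fx (tau m F) from
      tau_sx (by fo) (by fo) c))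
    convert this using 1
    have a1 := H67.SA.x_conj (i := i1) (j := 0) (k := w) (by fo) (by fo) (by fo) c (1 : F)
    have a2 := x_cm (i := w) (j := la m) (k := i1.rev) (by fo) (by fo) (by fo) (1 : F) c
    have a3 := H67.SA.x_conj (i := 0) (j := w) (k := i1.rev) (by fo) (by fo) (by fo) (1 : F) c
    have a4 := x_comm (i := la m) (j := i1.rev) (k := 0) (l := w) (by fo) (by fo) c (1 : F)
    have a5 := x_comm (i := i1) (j := 0) (k := w) (l := la m) (by fo) (by fo) c (1 : F)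
    have a6 := x_comm (i := i1) (j := 0) (k := w) (l := i1.rev) (by fo) (by fo) c c
    have a7 := x_comm (i := 0) (j := i1.rev) (k := i1) (l := w) (by fo) (by fo) c c
    have a8 := x_comm (i := w) (j := la m) (k := w) (l := i1.rev) (by fo) (by fo) (1 : F) c
    have a9 := x_mul_self w i1.rev c
    rw [mul_one] at a1
    rw [one_mul] at a2 a3
    rw [sx, Fin.rev_zero]
    generalize x i1 0 c = A at *
    generalize x (la m) i1.rev c = B at *
    generalize x 0 w (1 : F) = C at *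
    generalize x w (la m) (1 : F) = D at *
    generalize x w i1.rev c = E at *
    have b1 : B * D * B⁻¹ = E * D := by
      rw [← inv_eq_of_mul_eq_one_right a9, ← a2, cm]; group
    calc _ = x i1 w c * (x 0 i1.rev c * E) := by rw [← mul_assoc, a7, mul_assoc]
      _ = A * C * A⁻¹ * (E * D) * (C * D)⁻¹ := by rw [← a3, a1]; group
      _ = A * C * (A⁻¹ * (E * D) * A) * A⁻¹ * (C * D)⁻¹ := by group
      _ = A * (B * C * B⁻¹) * (B * D * B⁻¹) * A⁻¹ * (C * D)⁻¹ := by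
        rw [a4, mul_inv_cancel_right, b1, mul_assoc A⁻¹, mul_assoc E, ← a5, ← mul_assoc E, ← a6,
          mul_assoc A E, inv_mul_cancel_left]
      _ = _ := by simp only [cm]; group
  have k2 : ∀ c, x i2 i1.rev c ∈ H := fun c => by
    have := cm_mem (l (tau_sx (i := i2) (j := 0) (by fo) (by fo) 1)) (k1 c)
    rwa [cm_r, sx, cm_l (x_comm (by fo) (by fo) _ _), x_cm (by fo) (by fo) (by fo), one_mul] at this
    exact (Commute.mul_left (Commute.mul_right (x_comm (by fo) (by fo) _ _)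
      (x_comm (by fo) (by fo) _ _)) (Commute.mul_right (x_comm (by fo) (by fo) _ _)
      (x_comm (by fo) (by fo) _ _))).eq
  have k3 := full_all h l (a := i2) (by fo) (full_of h l (by fo) (by fo) (by fo) k2)
  have k4 : ∀ c, x i1 w c * x w i1.rev c ∈ H := fun c => by
    have := mul_mem (inv_mem (k3 0 (by fo) i1.rev (by fo) (by fo) c)) (k1 c)
    rwa [inv_mul_cancel_left] at this
  have k5 : ∀ c, x 0 w c ∈ H := fun c => by
    have := cm_mem (k3 0 (by fo) i1 (by fo) (by fo) 1) (k4 c)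
    rwa [cm_r (x_comm (by fo) (by fo) _ _), x_cm (by fo) (by fo) (by fo), one_mul] at this
  have k6 : ∀ c, x w 0 c ∈ H := fun c => by
    have := cm_mem (k4 c) (k3 i1.rev (by fo) 0 (by fo) (by fo) 1)
    have a := x_cm (i := w) (j := i1.rev) (k := 0) (by fo) (by fo) (by fo) c (1 : F)
    rw [mul_one] at a
    have b := mul_mem (mul_mem (inv_mem (k4 c)) this) (k4 c)
    convert b using 1
    have a1 := x_comm (i := i1) (j := w) (k := i1.rev) (l := 0) (by fo) (by fo) c (1 : F)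
    have a2 := x_comm (i := w) (j := i1.rev) (k := w) (l := 0) (by fo) (by fo) c c
    calc _ = (x w i1.rev c)⁻¹ * (x w i1.rev c * x w 0 c) := by group
      _ = (x w i1.rev c)⁻¹ * cm (x w i1.rev c) (x i1.rev 0 1) * x w i1.rev c := by
        rw [a2, a, mul_assoc]
      _ = _ := by
        simp only [cm, _root_.mul_inv_rev, mul_assoc, inv_mul_cancel_left]
        rw [← mul_assoc (x i1.rev 0 1)⁻¹, ← (Commute.inv_right a1).eq, mul_assoc, inv_mul_cancel_left]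
  rw [eq_top_iff, ← H67.SA.Pat_top]
  refine Pat_le.2 fun a b ab _ c => ?_
  by_cases ha : a = w
  · by_cases hb : b = 0
    · exact ha ▸ hb ▸ k6 c
    have := cm_mem (k6 c) (k3 0 (by fo) b (by fo) (Ne.symm hb) 1)
    rwa [x_cm (by fo) (Ne.symm hb) (ha ▸ ab), mul_one, ← ha] at this
  by_cases hb : b = w
  · by_cases h0 : a = 0
    · exact h0 ▸ hb ▸ k5 c
    have := cm_mem (k3 a (by fo) 0 (by fo) h0 1) (k5 c)
    rwa [x_cm h0 (by fo) ha, one_mul, ← hb] at this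
  exact k3 a (by fo) b (by fo) ab c

end H81.YL
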