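import Cfsg.Agent.H64.YEMod
import Cfsg.Agent.H29.SAFG
import Cfsg.Agent.H76.SAFB
import Cfsg.Agent.H3.SaFC2
import Cfsg.Agent.H67.SAFA
import Cfsg.Agent.H72.SPFR

/-! STD-SP (row S3129), endgame, the linear models: slots.  `Y = SL_(m+1)(F)`, `m ≥ 5`. -/

set_option autoImplicit false
set_option linter.unusedSectionVars false

namespace H81.YL

open H64.SG (O2 Syl Cz Cs Ns cjs Is2 Inv2 fx)
open Matrix H57 Subgroup H67.UA H64.YE
open H67.SA (SLn Au la x gam out)

/-- A statement for all `m ≥ 5`. -/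
def AllL (P : ∀ (_ : ℕ) (F : Type) [Field F] [StarRing F] [TrivialStar F] [CharP F 2] [Finite F],
    Prop) : Prop :=
  ∀ (m : ℕ) (F : Type) [Field F] [StarRing F] [TrivialStar F] [CharP F 2] [Finite F], 5 ≤ m → P m F

section

variable {m : ℕ} {F : Type} [Field F] [StarRing F] [TrivialStar F] [CharP F 2] [Finite F]

/-- the form `hf (v y) z` is alternating -/
def Al (v : SLn m F) : Prop := ∀ y : Vn m F, hf (v.1 *ᵥ y) y = 0

theorem tau_eq : tau m F = gam m F := MulEquiv.toMonoidHom_injective (H67.SA.hom_ext fun i j _ c => by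
  change tau m F _ = gam m F _
  rw [tau_x, H67.SA.gam_x, star_trivial])

omit [TrivialStar F] in
theorem hf_tau (g : SLn m F) (a b : Vn m F) : hf (g.1 *ᵥ a) b = hf a ((tau m F g⁻¹).1 *ᵥ b) := by
  simp only [hf, mulVec, dotProduct, tau_inv_apply, star_sum, star_mul', star_star, Fin.rev_rev,
    Finset.sum_mul, Finset.mul_sum]
  rw [Finset.sum_comm]
  refine Finset.sum_congr rfl fun i _ => ?_
  rw [← Equiv.sum_comp Fin.revPerm]
  exact Finset.sum_congr rfl fun j _ => by simp [mul_comm, mul_left_comm]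

theorem par (h : 5 ≤ m) : H67.SA.Par m F := ⟨by omega, fun _ => by omega⟩
theorem fa (h : 5 ≤ m) : H67.SA.FA m F := H67.SA.jobFA m F (par h)
theorem fb (h : 5 ≤ m) : H67.SA.FB m F := H76.SAFB.jobFB m F (par h)
theorem fc (h : 5 ≤ m) : H67.SA.FC m F := H3.SA.jobFC H67.SA.jobFA m F (par h)

end

/-- Twisted conjugacy = congruence of the symmetric forms `hf (v y) z`. -/
def JobSY : Prop := AllL fun m F _ _ _ _ _ => ∀ v : SLn m F, v * tau m F v = 1 →
  (Even m → ¬ Al v) ∧ ∀ v', v' * tau m F v' = 1 → (Al v ↔ Al v') → ∃ g, v = g * v' * (tau m F g)⁻¹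

/-- An involution that generates a `2`-group with `gam` has no diagonal part. -/
def JobIN : Prop := AllL fun m F _ _ _ _ _ => ∀ β : Au m F, β * β = 1 → Is2 (β * gam m F) → ∃ y,
  β = MulAut.conj y * slField _ F (out m F β).1 ∨
    β = MulAut.conj y * (slField _ F (out m F β).1 * gam m F)

/-- The graph-field analogue of `H29.SA.ft`. -/
def JobGF : Prop := AllL fun m F _ _ _ _ _ => ∀ (σ : RingAut F) (y : SLn m F), σ ≠ 1 → σ * σ = 1 →
  MulAut.conj y * (slField _ F σ * gam m F) * (MulAut.conj y * (slField _ F σ * gam m F)) = 1 →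
  ∃ h, MulAut.conj y * (slField _ F σ * gam m F) =
    MulAut.conj h * (slField _ F σ * gam m F) * (MulAut.conj h)⁻¹

/-- Centralisers of involutions. -/
def JobBI : Prop := AllL fun m F _ _ _ _ _ => ∀ y : SLn m F, Inv2 y →
  Big (Nat.card F ^ (((m + 1) / 2) ^ 2 + 1)) (MulAut.conj y)

/-- Field and graph-field involutions in odd dimension. -/
def JobB3 : Prop := AllL fun m F _ _ _ _ _ => Even m → ∀ β : Au m F, β * β = 1 →
  (out m F β).1 ≠ 1 → Big (Nat.card F ^ (((m + 1) / 2) ^ 2 + 1)) β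

/-- Alternating involutions of `Sp_(n+1)(q)`, `q ≥ 4`. -/
def JobO2 : Prop := AllM fun n F _ _ _ _ _ => 2 < Nat.card F → ∀ u : XU n F, Inv2 u → H67.SP.Alt u →
  u ∈ O2 (Cz u)

def JobNL : Prop := AllL fun m F _ _ _ _ _ => 6 ≤ m → NA (SLn m F)

def JobLD : Prop := AllL fun m F _ _ _ _ _ => Nat.card F = 2 → LD (tau m F) (x 0 (la m) 1)
  (H67.SA.ZZ m F) (H67.SA.QQ m F) (H67.SA.Er m F) (H67.SA.Ec m F)

end H81.YL
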