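import Cfsg.Agent.H81.YLA
import Cfsg.Agent.H59.S3MU1
import Cfsg.Agent.H99.YLGF
import Cfsg.Agent.H9.YLO2
import Cfsg.Agent.H20.YLSY
import Cfsg.Agent.H3.YLBI

/-! STD-SP (row S3129), endgame, the linear models: assembly. -/

set_option autoImplicit false
set_option linter.unusedSectionVars false

namespace H81.YL

open H64.SG (O2 Syl Cz Cs Ns cjs Is2 Inv2 fx)
open Matrix H57 Subgroup H64.YE H67.UA H72.SPF
open H67.SP (Base FV FW FA FO Alt kk xb fs ins mid)
open H67.SA (SLn Au la x gam out cm UU)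
open H64.SF (Outer)

variable {n m : ℕ} {F : Type} [Field F] [StarRing F] [TrivialStar F] [CharP F 2] [Finite F]

theorem out_ne (h : 5 ≤ m) {β : Au m F} (h1 : β * β = 1) (h2 : Is2 (β * tau m F)) (h3 : Outer β)
    (h4 : Outer (β * tau m F)) : (out m F β).1 ≠ 1 := fun e => by
  rcases H67.SA.z2_cases (out m F β).2 with k | k
  · obtain ⟨s, -, hs⟩ := H67.SA.inner_of_out (by omega) (Prod.ext e k) (H64.SG.is2_of_sq h1)
    exact h3 s hs
  · obtain ⟨s, -, hs⟩ := H67.SA.inner_of_out (by omega) (β := β * tau m F) (by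
      rw [map_mul, tau_eq, H67.SA.out_gam (by omega)]
      exact Prod.ext (by simpa using e) (by rw [Prod.snd_mul, k]; exact H67.SA.z2_mul_self _)) h2
    exact h4 s hs

theorem field_gam (σ : RingAut F) : slField _ F σ * gam m F = gam m F * slField _ F σ :=
  MulEquiv.toMonoidHom_injective (H67.SA.hom_ext fun i j _ c => by
    change slField _ F σ (gam m F _) = gam m F (slField _ F σ _)
    rw [H67.SA.gam_x, H67.SA.slField_x, H67.SA.slField_x, H67.SA.gam_x])

/-- What the two models share. -/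
theorem model (ld : JobLD) (h : 5 ≤ m) (hk : (m + 1) / 2 = kk n) (h6 : Nat.card F = 2 → 6 ≤ m)
    {ι : XU n F →* SLn m F} {Gd : XU n F → Prop} (fix : ∀ y, tau m F y = y ↔ y ∈ ι.range)
    (s : HS ι Gd) (m2 : M2 ι (tau m F) Gd) (m3 : M3 ι (tau m F) Gd) : Mod ι (tau m F) Gd := by
  have r : ι.range = fx (tau m F) := Subgroup.ext fun y => (fix y).symm
  have bi : BigI n F (SLn m F) := fun y hy => by
    have := H3.YL.jobBI m F h y hy
    rwa [hk] at this
  refine ⟨UU m F, ⟨⟨tau_mul_self, fix, H67.SA.syl_UU, tau_eq (m := m) (F := F) ▸ H67.SA.gam_UU,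
    tne h, ?_⟩, m2, qs h, m3⟩, Or.inr (Or.inr ?_)⟩
  · obtain ⟨a, h1, h2⟩ := (Nat.even_or_odd m).elim (gen1 (F := F) h) (gen0 h)
    rw [← r] at h1 h2
    obtain ⟨u, hu⟩ := h1
    exact ⟨a, u, hu.symm, h2⟩
  by_cases q : Nat.card F = 2
  · exact Or.inl ⟨bi, H20.YLSY.jobNL m F h (h6 q), mia h fix, _, _, _, _, _, mc h s, rd h s q,
      ld m F h q⟩
  · refine Or.inr (Or.inl ⟨bi, ?_, m, h, ⟨MulEquiv.refl _⟩⟩)
    obtain ⟨f, f1, e⟩ := H67.SA.exists_card_eq (F := F)
    rw [e] at q ⊢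
    exact Nat.pow_le_pow_right (i := 2) two_pos (by rcases f1.eq_or_lt with rfl | k; simp at q; omega)

theorem jobML0' (ld : JobLD) : JobML0 := by
  intro n F _ _ _ _ _ p b fc fo
  have h := p.five
  have sy := H20.YLSY.jobSY n F h
  have tf : ∀ u : XU n F, tau n F (io n F u) = io n F u := fun u => u.2
  have tw : ∀ u : XU n F, u * u = 1 → io n F u * tau n F (io n F u) = 1 := fun u hu => by
    rw [tf, ← map_mul, hu, map_one]
  have a1 : Al (1 : SLn n F) := fun y => by rw [H67.SA.val_one, one_mulVec, hx]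
  have b2 : xb n F * xb n F = 1 := sqE (hf_zero_left _) 1
  have b3 : ¬ Alt (xb n F) := fun k => one_ne_zero ((altE (ev_ne 0) (hf_zero_left _) 1).1 k)
  refine ⟨model ld h rfl (fun q => by have := p.four; have := p.odd; omega) (fun y => ?_)
    (fun i j c hi hj ij _ => ?_) ⟨fun u hu k => ?_, fun v hv => ?_⟩ fun β h1 h2 h3 h4 => Or.inr ?_,
    fun u hu k => (sy _ (tw u hu.1)).2 _ (tw _ b2) (iff_of_false k b3)⟩
  · rw [range_subtype]; rfl
  · have o : hf (c • ev i : Vn n F) (ev j.rev) = 0 := by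
      rw [hf_smul_left, hf_ev, if_neg (by simpa using ij.symm), mul_zero]
    refine ⟨ss i j c, sqE o 0, (altE (ev_ne _) o 0).2 rfl, Subtype.ext ?_⟩
    change mt (ss i j c) = _
    have k : op (ev j.rev : Vn n F) (ev i) = single j.rev i.rev 1 := by rw [← op_ev, Fin.rev_rev]
    rw [mt_EE (FV.ok _ _ 0 o), mE, sx, H67.SA.val_mul, H67.SA.x_coe ij,
      H67.SA.x_coe (by simpa using ij.symm), op_smul_left, op_smul_right, star_trivial, op_ev, k]
    simp only [add_mul, mul_add, one_mul, mul_one, smul_single, smul_eq_mul, zero_smul, add_zero]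
    rw [single_mul_single_of_ne _ _ _ _ hj, add_zero]
    abel
  · simpa using (sy _ (tw u hu)).2 1 (by simp) (iff_of_true k a1)
  · by_cases k : Al v
    · obtain ⟨g, e⟩ := (sy v hv).2 1 (by simp) (iff_of_true k a1)
      exact ⟨g, 1, one_mul 1, by rwa [map_one]⟩
    · obtain ⟨g, e⟩ := (sy v hv).2 _ (tw _ b2) (iff_of_false k b3)
      exact ⟨g, _, b2, e⟩
  have s1 := out_ne h h1 h2 h3 h4
  have s2 : (out n F β).1 * (out n F β).1 = 1 := by rw [← Prod.fst_mul, ← map_mul, h1, map_one]; rfl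
  have k := H99.YLGF.jobIN n F h β h1 (tau_eq (m := n) (F := F) ▸ h2)
  generalize (out n F β).1 = σ at s1 s2 k
  have f1 : fs n F 1 = 1 := by simpa using FA.fs_mul (n := n) (1 : RingAut F) 1
  have o : Outer (fs n F σ) := fun g e => by
    obtain ⟨o, ho⟩ := FA.out (n := n) (F := F)
    have := ho 1 σ
    rw [map_one, one_mul, e, ← mul_one (MulAut.conj g), ← f1, ho] at this
    exact s1 this.symm
  refine ⟨H9.SPG.jobO2 n F b fc fo ?_, ?_⟩
  · by_contra q
    have q : Nat.card F = 2 := by have := H67.SA.one_lt_card (F := F); omega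
    refine s1 (RingEquiv.ext fun a => ?_)
    by_cases a0 : a = 0
    · simp [a0]
    · simp [eq_one q a0]
  suffices k : ∃ g φ, β = MulAut.conj g * φ * (MulAut.conj g)⁻¹ ∧ φ * tau n F = tau n F * φ ∧
      ∀ u, φ (io n F u) = io n F (fs n F σ u) by
    obtain ⟨g, φ, e, k1, k2⟩ := k
    refine ⟨g⁻¹, φ, fs n F σ, xb n F, by rw [e, map_inv]; group, k1, k2, o,
      H67.SA.le_O2_of_perfect (fo.a4 _ (by rw [← FA.fs_mul, s2, f1]) o) ?_,
      ⟨b2, fun e => b3 (e ▸ fun y => by rw [ac_one, hx])⟩, b3⟩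
    change fs n F σ _ = _
    rw [FA.fs_EE σ _ _ _ (hf_zero_left _), map_one]
    congr 1
    · exact funext fun i => by rw [ev_apply]; split_ifs <;> simp
    · exact funext fun i => by simp
  obtain ⟨y, e | e⟩ := k
  · obtain ⟨g, hg⟩ := H29.SA.ft σ y s1 s2 (H67.SA.conj_eq_one.1 (MulEquiv.ext fun a => by
      have := congrArg (fun f : Au n F => f a) h1
      have k : slField _ F σ (slField _ F σ a) = a := by
        rw [← MulAut.mul_apply, ← map_mul, s2, map_one, MulAut.one_apply]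
      simpa [e, k, mul_assoc] using this))
    exact ⟨g, _, e.trans hg, by rw [tau_eq, field_gam], fun u => rfl⟩
  · obtain ⟨g, hg⟩ := H99.YLGF.jobGF n F h σ y s1 s2 (e ▸ h1)
    exact ⟨g, _, e.trans hg, by rw [tau_eq, field_gam, mul_assoc, field_gam], fun u => by
      rw [MulAut.mul_apply, ← tau_eq, tf]; rfl⟩

theorem jobML1' (ld : JobLD) : JobML1 := by
  intro n F _ _ _ _ _ p b fc fo
  have h : 5 ≤ n + 1 := by have := p.five; omega
  have hn := p.odd
  have ev' : Even (n + 1) := hn.add_one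
  have sy := H20.YLSY.jobSY (n + 1) F h
  have hk : (n + 1 + 1) / 2 = kk n := by rw [kk]; obtain ⟨k, hk⟩ := hn; omega
  have tf : ∀ u : XU n F, tau (n + 1) F (iL n F u) = iL n F u := fun u => (ins n F u).2
  have one : ∀ v : SLn (n + 1) F, v * tau (n + 1) F v = 1 → ∃ g, v = g * (tau (n + 1) F g)⁻¹ :=
    fun v hv => by
      simpa using (sy v hv).2 1 (by simp) (iff_of_false ((sy v hv).1 ev') ((sy 1 (by simp)).1 ev'))
  have fix : ∀ y, tau (n + 1) F y = y ↔ y ∈ (iL n F).range := fun y => by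
    refine ⟨fun e => ?_, fun ⟨u, e⟩ => e ▸ tf u⟩
    have k : ∀ z : Vn (n + 1) F, hf z z = hf z (ev (mid n)) ^ 2 := fun z => by
      rw [H59.S3MU1.hf_mid hn z z, hx, add_zero, H59.S3MU1.hf_m hn, star_trivial, sq]
    obtain ⟨u, hu⟩ := H59.S3MU1.ins_rng hn (⟨y, e⟩ : XU (n + 1) F) (eq_of_hf fun z => by
      rw [hf_ac_left, hs, hs _ z]
      exact sq_inj (by rw [← k, ← k, hf_ac]))
    exact ⟨u, congrArg Subtype.val hu⟩
  refine model ld h hk (fun _ => by have := p.five; omega) fix (fun i j c hi hj _ _ => ?_)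
    ⟨fun u hu _ => one _ (by rw [tf, ← map_mul, hu, map_one]), fun v hv => ?_⟩
    fun β h1 h2 h3 h4 => Or.inl ?_
  · obtain ⟨u, hu⟩ := (fix _).1 (tau_sx hi hj c)
    exact ⟨u, (subtype_injective _).comp (H59.S3MU1.ins_inj hn) (show iL n F _ = iL n F _ by
      rw [map_mul, hu, sx_sq hi hj, map_one]), trivial, hu⟩
  · obtain ⟨g, e⟩ := one v hv
    exact ⟨g, 1, one_mul 1, by rwa [map_one, mul_one]⟩
  · have := H3.YL.jobB3 (n + 1) F h ev' β h1 (out_ne h h1 h2 h3 h4)
    rwa [hk] at this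

end H81.YL
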